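import Mathlib

/-! The automorphisms of an elementary abelian group of order 2^11. -/

set_option autoImplicit false

namespace Cfsg.Agent.Block.M23Up

/-- The order of `GL(11, 2)`. -/
def gl11 : ℕ := ((List.range 11).map fun i => 2 ^ 11 - 2 ^ i).prod

/-- The automorphism group embeds in `GL(11, 2)`. -/
theorem card_mulAut_dvd {V : Type*} [CommGroup V] [Finite V] (sq : ∀ x : V, x * x = 1)
    (hV : Nat.card V = 2 ^ 11) : Nat.card (MulAut V) ∣ gl11 := by
  haveI : Fact (Nat.Prime 2) := ⟨Nat.prime_two⟩
  letI : Module (ZMod 2) (Additive V) := AddCommGroup.zmodModule fun x => by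
    refine Additive.toMul.injective ?_
    rw [toMul_nsmul, pow_two, toMul_zero]
    exact sq _
  haveI : Module.Finite (ZMod 2) (Additive V) := Module.Finite.of_finite
  have hr : Module.finrank (ZMod 2) (Additive V) = 11 := by
    have h := Module.natCard_eq_pow_finrank (K := ZMod 2) (V := Additive V)
    rw [Nat.card_congr (Additive.ofMul (α := V)).symm, hV, Nat.card_zmod] at h
    exact (Nat.pow_right_injective le_rfl h).symm
  let b := Module.finBasisOfFinrankEq (ZMod 2) (Additive V) hr
  let lin : MulAut V → (Additive V →ₗ[ZMod 2] Additive V) := fun e =>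
    (MonoidHom.toAdditive e.toMonoidHom).toZModLinearMap 2
  let f : MulAut V →* Matrix (Fin 11) (Fin 11) (ZMod 2) :=
    { toFun := fun e => LinearMap.toMatrix b b (lin e)
      map_one' := by
        rw [show lin 1 = LinearMap.id from LinearMap.ext fun _ => rfl, LinearMap.toMatrix_id]
      map_mul' := fun e e' => by
        rw [show lin (e * e') = (lin e).comp (lin e') from LinearMap.ext fun _ => rfl,
          LinearMap.toMatrix_comp b b b] }
  have hf : Function.Injective f.toHomUnits := by
    intro e e' k
    have k1 : lin e = lin e' := (LinearMap.toMatrix b b).injective (congrArg Units.val k)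
    exact MulEquiv.ext fun x => congrArg Additive.toMul (LinearMap.congr_fun k1 (Additive.ofMul x))
  have h := Subgroup.card_dvd_of_injective f.toHomUnits hf
  rw [Matrix.card_GL_field, ZMod.card] at h
  refine h.trans (dvd_of_eq ?_)
  rw [gl11, Fin.prod_univ_eq_prod_range (fun i => 2 ^ 11 - 2 ^ i) 11]
  rfl

end Cfsg.Agent.Block.M23Up
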