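import Cfsg.Agent.Lib.Block.FischerTypes.M23Up.Uniq
import Cfsg.Agent.Lib.Block.FischerTypes.M23Products
import Cfsg.Agent.Lib.Block.FischerTypes.M23Order
import Cfsg.Agent.Lib.Block.FischerTypes.M22Triples
import Cfsg.Agent.Lib.Block.FischerTypes.M23Invol

/-! The maximal set of commuting members in type M(23) and the elementary abelian group of order 2^11 it generates. -/

set_option autoImplicit false
set_option linter.style.haveILetI false
set_option linter.unusedSectionVars false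

namespace Cfsg.Agent.Block.M23Up

open Cfsg Cfsg.Agent.Spor.ThreeTrans Cfsg.Agent.Block.FischerTypes

variable {M : Type*} [Group M] [Finite M] {E : Set M} {d₀ : M}

/-- The two-subgroup of `M` under a Sylow subgroup of the group below `d₀`. -/
def sylIn (T : Sylow 2 ↥(PerpGroup E d₀)) : Subgroup M :=
  (T : Subgroup ↥(PerpGroup E d₀)).map (PerpGroup E d₀).subtype

/-- The members in it. -/
def cliq (T : Sylow 2 ↥(PerpGroup E d₀)) : Set M := {x | x ∈ E ∧ x ∈ sylIn T}

/-- What they generate. -/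
def big (T : Sylow 2 ↥(PerpGroup E d₀)) : Subgroup M := Subgroup.closure (cliq T)

theorem sylIn_le (T : Sylow 2 ↥(PerpGroup E d₀)) : sylIn T ≤ PerpGroup E d₀ := Subgroup.map_subtype_le _

theorem sylIn_two (T : Sylow 2 ↥(PerpGroup E d₀)) : IsPGroup 2 ↥(sylIn T) := T.2.map _

theorem big_le (T : Sylow 2 ↥(PerpGroup E d₀)) : big T ≤ sylIn T :=
  (Subgroup.closure_le _).mpr fun _ hx => hx.2

theorem cliq_eq (T : Sylow 2 ↥(PerpGroup E d₀)) : cliq T = {x | x ∈ E ∧ x ∈ big T} :=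
  Set.ext fun _ => ⟨fun hx => ⟨hx.1, Subgroup.subset_closure hx⟩, fun hx => ⟨hx.1, big_le T hx.2⟩⟩

variable (B : M23.Base E) (hd₀ : d₀ ∈ E)
include B hd₀

theorem card_center : Nat.card ↥(Subgroup.center ↥(PerpGroup E d₀)) = 2 := by
  rw [M23.centre B hd₀, Nat.card_congr (Subgroup.subgroupOfEquivOfLe
    (Subgroup.zpowers_le.mpr (M23.self B hd₀))).toEquiv, Nat.card_zpowers, B.set.cls.1.1 d₀ hd₀]

theorem center_mem (T : Sylow 2 ↥(PerpGroup E d₀)) :
    Subgroup.center ↥(PerpGroup E d₀) ≤ (T : Subgroup ↥(PerpGroup E d₀)) := by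
  haveI : Fact (Nat.Prime 2) := ⟨Nat.prime_two⟩
  obtain ⟨P, hP⟩ := (IsPGroup.of_card (n := 1) (card_center B hd₀) :
    IsPGroup 2 ↥(Subgroup.center ↥(PerpGroup E d₀))).exists_le_sylow
  obtain ⟨g, rfl⟩ := MulAction.exists_smul_eq ↥(PerpGroup E d₀) P T
  intro x hx
  have := Subgroup.smul_mem_pointwise_smul _ (MulAut.conj g) _ (hP hx)
  rwa [MulAut.smul_def, MulAut.conj_apply, Subgroup.mem_center_iff.mp hx g, mul_inv_cancel_right] at this

theorem self_mem_cliq (T : Sylow 2 ↥(PerpGroup E d₀)) : d₀ ∈ cliq T :=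
  ⟨hd₀, ⟨_, M23.self B hd₀⟩, center_mem B hd₀ T (by
    rw [M23.centre B hd₀, Subgroup.mem_subgroupOf]
    exact Subgroup.mem_zpowers d₀), rfl⟩

theorem cliq_commute (T : Sylow 2 ↥(PerpGroup E d₀)) {x y : M} (hx : x ∈ cliq T) (hy : y ∈ cliq T) :
    Commute x y :=
  M22Thompson.commute_in_two_group B.set.cls (sylIn_two T) hx.1 hy.1 hx.2 hy.2

theorem big_elem (T : Sylow 2 ↥(PerpGroup E d₀)) : Elem (big T) :=
  elem_closure (fun _ hx _ hy => cliq_commute B hd₀ T hx hy) fun _ hx => mul_self B.set.cls.1 hx.1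

/-- The preimage of a group in the quotient. -/
theorem card_preimage (J : Subgroup (PerpQuot E d₀)) :
    Nat.card ↥(J.comap (QuotientGroup.mk' (Subgroup.center ↥(PerpGroup E d₀)))) = 2 * Nat.card ↥J := by
  have h1 := (J.comap (QuotientGroup.mk' (Subgroup.center ↥(PerpGroup E d₀)))).card_mul_index
  rw [J.index_comap_of_surjective (QuotientGroup.mk'_surjective _),
    Subgroup.card_eq_card_quotient_mul_card_subgroup (Subgroup.center ↥(PerpGroup E d₀)), card_center B hd₀,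
    show Nat.card (↥(PerpGroup E d₀) ⧸ Subgroup.center ↥(PerpGroup E d₀)) = Nat.card ↥J * J.index from
      J.card_mul_index.symm, show Nat.card ↥J * J.index * 2 = 2 * Nat.card ↥J * J.index by ring] at h1
  exact Nat.eq_of_mul_eq_mul_right (Nat.pos_of_ne_zero Subgroup.index_ne_zero_of_finite) h1

theorem uniq_perp : Uniq (PerpGroup E d₀) := by
  haveI : Fact (Nat.Prime 2) := ⟨Nat.prime_two⟩
  have C := B.ctx d₀ hd₀
  intro Q hQ hp A A' hA hA' hel hel' hc hc'
  let π := QuotientGroup.mk' (Subgroup.center ↥(PerpGroup E d₀))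
  obtain ⟨T', hT'⟩ := ((hp.comap_of_injective (PerpGroup E d₀).subtype Subtype.val_injective :
    IsPGroup 2 ↥(Q.subgroupOf (PerpGroup E d₀))).map π).exists_le_sylow
  let J := Subgroup.closure {x | x ∈ perpSet E d₀ ∧ x ∈ (T' : Subgroup (PerpQuot E d₀))}
  have key : ∀ B' : Subgroup M, B' ≤ Q → Elem B' → 2 ^ 11 ≤ Nat.card ↥B' →
      B'.subgroupOf (PerpGroup E d₀) = J.comap π := by
    intro B' hB hBel hBc
    have hB2 : Elem (B'.subgroupOf (PerpGroup E d₀)) :=
      ⟨fun x hx y hy => Subtype.ext (hBel.1 _ hx _ hy).eq, fun x hx => Subtype.ext (hBel.2 _ hx)⟩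
    have hBcard : Nat.card ↥(B'.subgroupOf (PerpGroup E d₀)) = Nat.card ↥B' :=
      Nat.card_congr (Subgroup.subgroupOfEquivOfLe (hB.trans hQ)).toEquiv
    have hle : Nat.card ↥(B'.subgroupOf (PerpGroup E d₀)) ≤
        2 * Nat.card ↥((B'.subgroupOf (PerpGroup E d₀)).map π) := by
      rw [← card_preimage B hd₀]
      exact Subgroup.card_le_of_le (Subgroup.le_comap_map _ _)
    have hT : (B'.subgroupOf (PerpGroup E d₀)).map π ≤ (T' : Subgroup (PerpQuot E d₀)) :=
      (Subgroup.map_mono (Subgroup.comap_mono hB)).trans hT'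
    have e := top_eq C T' hT (hB2.map π) (Nat.le_of_mul_le_mul_left
      (le_trans ((show (2 * 1024 : ℕ) ≤ 2 ^ 11 by norm_num).trans (hBc.trans hBcard.ge)) hle) (by norm_num))
    refine Subgroup.eq_of_le_of_card_ge ((Subgroup.le_comap_map _ _).trans (Subgroup.comap_mono e.le)) ?_
    rw [card_preimage B hd₀, (top_clique C T').2.1, hBcard]
    norm_num at hBc ⊢
    exact hBc
  have e := (key A hA hel hc).trans (key A' hA' hel' hc').symm
  rw [Subgroup.subgroupOf_inj, inf_eq_left.mpr (hA.trans hQ), inf_eq_left.mpr (hA'.trans hQ)] at e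
  exact e

/-- Twenty-three members generating order 2^11. -/
theorem cliq_facts (T : Sylow 2 ↥(PerpGroup E d₀)) :
    (cliq T).ncard = 23 ∧ Nat.card ↥(big T) = 2 ^ 11 := by
  haveI : Fact (Nat.Prime 2) := ⟨Nat.prime_two⟩
  have C := B.ctx d₀ hd₀
  have h := B.set.cls
  let π := QuotientGroup.mk' (Subgroup.center ↥(PerpGroup E d₀))
  let T' : Sylow 2 (PerpQuot E d₀) := T.mapSurjective (QuotientGroup.mk'_surjective _)
  obtain ⟨h22, h1024, -⟩ := top_clique C T'
  have hT' : ∀ x : ↥(PerpGroup E d₀), π x ∈ (T' : Subgroup (PerpQuot E d₀)) ↔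
      x ∈ (T : Subgroup ↥(PerpGroup E d₀)) := by
    intro x
    rw [Sylow.coe_mapSurjective, ← Subgroup.mem_comap, Subgroup.comap_map_eq, QuotientGroup.ker_mk',
      sup_eq_left.mpr (center_mem B hd₀ T)]
  have hd : d₀ ∈ cliq T := self_mem_cliq B hd₀ T
  have hperp : ∀ x ∈ cliq T, x ≠ d₀ → x ∈ perp E d₀ := fun x hx k =>
    ⟨hx.1, k, cliq_commute B hd₀ T hd hx⟩
  have himg : (fun u : {u // u ∈ cliq T ∧ u ≠ d₀} => pr E d₀ u (hperp u u.2.1 u.2.2)) '' Set.univ =
      {x | x ∈ perpSet E d₀ ∧ x ∈ (T' : Subgroup (PerpQuot E d₀))} := by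
    ext q
    constructor
    · rintro ⟨⟨u, ⟨hu, hud⟩⟩, -, rfl⟩
      refine ⟨pr_mem _, (hT' _).mpr ?_⟩
      obtain ⟨t, ht, hte⟩ := hu.2
      exact (show t = ⟨u, Subgroup.subset_closure (hperp u hu hud)⟩ from Subtype.ext hte) ▸ ht
    · rintro ⟨hq, hqT⟩
      obtain ⟨u, hu, rfl⟩ := exists_of_mem hq
      exact ⟨⟨u, ⟨hu.1, _, (hT' _).mp hqT, rfl⟩, hu.2.1⟩, trivial, rfl⟩
  have hinj : Function.Injective fun u : {u // u ∈ cliq T ∧ u ≠ d₀} => pr E d₀ u (hperp u u.2.1 u.2.2) :=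
    fun u v e => Subtype.ext (pr_injective h B.set.tf hd₀ _ _ e)
  refine ⟨?_, ?_⟩
  · have h1 : Nat.card {u // u ∈ cliq T ∧ u ≠ d₀} = 22 := by
      rw [← h22, ← himg, Set.ncard_image_of_injective _ hinj, Set.ncard_univ]
    have h2 : (cliq T \ {d₀}).ncard = 22 := by rw [← Nat.card_coe_set_eq, ← h1]; rfl
    rw [← Set.ncard_sdiff_singleton_add_one hd, h2]
  · have hle : big T ≤ PerpGroup E d₀ := (big_le T).trans (sylIn_le T)
    have hmap : ((big T).subgroupOf (PerpGroup E d₀)).map π =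
        Subgroup.closure {x | x ∈ perpSet E d₀ ∧ x ∈ (T' : Subgroup (PerpQuot E d₀))} := by
      refine le_antisymm ?_ ((Subgroup.closure_le _).mpr ?_)
      · have h1 : (big T).subgroupOf (PerpGroup E d₀) =
            Subgroup.closure {x : ↥(PerpGroup E d₀) | (x : M) ∈ cliq T} := by
          refine Subgroup.map_injective (PerpGroup E d₀).subtype_injective ?_
          rw [Subgroup.subgroupOf_map_subtype, inf_eq_left.mpr hle, MonoidHom.map_closure, big]
          congr 1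
          ext x
          exact ⟨fun hx => ⟨⟨x, sylIn_le T hx.2⟩, hx, rfl⟩, by rintro ⟨y, hy, rfl⟩; exact hy⟩
        rw [h1, MonoidHom.map_closure, Subgroup.closure_le]
        rintro _ ⟨x, hx, rfl⟩
        by_cases k : (x : M) = d₀
        · have : π x = 1 := (QuotientGroup.eq_one_iff x).mpr (by
            rw [M23.centre B hd₀, Subgroup.mem_subgroupOf, k]
            exact Subgroup.mem_zpowers d₀)
          rw [this]
          exact one_mem _
        · exact Subgroup.subset_closure (himg ▸ ⟨⟨x, hx, k⟩, trivial, rfl⟩)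
      · rw [← himg]
        rintro _ ⟨⟨u, hu, hud⟩, -, rfl⟩
        exact ⟨⟨u, Subgroup.subset_closure (hperp u hu hud)⟩, Subgroup.subset_closure hu, rfl⟩
    have hcen : Subgroup.center ↥(PerpGroup E d₀) ≤ (big T).subgroupOf (PerpGroup E d₀) := by
      intro z hz
      rw [M23.centre B hd₀, Subgroup.mem_subgroupOf] at hz
      exact Subgroup.mem_subgroupOf.mpr (Subgroup.zpowers_le.mpr (Subgroup.subset_closure hd) hz)
    have e : (big T).subgroupOf (PerpGroup E d₀) =
        (((big T).subgroupOf (PerpGroup E d₀)).map π).comap π := by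
      rw [Subgroup.comap_map_eq, QuotientGroup.ker_mk', sup_eq_left.mpr hcen]
    rw [← Nat.card_congr (Subgroup.subgroupOfEquivOfLe hle).toEquiv, e, card_preimage B hd₀, hmap, h1024]
    norm_num

/-- A Sylow two-subgroup of the group below a member is one of the whole group. -/
theorem two_le_conj {Q : Subgroup M} (hQ : IsPGroup 2 ↥Q) (T : Sylow 2 ↥(PerpGroup E d₀)) :
    ∃ g : M, Q.map (MulAut.conj g).toMonoidHom ≤ sylIn T := by
  haveI : Fact (Nat.Prime 2) := ⟨Nat.prime_two⟩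
  have h := B.set.cls
  have hE : E.ncard = 31671 := M23.total B ⟨d₀, hd₀⟩ (M23.counts B)
  have hM : Nat.card M = 31671 * Nat.card ↥(PerpGroup E d₀) := by
    have := M22.card_orbit (G := M) d₀
    rw [M22.orbit_conj h hd₀, hE, M23.centralizer_eq B hd₀] at this
    exact this.symm
  obtain ⟨P, hP⟩ := (sylIn_two T).exists_le_sylow
  have e : (P : Subgroup M) = sylIn T := by
    refine (Subgroup.eq_of_le_of_card_ge hP (le_of_eq ?_)).symm
    rw [sylIn, ← Nat.card_congr ((T : Subgroup ↥(PerpGroup E d₀)).equivMapOfInjective _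
      (PerpGroup E d₀).subtype_injective).toEquiv, T.card_eq_multiplicity, P.card_eq_multiplicity, hM,
      Nat.factorization_mul (by norm_num) (Nat.card_pos.ne'), Finsupp.add_apply,
      Nat.factorization_eq_zero_of_not_dvd (show ¬ 2 ∣ 31671 by norm_num), zero_add]
  obtain ⟨R, hR⟩ := hQ.exists_le_sylow
  obtain ⟨g, rfl⟩ := MulAction.exists_smul_eq M R P
  refine ⟨g, ?_⟩
  rw [← e]
  rintro _ ⟨x, hx, rfl⟩
  exact Subgroup.smul_mem_pointwise_smul _ (MulAut.conj g) _ (hR hx)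

theorem uniq_top : Uniq (⊤ : Subgroup M) := by
  intro Q _ hp A A' hA hA' hel hel' hc hc'
  haveI : Nonempty (Sylow 2 ↥(PerpGroup E d₀)) := Sylow.nonempty
  obtain ⟨g, hg⟩ := two_le_conj B hd₀ hp (Classical.arbitrary (Sylow 2 ↥(PerpGroup E d₀)))
  have hcc : ∀ K : Subgroup M, Nat.card ↥(K.map (MulAut.conj g).toMonoidHom) = Nat.card ↥K := fun K =>
    (Nat.card_congr (K.equivMapOfInjective _ (MulAut.conj g).injective).toEquiv).symm
  exact Subgroup.map_injective (MulAut.conj g).injective (uniq_perp B hd₀ _ (hg.trans (sylIn_le _))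
    (hp.map _) _ _ (Subgroup.map_mono hA) (Subgroup.map_mono hA') (hel.map _) (hel'.map _)
    (by rw [hcc]; exact hc) (by rw [hcc]; exact hc'))

/-- Commuting members go into the twenty-three. -/
theorem into_cliq (T : Sylow 2 ↥(PerpGroup E d₀)) {Y : Set M} (hY : Y ⊆ E)
    (hc : ∀ x ∈ Y, ∀ y ∈ Y, Commute x y) : ∃ g : M, ∀ y ∈ Y, g * y * g⁻¹ ∈ cliq T := by
  obtain ⟨g, hg⟩ := two_le_conj B hd₀ (elem_closure hc fun x hx => mul_self B.set.cls.1 (hY hx)).isPGroup T
  exact ⟨g, fun y hy => ⟨conj_mem B.set.cls g (hY hy), hg ⟨y, Subgroup.subset_closure hy, rfl⟩⟩⟩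

/-- The same below `d₀`. -/
theorem into_cliq_perp (T : Sylow 2 ↥(PerpGroup E d₀)) {Y : Set M} (hY : Y ⊆ perp E d₀)
    (hc : ∀ x ∈ Y, ∀ y ∈ Y, Commute x y) :
    ∃ g : M, g ∈ PerpGroup E d₀ ∧ ∀ y ∈ Y, g * y * g⁻¹ ∈ cliq T := by
  haveI : Fact (Nat.Prime 2) := ⟨Nat.prime_two⟩
  have hel := elem_closure hc fun x hx => mul_self B.set.cls.1 (hY hx).1
  have hle : Subgroup.closure Y ≤ PerpGroup E d₀ := Subgroup.closure_mono hY
  obtain ⟨R, hR⟩ := (hel.isPGroup.comap_of_injective (PerpGroup E d₀).subtype Subtype.val_injective :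
    IsPGroup 2 ↥((Subgroup.closure Y).subgroupOf (PerpGroup E d₀))).exists_le_sylow
  obtain ⟨g, rfl⟩ := MulAction.exists_smul_eq ↥(PerpGroup E d₀) R T
  refine ⟨g, g.2, fun y hy => ⟨conj_mem B.set.cls _ (hY hy).1, g * ⟨y, hle (Subgroup.subset_closure hy)⟩ * g⁻¹,
    ?_, rfl⟩⟩
  exact Subgroup.smul_mem_pointwise_smul _ (MulAut.conj g) _ (hR
    (show (⟨y, hle (Subgroup.subset_closure hy)⟩ : ↥(PerpGroup E d₀)) ∈
      (Subgroup.closure Y).subgroupOf (PerpGroup E d₀) from Subgroup.mem_subgroupOf.mpr (Subgroup.subset_closure hy)))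

/-- No product of one to six commuting members is trivial. -/
theorem no_rel {l : List M} (hn : l.Nodup) (h1 : 1 ≤ l.length) (h6 : l.length ≤ 6) (hl : ∀ x ∈ l, x ∈ E)
    (hc : ∀ x ∈ l, ∀ y ∈ l, Commute x y) : l.prod ≠ 1 := by
  have h := B.set.cls
  intro hp
  have split : ∀ (x : M) (r : List M), x :: r = l → r.prod = x ∧ Fact' E r.length x r := by
    rintro x r rfl
    have e : r.prod = x := by
      rw [List.prod_cons] at hp
      rw [eq_inv_of_mul_eq_one_right hp, inv_eq h.1 (hl x List.mem_cons_self)]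
    exact ⟨e, (List.nodup_cons.mp hn).2, rfl, fun y hy => hl y (List.mem_cons_of_mem _ hy),
      fun y hy z hz => hc y (List.mem_cons_of_mem _ hy) z (List.mem_cons_of_mem _ hz), e⟩
  have one : ∀ x ∈ l, Fact' E 1 x [x] := fun x hx =>
    ⟨List.nodup_singleton x, rfl, fun y hy => by rw [List.mem_singleton.mp hy]; exact hl x hx,
      fun y hy z hz => by rw [List.mem_singleton.mp hy, List.mem_singleton.mp hz], by simp⟩
  match l, h1, h6 with
  | [x], _, _ =>
    simp at hp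
    have := h.1.1 x (hl x List.mem_cons_self)
    rw [hp, orderOf_one] at this
    omega
  | [x, y], _, _ =>
    have e := (split x [y] rfl).1
    rw [List.prod_cons, List.prod_nil, mul_one] at e
    exact absurd (List.mem_singleton.mpr e.symm) (List.nodup_cons.mp hn).1
  | [x, y, z], _, _ =>
    exact M23.fact_unique_lt B (m := 1) (m' := 2) le_rfl (by norm_num) (by norm_num)
      (one x List.mem_cons_self) (split x [y, z] rfl).2
  | [x, y, z, w], _, _ =>
    exact M23.fact_unique_lt B (m := 1) (m' := 3) le_rfl (by norm_num) (by norm_num)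
      (one x List.mem_cons_self) (split x [y, z, w] rfl).2
  | [x, y, z, w, u], _, _ => exact M23.five_ne B hn rfl hl hc hp
  | [x, y, z, w, u, v], _, _ => exact M23.six_ne B hn rfl hl hc hp
  | _ :: _ :: _ :: _ :: _ :: _ :: _ :: _, _, k => exact absurd k (by simp)

/-- Three commuting members below `d₀` go to any three. -/
theorem trans_below {a b c a' b' c' : M} (ha : a ∈ perp E d₀) (hb : b ∈ perp E d₀) (hc : c ∈ perp E d₀)
    (ha' : a' ∈ perp E d₀) (hb' : b' ∈ perp E d₀) (hc' : c' ∈ perp E d₀)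
    (hab : Commute a b) (hac : Commute a c) (hbc : Commute b c) (nab : a ≠ b) (nac : a ≠ c) (nbc : b ≠ c)
    (hab' : Commute a' b') (hac' : Commute a' c') (hbc' : Commute b' c') (nab' : a' ≠ b') (nac' : a' ≠ c')
    (nbc' : b' ≠ c') :
    ∃ g : M, g * d₀ * g⁻¹ = d₀ ∧ g * a * g⁻¹ = a' ∧ g * b * g⁻¹ = b' ∧ g * c * g⁻¹ = c' := by
  have h := B.set.cls
  have C := B.ctx d₀ hd₀
  have tk : ∀ {u v : M} (hu : u ∈ perp E d₀) (hv : v ∈ perp E d₀), u ≠ v → Commute u v →
      pr E d₀ v hv ∈ perp (perpSet E d₀) (pr E d₀ u hu) := fun hu hv n c =>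
    (M23.toK B hd₀ hu hv).mpr ⟨hv.1, Ne.symm n, c⟩
  obtain ⟨q, e1, e2, e3⟩ := M22.trans_three C (pr_mem ha) (tk ha hb nab hab)
    ⟨tk ha hc nac hac, tk hb hc nbc hbc⟩ (pr_mem ha') (tk ha' hb' nab' hab') ⟨tk ha' hc' nac' hac', tk hb' hc' nbc' hbc'⟩
  obtain ⟨g, rfl⟩ := QuotientGroup.mk'_surjective _ q
  have hgd : (g : M) * d₀ * (g : M)⁻¹ = d₀ := by
    have : (g : M) ∈ Subgroup.centralizer ({d₀} : Set M) := by rw [M23.centralizer_eq B hd₀]; exact g.2
    exact conj_self_eq (Subgroup.mem_centralizer_singleton_iff.mp this)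
  have key : ∀ {u u' : M} (hu : u ∈ perp E d₀) (hu' : u' ∈ perp E d₀),
      QuotientGroup.mk' _ g * pr E d₀ u hu * (QuotientGroup.mk' _ g)⁻¹ = pr E d₀ u' hu' →
      (g : M) * u * (g : M)⁻¹ = u' := by
    intro u u' hu hu' e
    have hgu : (g : M) * u * (g : M)⁻¹ ∈ perp E d₀ := by
      have := (conj_mem_perp h (g : M) d₀).mpr hu
      rwa [hgd] at this
    refine pr_injective h B.set.tf hd₀ hgu hu' (Eq.trans ?_ e)
    exact congrArg (QuotientGroup.mk' _) (Subtype.ext rfl :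
      (⟨_, Subgroup.subset_closure hgu⟩ : ↥(PerpGroup E d₀)) = g * ⟨u, Subgroup.subset_closure hu⟩ * g⁻¹)
  exact ⟨g, hgd, key ha ha' e1, key hb hb' e2, key hc hc' e3⟩

end Cfsg.Agent.Block.M23Up
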