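import Cfsg.Agent.Lib.Block.FischerTypes.M23Up.Frame

/-! Twenty-three vectors without short relations in an elementary abelian group of order 2^11. -/

set_option autoImplicit false
set_option linter.style.haveILetI false
set_option linter.unusedSectionVars false

namespace Cfsg.Agent.Block.M23Up

open Finset

variable {H V : Type*} [Group H] [CommGroup V] [Fintype V] [DecidableEq V]

/-- No relation of length at most six. -/
def NoRel (X : Finset V) : Prop := ∀ Z : Finset V, Z ⊆ X → Z.Nonempty → Z.card ≤ 6 → ∏ x ∈ Z, x ≠ 1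

/-- The product over a symmetric difference. -/
theorem prod_symmDiff (sq : ∀ x : V, x * x = 1) (Y Z : Finset V) :
    ∏ x ∈ (Y \ Z) ∪ (Z \ Y), x = (∏ x ∈ Y, x) * ∏ x ∈ Z, x := by
  rw [prod_union disjoint_sdiff_sdiff, ← prod_inter_mul_prod_sdiff Y Z (fun x => x),
    ← prod_inter_mul_prod_sdiff Z Y (fun x => x), inter_comm Z Y, mul_mul_mul_comm, sq, one_mul]

theorem card_symmDiff_le (Y Z : Finset V) : ((Y \ Z) ∪ (Z \ Y)).card ≤ Y.card + Z.card :=
  (card_union_le _ _).trans (Nat.add_le_add (card_le_card sdiff_subset) (card_le_card sdiff_subset))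

theorem inj_of_noRel {X : Finset V} (sq : ∀ x : V, x * x = 1) (hX : NoRel X) {Y Z : Finset V} (hY : Y ⊆ X)
    (hZ : Z ⊆ X) (h6 : Y.card + Z.card ≤ 6) (e : ∏ x ∈ Y, x = ∏ x ∈ Z, x) : Y = Z := by
  by_contra hne
  refine hX _ (union_subset (sdiff_subset.trans hY) (sdiff_subset.trans hZ)) ?_
    ((card_symmDiff_le Y Z).trans h6) (by rw [prod_symmDiff sq, e, sq])
  rw [nonempty_iff_ne_empty, Ne, union_eq_empty, sdiff_eq_empty_iff_subset, sdiff_eq_empty_iff_subset]
  exact fun k => hne (Subset.antisymm k.1 k.2)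

/-- Every element is a product of at most three of the twenty-three. -/
theorem exists_short {X : Finset V} (sq : ∀ x : V, x * x = 1) (hV : Nat.card V = 2 ^ 11) (hX : X.card = 23)
    (hrel : NoRel X) (v : V) : ∃ Y ⊆ X, Y.card ≤ 3 ∧ ∏ x ∈ Y, x = v := by
  classical
  let I := X.powersetCard 0 ∪ X.powersetCard 1 ∪ X.powersetCard 2 ∪ X.powersetCard 3
  have hdis : ∀ i j, i ≠ j → Disjoint (X.powersetCard i) (X.powersetCard j) := fun i j hij =>
    disjoint_left.2 fun Y h1 h2 => hij ((mem_powersetCard.1 h1).2.symm.trans (mem_powersetCard.1 h2).2)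
  have hmem : ∀ Y ∈ I, Y ⊆ X ∧ Y.card ≤ 3 := by
    intro Y hY
    simp only [I, mem_union, mem_powersetCard] at hY
    rcases hY with ((k | k) | k) | k <;> exact ⟨k.1, by omega⟩
  have hI : I.card = 2048 := by
    rw [card_union_of_disjoint (disjoint_union_left.2 ⟨disjoint_union_left.2
      ⟨hdis 0 3 (by norm_num), hdis 1 3 (by norm_num)⟩, hdis 2 3 (by norm_num)⟩),
      card_union_of_disjoint (disjoint_union_left.2 ⟨hdis 0 2 (by norm_num), hdis 1 2 (by norm_num)⟩),
      card_union_of_disjoint (hdis 0 1 (by norm_num)), card_powersetCard, card_powersetCard, card_powersetCard,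
      card_powersetCard, hX]
    decide +kernel
  have hall : I.image (fun Y => ∏ x ∈ Y, x) = univ := eq_univ_of_card _ (by
    rw [card_image_of_injOn fun Y hY Z hZ k => inj_of_noRel sq hrel (hmem Y hY).1 (hmem Z hZ).1
      (Nat.add_le_add (hmem Y hY).2 (hmem Z hZ).2) k, hI, ← Nat.card_eq_fintype_card, hV]
    norm_num)
  obtain ⟨Y, hY, e⟩ := mem_image.1 (hall ▸ mem_univ v)
  exact ⟨Y, (hmem Y hY).1, (hmem Y hY).2, e⟩

variable {α : H →* MulAut V}

/-- Triple transitivity moves every small set. -/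
theorem exists_move {X : Finset V} (hX : X.card = 23)
    (trans : ∀ a ∈ X, ∀ b ∈ X, ∀ c ∈ X, ∀ a' ∈ X, ∀ b' ∈ X, ∀ c' ∈ X, a ≠ b → a ≠ c → b ≠ c →
      a' ≠ b' → a' ≠ c' → b' ≠ c' → ∃ h, X.image (α h) = X ∧ α h a = a' ∧ α h b = b' ∧ α h c = c')
    {Y : Finset V} (hY : Y ⊆ X) (h3 : Y.card ≤ 3) (hne : Y.Nonempty) :
    ∃ h, X.image (α h) = X ∧ Y.image (α h) ≠ Y := by
  classical
  obtain ⟨a, ha⟩ := hne
  have other : ∀ S : Finset V, S.card < 23 → ∃ x ∈ X, x ∉ S := fun S hS =>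
    exists_mem_notMem_of_card_lt_card (hX ▸ hS)
  obtain ⟨a', ha', haY⟩ := other Y (by omega)
  obtain ⟨b, hb, hba⟩ := other {a} (by simp)
  obtain ⟨c, hc, hca⟩ := other {a, b} (card_le_two.trans_lt (by norm_num))
  obtain ⟨b', hb', hba'⟩ := other {a'} (by simp)
  obtain ⟨c', hc', hca'⟩ := other {a', b'} (card_le_two.trans_lt (by norm_num))
  simp only [mem_insert, mem_singleton, not_or] at hba hca hba' hca'
  obtain ⟨h, h1, h2, -⟩ := trans a (hY ha) b hb c hc a' ha' b' hb' c' hc' (Ne.symm hba) (Ne.symm hca.1)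
    (Ne.symm hca.2) (Ne.symm hba') (Ne.symm hca'.1) (Ne.symm hca'.2)
  exact ⟨h, h1, fun k => haY (k ▸ h2 ▸ mem_image_of_mem _ ha)⟩

/-- The twenty-three have product one. -/
theorem prod_eq_one {X : Finset V} (sq : ∀ x : V, x * x = 1) (hV : Nat.card V = 2 ^ 11) (hX : X.card = 23)
    (hrel : NoRel X)
    (trans : ∀ a ∈ X, ∀ b ∈ X, ∀ c ∈ X, ∀ a' ∈ X, ∀ b' ∈ X, ∀ c' ∈ X, a ≠ b → a ≠ c → b ≠ c →
      a' ≠ b' → a' ≠ c' → b' ≠ c' → ∃ h, X.image (α h) = X ∧ α h a = a' ∧ α h b = b' ∧ α h c = c') :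
    ∏ x ∈ X, x = 1 := by
  classical
  obtain ⟨Y, hY, h3, e⟩ := exists_short sq hV hX hrel (∏ x ∈ X, x)
  rcases Y.eq_empty_or_nonempty with rfl | hne
  · rw [← e, prod_empty]
  exfalso
  obtain ⟨h, h1, h2⟩ := exists_move hX trans hY h3 hne
  have im : ∀ Z : Finset V, α h (∏ x ∈ Z, x) = ∏ x ∈ Z.image (α h), x := fun Z => by
    rw [map_prod, prod_image fun x _ y _ k => (α h).injective k]
  refine h2 (inj_of_noRel sq hrel (h1 ▸ image_subset_image hY) hY ?_ ?_)
  · rw [card_image_of_injective _ (α h).injective]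
    omega
  · rw [← im, e, im, h1]

/-- The frame at one of the twenty-three. -/
theorem frame_of {X : Finset V} (sq : ∀ x : V, x * x = 1) (hV : Nat.card V = 2 ^ 11) (hX : X.card = 23)
    (hrel : NoRel X) (hprod : ∏ x ∈ X, x = 1) {d : V} (hd : d ∈ X)
    (pres : ∀ h, α h d = d → ∀ x ∈ X, α h x ∈ X)
    (trans : ∀ a ∈ X.erase d, ∀ b ∈ X.erase d, ∀ c ∈ X.erase d, ∀ a' ∈ X.erase d, ∀ b' ∈ X.erase d,
      ∀ c' ∈ X.erase d, a ≠ b → a ≠ c → b ≠ c → a' ≠ b' → a' ≠ c' → b' ≠ c' →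
      ∃ h, α h d = d ∧ α h a = a' ∧ α h b = b' ∧ α h c = c') :
    Frame α d (X.erase d) where
  sq := sq
  card := hV
  count := by rw [card_erase_of_mem hd, hX]
  prod := by
    have k := mul_prod_erase X (fun x => x) hd
    rw [hprod] at k
    exact (eq_inv_of_mul_eq_one_right k).trans (inv_eq_of_mul_eq_one_right (sq d))
  inj Y Z hY hZ h3 h3' e := inj_of_noRel sq hrel (hY.trans (erase_subset _ _)) (hZ.trans (erase_subset _ _))
    (Nat.add_le_add h3 h3') e
  inj' Y Z hY hZ h3 h2 e := by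
    have hdZ : d ∉ Z := fun k => (mem_erase.1 (hZ k)).1 rfl
    have k := inj_of_noRel sq hrel (Z := insert d Z) (hY.trans (erase_subset _ _))
      (insert_subset hd (hZ.trans (erase_subset _ _))) (by rw [card_insert_of_notMem hdZ]; omega)
      (by rw [prod_insert hdZ]; exact e)
    exact (mem_erase.1 (hY (k ▸ mem_insert_self _ _))).1 rfl
  pres h hh x hx := mem_erase.2 ⟨fun k => (mem_erase.1 hx).1 ((α h).injective (k.trans hh.symm)),
    pres h hh x (mem_erase.1 hx).2⟩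
  trans := trans

end Cfsg.Agent.Block.M23Up
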