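import Cfsg.Agent.Lib.Block.FischerTypes.M23Up.Local
import Cfsg.Agent.Lib.Block.FischerTypes.M23Centralizer
import Cfsg.Agent.Lib.Block.FischerTypes.M24Below
import Cfsg.Agent.Lib.Block.FischerTypes.M22Quasi
import Cfsg.Agent.Lib.Fus.M22U.TypeOf.Main
import Cfsg.Agent.Lib.Fus.M22U.Iso
import Cfsg.Agent.Lib.Spor.Cos.Fi22Mult.Top
import Cfsg.Agent.Lib.Grp.Quasisimple

/-! The component of one member satisfies the standing facts of type M(23). -/

set_option autoImplicit false
set_option linter.style.haveILetI false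
set_option linter.unusedSectionVars false

namespace Cfsg.Agent.Block.M23Up

open Cfsg Cfsg.Agent.Spor.ThreeTrans Cfsg.Agent.Block.FischerTypes

/-- An injective map carrying perpendicular sets carries perpendicular quotients. -/
theorem quot_embed {X Y : Type*} [Group X] [Group Y] (f : X →* Y) (hf : Function.Injective f)
    {E : Set X} {a : X} {D : Set Y} {b : Y} (himg : f '' perp E a = perp D b) :
    ∃ σ : PerpQuot E a ≃* PerpQuot D b, σ '' perpSet E a = perpSet D b := by
  have em : (PerpGroup E a).map f = PerpGroup D b := by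
    show (Subgroup.closure (perp E a)).map _ = Subgroup.closure (perp D b)
    rw [MonoidHom.map_closure, himg]
  let σ₀ : ↥(PerpGroup E a) ≃* ↥(PerpGroup D b) :=
    ((PerpGroup E a).equivMapOfInjective _ hf).trans (MulEquiv.subgroupCongr em)
  have hσ : ∀ x, ((σ₀ x : ↥(PerpGroup D b)) : Y) = f x := fun x => rfl
  have hc : (Subgroup.center ↥(PerpGroup E a)).map σ₀.toMonoidHom = Subgroup.center ↥(PerpGroup D b) := by
    ext x
    simp only [Subgroup.mem_map, MulEquiv.coe_toMonoidHom]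
    constructor
    · rintro ⟨y, hy, rfl⟩
      exact Subgroup.mem_center_iff.mpr fun z => by
        simpa using congrArg σ₀ (Subgroup.mem_center_iff.mp hy (σ₀.symm z))
    · intro hx
      refine ⟨σ₀.symm x, Subgroup.mem_center_iff.mpr fun z => ?_, σ₀.apply_symm_apply x⟩
      simpa using congrArg σ₀.symm (Subgroup.mem_center_iff.mp hx (σ₀ z))
  refine ⟨QuotientGroup.congr _ _ σ₀ hc, ?_⟩
  apply Set.Subset.antisymm
  · rintro _ ⟨q, hq, rfl⟩
    obtain ⟨u, hu, rfl⟩ := exists_of_mem hq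
    refine ⟨σ₀ ⟨u, Subgroup.subset_closure hu⟩, ?_, rfl⟩
    show f u ∈ perp D b
    rw [← himg]
    exact ⟨u, hu, rfl⟩
  · intro q hq
    obtain ⟨v, hv, rfl⟩ := exists_of_mem hq
    obtain ⟨u, hu, rfl⟩ : ∃ u ∈ perp E a, f u = v := by
      rw [← himg] at hv; exact hv
    exact ⟨_, pr_mem hu, rfl⟩

/-- An isomorphism carries classes of 3-transpositions. -/
theorem class_image {X Y : Type*} [Group X] [Group Y] (τ : X ≃* Y) {E : Set X} (h : IsThreeTranspositionClass E) :
    IsThreeTranspositionClass (τ '' E) := by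
  obtain ⟨⟨h1, h2⟩, ⟨a, ha, e⟩, hg⟩ := h
  refine ⟨⟨?_, ?_⟩, ⟨τ a, ⟨a, ha, rfl⟩, ?_⟩, ?_⟩
  · rintro _ ⟨x, hx, rfl⟩
    rw [MulEquiv.orderOf_eq]
    exact h1 x hx
  · rintro _ ⟨x, hx, rfl⟩ _ ⟨y, hy, rfl⟩
    simp only [← map_mul, ← map_pow, MulEquiv.map_eq_one_iff]
    exact h2 x hx y hy
  · ext y
    constructor
    · rintro ⟨x, hx, rfl⟩
      rw [e] at hx
      obtain ⟨g, hg⟩ := _root_.isConj_iff.mp (show IsConj a x from hx)
      exact _root_.isConj_iff.mpr ⟨τ g, by rw [← map_inv, ← map_mul, ← map_mul, hg]⟩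
    · intro hy
      obtain ⟨g, hg⟩ := _root_.isConj_iff.mp (show IsConj (τ a) y from hy)
      refine ⟨τ.symm g * a * (τ.symm g)⁻¹, ?_, by rw [map_mul, map_mul, map_inv, τ.apply_symm_apply, hg]⟩
      rw [e]
      exact _root_.isConj_iff.mpr ⟨_, rfl⟩
  · rw [show (τ '' E : Set Y) = τ.toMonoidHom '' E from rfl, ← MonoidHom.map_closure, hg,
      Subgroup.map_top_of_surjective _ τ.surjective]

variable {G K : Type*} [Group G] [Group K] [Finite G] [Finite K] {D : Set G} {F : Set K}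

theorem perfect_of_ctx (C : M22.Ctx F) : commutator K = ⊤ := by
  obtain ⟨e, -⟩ := Cfsg.Agent.Fus.M22U.exists_iso C
  have h := congrArg (Subgroup.map e.toMonoidHom) Cfsg.Agent.Spor.Cos.Fi22Mult.commutator_eq_top
  rwa [commutator_def, Subgroup.map_commutator, Subgroup.map_top_of_surjective _ e.surjective,
    ← commutator_def] at h

theorem type_of_ctx (C : M22.Ctx F) : IsOfTypeM22 K F := by
  obtain ⟨e, he⟩ := Cfsg.Agent.Fus.M22U.exists_iso C
  have h := m22_map e Cfsg.Agent.Fus.M22U.TypeOf.isOfTypeM22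
  rwa [show e '' Cfsg.Agent.Fus.M22U.classD = F from he] at h

/-- The standing facts move along isomorphisms. -/
theorem ctx_image {Y : Type*} [Group Y] [Finite Y] (C : M22.Ctx F) (τ : K ≃* Y) : M22.Ctx (τ '' F) := by
  refine M22.ctx_of_perfect (class_image τ C.set.cls) ?_ (m22_map τ (type_of_ctx C))
  have h := congrArg (Subgroup.map τ.toMonoidHom) (perfect_of_ctx C)
  rwa [commutator_def, Subgroup.map_commutator, Subgroup.map_top_of_surjective _ τ.surjective,
    ← commutator_def] at h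

/-- What is known at the first member. -/
structure Seed (D : Set G) (F : Set K) (d : G) : Prop where
  mem : d ∈ D
  gen : Subgroup.closure (perp D d) = Subgroup.centralizer ({d} : Set G)
  qs : IsQuasisimple ↥(Subgroup.centralizer ({d} : Set G))
  cen : ∀ z ∈ Subgroup.centralizer ({d} : Set G),
    (∀ y ∈ Subgroup.centralizer ({d} : Set G), Commute y z) → z = 1 ∨ z = d
  quot : ∃ σ : K ≃* PerpQuot D d, σ '' F = perpSet D d

/-- The component. -/
def comp (D : Set G) (d : G) : Set G := {x | x ∈ D ∧ Near D d x}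

/-- What it generates. -/
def compGroup (D : Set G) (d : G) : Subgroup G := Subgroup.closure (comp D d)

/-- The component inside the group it generates. -/
def compSet (D : Set G) (d : G) : Set ↥(compGroup D d) := {x | (x : G) ∈ comp D d}

variable {d : G} (Lc : Loc D F) (S : Seed D F d)
include Lc S

theorem self_comp : d ∈ comp D d := ⟨S.mem, Or.inl rfl⟩

theorem perp_sub {x : G} (hx : x ∈ comp D d) : perp D x ⊆ comp D d := fun y hy =>
  ⟨hy.1, Lc.near_step S.mem hx.1 hy.1 hx.2 hy.2.2⟩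

theorem comp_conj_mem {x y : G} (hx : x ∈ comp D d) (hy : y ∈ comp D d) : x * y * x⁻¹ ∈ comp D d := by
  refine ⟨Lc.conj x y hy.1, ?_⟩
  have h1 : Near D x (x * d * x⁻¹) := by
    have := Lc.near_conj x (Lc.near_symm hx.2)
    rwa [mul_inv_cancel_right] at this
  exact Lc.near_trans S.mem (Lc.conj x d S.mem) (Lc.conj x y hy.1)
    (Lc.near_trans S.mem hx.1 (Lc.conj x d S.mem) hx.2 h1) (Lc.near_conj x hy.2)

theorem comp_invariant {g : G} (hg : g ∈ compGroup D d) : ∀ y ∈ comp D d, g * y * g⁻¹ ∈ comp D d := by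
  induction hg using Subgroup.closure_induction'' with
  | one => intro y hy; simpa using hy
  | mem x hx => exact fun y hy => comp_conj_mem Lc S hx hy
  | inv_mem x hx =>
    intro y hy
    rw [Lc.inv_self hx.1]
    exact comp_conj_mem Lc S hx hy
  | mul x y _ _ hx hy =>
    intro z hz
    simpa [mul_assoc] using hx _ (hy z hz)

theorem cent_le : Subgroup.centralizer ({d} : Set G) ≤ compGroup D d := by
  rw [← S.gen]
  exact Subgroup.closure_mono (perp_sub Lc S (self_comp Lc S))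

theorem comp_transitive {x : G} (hx : x ∈ comp D d) : ∃ g ∈ compGroup D d, g * d * g⁻¹ = x := by
  have apart : ∀ {a b : G}, a ∈ comp D d → b ∈ comp D d → ¬ Commute a b →
      ∃ g ∈ compGroup D d, g * a * g⁻¹ = b := by
    intro a b ha hb hc
    have e : (a * b) ^ 3 = 1 := (Lc.near_three ha.1 hb.1
      (Lc.near_trans ha.1 S.mem hb.1 (Lc.near_symm ha.2) hb.2)).resolve_left fun k => hc (by
        have h' : a * b = (a * b)⁻¹ := eq_inv_of_mul_eq_one_left (by rw [← pow_two]; exact k)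
        rw [mul_inv_rev, Lc.inv_self ha.1, Lc.inv_self hb.1] at h'
        exact h')
    refine ⟨a * b, mul_mem (Subgroup.subset_closure ha) (Subgroup.subset_closure hb), ?_⟩
    rw [mul_inv_rev, Lc.inv_self ha.1, Lc.inv_self hb.1]
    calc a * b * a * (b * a) = (a * b) ^ 3 * b := by
          simp [pow_succ, mul_assoc, Lc.sq b hb.1]
      _ = b := by rw [e, one_mul]
  have step : ∀ {a b : G}, a ∈ comp D d → b ∈ comp D d → ∃ g ∈ compGroup D d, g * a * g⁻¹ = b := by
    intro a b ha hb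
    by_cases hc : Commute a b
    · by_cases e : a = b
      · exact ⟨1, one_mem _, by simp [e]⟩
      obtain ⟨w, hw, hnw, h1, h2⟩ := Lc.bridge ha.1 (e := b) ⟨hb.1, Ne.symm e, hc⟩
      have hwc : w ∈ comp D d := ⟨hw, Lc.near_trans S.mem ha.1 hw ha.2 hnw⟩
      obtain ⟨g, hg, e1⟩ := apart ha hwc h1
      obtain ⟨g', hg', e2⟩ := apart hwc hb fun k => h2 k.symm
      exact ⟨g' * g, mul_mem hg' hg, by rw [← e2, ← e1]; simp [mul_assoc]⟩
    · exact apart ha hb hc
  exact step (self_comp Lc S) hx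

theorem d_not_central : ∃ w ∈ comp D d, ¬ Commute d w := by
  obtain ⟨W⟩ := Lc.world d S.mem
  obtain ⟨q, hq, -⟩ := Lc.ctx.set.cls.2.1
  obtain ⟨e, he, -⟩ := W.surj q hq
  obtain ⟨w, hw, hn, h1, -⟩ := Lc.bridge S.mem he
  exact ⟨w, ⟨hw, hn⟩, h1⟩

theorem compSet_class : IsThreeTranspositionClass (compSet D d) := by
  have hd : (⟨d, Subgroup.subset_closure (self_comp Lc S)⟩ : ↥(compGroup D d)) ∈ compSet D d := self_comp Lc S
  refine ⟨⟨?_, ?_⟩, ⟨_, hd, ?_⟩, ?_⟩
  · intro x hx
    refine orderOf_eq_prime (Subtype.ext ((pow_two (x : G)).trans (Lc.sq _ hx.1))) fun e => ?_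
    have h1 : (x : G) = 1 := congrArg Subtype.val e
    obtain ⟨g, -, hg⟩ := comp_transitive Lc S hx
    rw [h1, conj_eq_one_iff] at hg
    obtain ⟨w, -, hnc⟩ := d_not_central Lc S
    exact hnc (hg.symm ▸ Commute.one_left w)
  · intro x hx y hy
    rcases Lc.near_three hx.1 hy.1 (Lc.near_trans hx.1 S.mem hy.1 (Lc.near_symm hx.2) hy.2) with k | k
    · exact Or.inl (Subtype.ext k)
    · exact Or.inr (Subtype.ext k)
  · ext x
    constructor
    · intro hx
      obtain ⟨g, hg, e⟩ := comp_transitive Lc S hx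
      exact _root_.isConj_iff.mpr ⟨⟨g, hg⟩, Subtype.ext e⟩
    · intro hx
      obtain ⟨g, rfl⟩ := _root_.isConj_iff.mp (show IsConj _ x from hx)
      exact comp_invariant Lc S g.2 d (self_comp Lc S)
  · refine Subgroup.map_injective (compGroup D d).subtype_injective ?_
    rw [MonoidHom.map_closure, ← MonoidHom.range_eq_map, Subgroup.range_subtype]
    congr 1
    ext x
    exact ⟨by rintro ⟨y, hy, rfl⟩; exact hy, fun hx => ⟨⟨x, Subgroup.subset_closure hx⟩, hx, rfl⟩⟩

theorem perp_image_comp {a : ↥(compGroup D d)} (ha : a ∈ compSet D d) :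
    (compGroup D d).subtype '' perp (compSet D d) a = perp D (a : G) := by
  ext y
  constructor
  · rintro ⟨y, ⟨hy, hne, hc⟩, rfl⟩
    exact ⟨hy.1, fun k => hne (Subtype.ext k), congrArg Subtype.val hc.eq⟩
  · intro hy
    have hyc := perp_sub Lc S ha hy
    exact ⟨⟨y, Subgroup.subset_closure hyc⟩, ⟨hyc, fun k => hy.2.1 (congrArg Subtype.val k),
      Subtype.ext hy.2.2.eq⟩, rfl⟩

theorem no_normal_pgroup {p : ℕ} (hp : p.Prime) {N : Subgroup ↥(compGroup D d)} (hN : N.Normal)
    (hNp : IsPGroup p ↥N) (n : ↥(compGroup D d)) (hn : n ∈ N) (hc : Commute (n : G) d) :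
    (n : G) = 1 ∨ ((n : G) = d ∧ p = 2) := by
  haveI := Fact.mk hp
  have hle := cent_le Lc S
  set C := Subgroup.centralizer ({d} : Set G)
  let N' : Subgroup ↥C := N.comap (Subgroup.inclusion hle)
  haveI : N'.Normal := hN.comap _
  have hN' : IsPGroup p ↥N' := hNp.comap_of_injective _ (Subgroup.inclusion_injective hle)
  have hnC : (n : G) ∈ C := Subgroup.mem_centralizer_singleton_iff.mpr hc.eq
  have hnN' : (⟨n, hnC⟩ : ↥C) ∈ N' := hn
  rcases Grp.IsQuasisimple.eq_top_or_le_center S.qs N' with e | e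
  · exfalso
    have hC : IsPGroup p ↥C := (e ▸ hN').of_equiv Subgroup.topEquiv
    obtain ⟨σ, -⟩ := S.quot
    have hP : IsPGroup p ↥(PerpGroup D d) := hC.of_equiv (MulEquiv.subgroupCongr S.gen.symm)
    have hK : IsPGroup p K := (hP.of_surjective (QuotientGroup.mk' _) (QuotientGroup.mk'_surjective _)).of_equiv σ.symm
    obtain ⟨k, hk⟩ := IsPGroup.iff_card.mp hK
    rw [M22.card_group Lc.ctx (M22.numbered_ctx Lc.ctx)] at hk
    have h13 : 13 ∣ p ^ k := hk ▸ by norm_num
    have h2 : 2 ∣ p ^ k := hk ▸ by norm_num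
    have := (Nat.prime_dvd_prime_iff_eq (by norm_num) hp).mp ((by norm_num : Nat.Prime 13).dvd_of_dvd_pow h13)
    have := (Nat.prime_dvd_prime_iff_eq Nat.prime_two hp).mp (Nat.prime_two.dvd_of_dvd_pow h2)
    omega
  · rcases S.cen n hnC (fun y hy => congrArg Subtype.val
        (Subgroup.mem_center_iff.mp (e hnN') ⟨y, hy⟩)) with k | k
    · exact Or.inl k
    · by_cases k' : (n : G) = 1
      · exact Or.inl k'
      refine Or.inr ⟨k, ?_⟩
      obtain ⟨j, hj⟩ := hNp ⟨n, hn⟩
      have hj' : (n : G) ^ p ^ j = 1 := congrArg (fun x : ↥N => ((x : ↥(compGroup D d)) : G)) hj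
      have h2 : orderOf (n : G) = 2 :=
        orderOf_eq_prime (by rw [k, pow_two]; exact Lc.sq d S.mem) k'
      have := h2 ▸ orderOf_dvd_of_pow_eq_one hj'
      exact ((Nat.prime_dvd_prime_iff_eq Nat.prime_two hp).mp (Nat.prime_two.dvd_of_dvd_pow this)).symm

theorem core_two : pCore 2 ↥(compGroup D d) = ⊥ := by
  haveI := Transfer.pCore_normal' 2 ↥(compGroup D d)
  have hNp := Transfer.pCore_isPGroup 2 ↥(compGroup D d)
  set N := pCore 2 ↥(compGroup D d)
  set δ : ↥(compGroup D d) := ⟨d, Subgroup.subset_closure (self_comp Lc S)⟩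
  have hsmall : ∀ n ∈ N, Commute (n : G) d → (n : G) = 1 ∨ (n : G) = d := fun n hn hc =>
    (no_normal_pgroup Lc S Nat.prime_two inferInstance hNp n hn hc).imp id And.left
  have hdN : δ ∉ N := by
    intro hd'
    obtain ⟨w, hw, hnc⟩ := d_not_central Lc S
    obtain ⟨g, hg, e⟩ := comp_transitive Lc S hw
    have hwN : (⟨g, hg⟩ * δ * ⟨g, hg⟩⁻¹ : ↥(compGroup D d)) ∈ N :=
      (inferInstance : N.Normal).conj_mem δ hd' ⟨g, hg⟩
    obtain ⟨k, hk⟩ := hNp ⟨_, mul_mem hd' hwN⟩
    have hk' : (d * w) ^ 2 ^ k = 1 := by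
      have := congrArg (fun x : ↥N => ((x : ↥(compGroup D d)) : G)) hk
      simp only [SubmonoidClass.coe_pow, Subgroup.coe_mul, Subgroup.coe_inv, Subgroup.coe_one] at this
      rw [← e]; exact this
    refine hnc ?_
    rcases Lc.near_three S.mem hw.1 hw.2 with k2 | k3
    · have h' : d * w = (d * w)⁻¹ := eq_inv_of_mul_eq_one_left (by rw [← pow_two]; exact k2)
      rwa [mul_inv_rev, Lc.inv_self S.mem, Lc.inv_self hw.1] at h'
    · have h1 := Nat.dvd_gcd (orderOf_dvd_of_pow_eq_one hk') (orderOf_dvd_of_pow_eq_one k3)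
      rw [show Nat.gcd (2 ^ k) 3 = 1 from Nat.Coprime.pow_left k (by norm_num), Nat.dvd_one,
        orderOf_eq_one_iff] at h1
      rw [show w = d by rw [← one_mul w, ← Lc.sq d S.mem, mul_assoc, h1, mul_one]]
  refine (Subgroup.eq_bot_iff_forall N).mpr fun n hn => ?_
  by_cases hc : Commute (n : G) d
  · rcases hsmall n hn hc with k | k
    · exact Subtype.ext k
    · exact absurd (show δ ∈ N by rwa [show δ = n from Subtype.ext k.symm]) hdN
  exfalso
  set d' := (n : G) * d * (n : G)⁻¹ with hd'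
  have hd'c : d' ∈ comp D d := comp_invariant Lc S n.2 d (self_comp Lc S)
  have hmem : δ * n * δ⁻¹ * n⁻¹ ∈ N := mul_mem ((inferInstance : N.Normal).conj_mem n hn δ) (inv_mem hn)
  have hval : ((δ * n * δ⁻¹ * n⁻¹ : ↥(compGroup D d)) : G) = d * d' := by
    simp [δ, hd', Lc.inv_self S.mem, mul_assoc]
  obtain ⟨k, hk⟩ := hNp ⟨_, hmem⟩
  have hk' : (d * d') ^ 2 ^ k = 1 := by
    have := congrArg (fun x : ↥N => ((x : ↥(compGroup D d)) : G)) hk
    simp only [SubmonoidClass.coe_pow, Subgroup.coe_one] at this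
    rwa [hval] at this
  rcases Lc.near_three S.mem hd'c.1 hd'c.2 with k2 | k3
  · have hcm : Commute d d' := by
      have h' : d * d' = (d * d')⁻¹ := eq_inv_of_mul_eq_one_left (by rw [← pow_two]; exact k2)
      rwa [mul_inv_rev, Lc.inv_self S.mem, Lc.inv_self hd'c.1] at h'
    rcases hsmall _ hmem (hval ▸ ((Commute.refl d).mul_left hcm.symm)) with e | e <;> rw [hval] at e
    · refine hc ?_
      have e' : d' = d := by rw [← one_mul d', ← Lc.sq d S.mem, mul_assoc, e, mul_one]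
      exact mul_inv_eq_iff_eq_mul.mp e'
    · refine hdN ?_
      rwa [show (δ : ↥(compGroup D d)) = δ * n * δ⁻¹ * n⁻¹ from Subtype.ext (hval.trans e).symm]
  · have h1 := Nat.dvd_gcd (orderOf_dvd_of_pow_eq_one hk') (orderOf_dvd_of_pow_eq_one k3)
    rw [show Nat.gcd (2 ^ k) 3 = 1 from Nat.Coprime.pow_left k (by norm_num), Nat.dvd_one,
      orderOf_eq_one_iff] at h1
    refine hc ?_
    have e' : d' = d := by rw [← one_mul d', ← Lc.sq d S.mem, mul_assoc, h1, mul_one]
    exact mul_inv_eq_iff_eq_mul.mp e'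

theorem core_three : pCore 3 ↥(compGroup D d) = ⊥ := by
  haveI := Transfer.pCore_normal' 3 ↥(compGroup D d)
  have hNp := Transfer.pCore_isPGroup 3 ↥(compGroup D d)
  set N := pCore 3 ↥(compGroup D d)
  set δ : ↥(compGroup D d) := ⟨d, Subgroup.subset_closure (self_comp Lc S)⟩
  have hfix : ∀ n ∈ N, Commute (n : G) d → n = 1 := fun n hn hc =>
    Subtype.ext ((no_normal_pgroup Lc S Nat.prime_three inferInstance hNp n hn hc).resolve_right
      fun k => by omega)
  have hδ : δ * δ = 1 := Subtype.ext (Lc.sq d S.mem)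
  have hinv : ∀ n ∈ N, δ * n * δ = n⁻¹ := by
    let f : ↥N → ↥N := fun n => ⟨(n : ↥(compGroup D d))⁻¹ * (δ * n * δ), mul_mem (inv_mem n.2) (by
      have := (inferInstance : N.Normal).conj_mem n n.2 δ
      rwa [inv_eq_of_mul_eq_one_right hδ] at this)⟩
    have hf : Function.Injective f := by
      rintro ⟨n, hn⟩ ⟨m, hm⟩ e
      have e' : n⁻¹ * (δ * n * δ) = m⁻¹ * (δ * m * δ) :=
        congrArg (fun x : ↥N => (x : ↥(compGroup D d))) e
      have h1 : δ * (m * n⁻¹) * δ = m * n⁻¹ := by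
        calc δ * (m * n⁻¹) * δ = δ * m * (δ * δ) * n⁻¹ * δ := by rw [hδ]; group
          _ = (δ * m * δ) * (δ * n * δ)⁻¹ := by rw [mul_inv_rev, mul_inv_rev, inv_eq_of_mul_eq_one_right hδ]; group
          _ = (m * (n⁻¹ * (δ * n * δ))) * (δ * n * δ)⁻¹ := by rw [e']; group
          _ = m * n⁻¹ := by group
      have h2 : Commute ((m * n⁻¹ : ↥(compGroup D d)) : G) d := by
        have h3 : Commute δ (m * n⁻¹) := by
          show δ * (m * n⁻¹) = m * n⁻¹ * δ
          conv_rhs => rw [← h1, mul_assoc, hδ, mul_one]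
        exact (h3.map (compGroup D d).subtype).symm
      exact Subtype.ext (mul_inv_eq_one.mp (hfix _ (mul_mem hm (inv_mem hn)) h2)).symm
    intro n hn
    obtain ⟨⟨x, hx⟩, ex⟩ := (Finite.injective_iff_surjective.mp hf) ⟨n, hn⟩
    have e : x⁻¹ * (δ * x * δ) = n := congrArg (fun x : ↥N => (x : ↥(compGroup D d))) ex
    rw [← e]
    calc δ * (x⁻¹ * (δ * x * δ)) * δ = δ * x⁻¹ * δ * x * (δ * δ) := by group
      _ = (δ * x * δ)⁻¹ * x := by rw [hδ, mul_inv_rev, mul_inv_rev, inv_eq_of_mul_eq_one_right hδ]; group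
      _ = _ := by group
  refine (Subgroup.eq_bot_iff_forall N).mpr fun n hn => ?_
  obtain ⟨W⟩ := Lc.world d S.mem
  obtain ⟨q, hq, -⟩ := Lc.ctx.set.cls.2.1
  obtain ⟨u, hu, -⟩ := W.surj q hq
  obtain ⟨g, hg, e⟩ := comp_transitive Lc S (perp_sub Lc S (self_comp Lc S) hu)
  have hinvu : ∀ m ∈ N, ∀ ε : ↥(compGroup D d), (ε : G) = u → ε * m * ε = m⁻¹ := by
    intro m hm ε hε
    have eε : ε = ⟨g, hg⟩ * δ * ⟨g, hg⟩⁻¹ := Subtype.ext (hε.trans e.symm)
    set γ : ↥(compGroup D d) := ⟨g, hg⟩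
    have := hinv _ (show γ⁻¹ * m * γ ∈ N by
      simpa using (inferInstance : N.Normal).conj_mem m hm γ⁻¹)
    rw [eε, show γ * δ * γ⁻¹ * m * (γ * δ * γ⁻¹) = γ * (δ * (γ⁻¹ * m * γ) * δ) * γ⁻¹ by group, this]
    group
  set C := Subgroup.centralizer ({d} : Set G)
  let Z : Subgroup ↥C := (Subgroup.centralizer (N : Set ↥(compGroup D d))).comap
    (Subgroup.inclusion (cent_le Lc S))
  haveI : Z.Normal := (Subgroup.normal_centralizer (H := N)).comap _
  have hduC : d * u ∈ C := Subgroup.mem_centralizer_singleton_iff.mpr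
    ((Commute.refl d).mul_left hu.2.2.symm).eq
  set ε : ↥(compGroup D d) := ⟨u, Subgroup.subset_closure (perp_sub Lc S (self_comp Lc S) hu)⟩
  have hε : ε * ε = 1 := Subtype.ext (Lc.sq u hu.1)
  have hcent : ∀ m ∈ N, δ * ε * m = m * (δ * ε) := by
    intro m hm
    have h1 := hinvu m hm ε rfl
    have h2 := hinv m⁻¹ (inv_mem hm)
    calc δ * ε * m = δ * (ε * m * ε) * ε := by
          rw [show δ * (ε * m * ε) * ε = δ * ε * m * (ε * ε) by group, hε, mul_one]
      _ = δ * m⁻¹ * (δ * δ) * ε := by rw [h1, hδ, mul_one]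
      _ = (δ * m⁻¹ * δ) * (δ * ε) := by group
      _ = m * (δ * ε) := by rw [h2, inv_inv]
  have htop : Z = ⊤ := by
    refine (Grp.IsQuasisimple.eq_top_or_le_center S.qs Z).resolve_right fun hle => ?_
    have hm : (⟨d * u, hduC⟩ : ↥C) ∈ Z := Subgroup.mem_centralizer_iff.mpr fun m hm => (hcent m hm).symm
    rcases S.cen _ hduC (fun y hy => congrArg Subtype.val
        (Subgroup.mem_center_iff.mp (hle hm) ⟨y, hy⟩)) with k | k
    · exact hu.2.1 (by rw [← one_mul u, ← Lc.sq d S.mem, mul_assoc, k, mul_one])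
    · obtain ⟨w, hw, -, hnc, -⟩ := Lc.bridge hu.1 (Lc.psymm S.mem hu)
      exact hnc ((mul_eq_left.mp k).symm ▸ Commute.one_left w)
  refine hfix n hn ?_
  have hdC : d ∈ C := Subgroup.mem_centralizer_singleton_iff.mpr rfl
  have h := Subgroup.mem_centralizer_iff.mp
    (show (⟨d, hdC⟩ : ↥C) ∈ Z from htop ▸ Subgroup.mem_top _) n hn
  exact congrArg Subtype.val h

theorem perfect_comp : commutator ↥(compGroup D d) = ⊤ := by
  haveI : (commutator ↥(compGroup D d)).Normal := inferInstance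
  rw [eq_top_iff, ← (compSet_class Lc S).2.2, Subgroup.closure_le]
  intro x hx
  obtain ⟨g, hg, e⟩ := comp_transitive Lc S hx
  have hd : (⟨d, Subgroup.subset_closure (self_comp Lc S)⟩ : ↥(compGroup D d)) ∈ commutator ↥(compGroup D d) := by
    have hdC : d ∈ Subgroup.centralizer ({d} : Set G) := Subgroup.mem_centralizer_singleton_iff.mpr rfl
    have h1 : (⟨d, hdC⟩ : ↥(Subgroup.centralizer ({d} : Set G))) ∈ commutator _ :=
      S.qs.1.commutator_eq_top ▸ Subgroup.mem_top _
    have h2 := Subgroup.mem_map_of_mem (Subgroup.inclusion (cent_le Lc S)) h1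
    rw [commutator_def, Subgroup.map_commutator] at h2
    exact Subgroup.commutator_mono le_top le_top h2
  have := (inferInstance : (commutator ↥(compGroup D d)).Normal).conj_mem _ hd ⟨g, hg⟩
  rwa [show x = ⟨g, hg⟩ * ⟨d, Subgroup.subset_closure (self_comp Lc S)⟩ * (⟨g, hg⟩ : ↥(compGroup D d))⁻¹ from
    Subtype.ext e.symm]

/-- The standing facts of type M(23) for the component. -/
theorem comp_base : M23.Base (compSet D d) := by
  have h := compSet_class Lc S
  set δ : ↥(compGroup D d) := ⟨d, Subgroup.subset_closure (self_comp Lc S)⟩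
  have hδ : δ ∈ compSet D d := self_comp Lc S
  obtain ⟨w, hw, hdw⟩ := d_not_central Lc S
  have hcen : Subgroup.center ↥(compGroup D d) = ⊥ := by
    refine (Subgroup.eq_bot_iff_forall _).mpr fun z hz => ?_
    have hzd : Commute (z : G) d := congrArg Subtype.val (Subgroup.mem_center_iff.mp hz δ).symm
    rcases S.cen z (Subgroup.mem_centralizer_singleton_iff.mpr hzd.eq) (fun y hy =>
        congrArg Subtype.val (Subgroup.mem_center_iff.mp hz ⟨y, cent_le Lc S hy⟩)) with k | k
    · exact Subtype.ext k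
    · refine absurd ?_ hdw
      rw [← k]
      exact (congrArg Subtype.val (Subgroup.mem_center_iff.mp hz ⟨w, Subgroup.subset_closure hw⟩)).symm
  have hctx : ∀ a ∈ compSet D d, M22.Ctx (perpSet (compSet D d) a) := by
    intro a ha
    obtain ⟨σ, hσ⟩ := S.quot
    obtain ⟨ρ, hρ⟩ := quot_embed (compGroup D d).subtype Subtype.val_injective (perp_image_comp Lc S hδ)
    obtain ⟨g, rfl⟩ := transitive h hδ ha
    obtain ⟨κ, hκ⟩ := quot_conj h g δ
    have e : ((σ.trans ρ.symm).trans κ : K ≃* _) '' F = perpSet (compSet D d) (g * δ * g⁻¹) := by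
      rw [← hκ]
      ext x
      constructor
      · rintro ⟨q, hq, rfl⟩
        refine ⟨ρ.symm (σ q), ?_, rfl⟩
        obtain ⟨r, hr, e⟩ : σ q ∈ ρ '' perpSet (compSet D d) δ := hρ ▸ hσ ▸ ⟨q, hq, rfl⟩
        rw [← e, ρ.symm_apply_apply]
        exact hr
      · rintro ⟨r, hr, rfl⟩
        obtain ⟨q, hq, e⟩ : ρ r ∈ σ '' F := by
          rw [hσ]
          show ρ r ∈ perpSet D d
          exact hρ ▸ ⟨r, hr, rfl⟩
        exact ⟨q, hq, by simp [e]⟩
    rw [← e]
    exact ctx_image Lc.ctx _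
  have hnc : ∃ a ∈ compSet D d, ∃ b ∈ compSet D d, ¬ Commute a b :=
    ⟨δ, hδ, ⟨w, Subgroup.subset_closure hw⟩, hw, fun k => hdw (congrArg Subtype.val k.eq)⟩
  have H : Hyp (compSet D d) := hyp_of h hcen (core_two Lc S) (core_three Lc S) hnc fun a _ b _ => by
    rw [perfect_comp Lc S, ← commutator_def, perfect_comp Lc S]
    exact Subgroup.mem_top _
  have hcores : ∀ a ∈ compSet D d, pCore 2 (PerpQuot (compSet D d) a) = ⊥ ∧ pCore 3 (PerpQuot (compSet D d) a) = ⊥ :=
    fun a ha => cores_bot (hctx a ha).set.cls (hctx a ha).cen (hctx a ha).set.tf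
      fun x hx => M22.hasModel_ctx (hctx a ha) hx
  have htf : TwinFree (compSet D d) := by
    refine twinFree_of_perpQuot h hδ (hcores δ hδ).1 ?_
    obtain ⟨u, hu, v, hv, huv⟩ := (hctx δ hδ).set.hyp.nc
    obtain ⟨u', hu', rfl⟩ := exists_of_mem hu
    obtain ⟨v', hv', rfl⟩ := exists_of_mem hv
    exact ⟨u', hu', v', hv', fun k => huv (commute_pr hu' hv' k)⟩
  have S' : Setting (compSet D d) :=
    ⟨h, H, htf, fun a ha => perp_nonempty H ha, fun a ha => (hcores a ha).1, fun a ha => (hcores a ha).2⟩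
  refine ⟨S', hcen, hctx, fun a ha c hc hac => ?_, fun a ha c hc hac x hx => ?_, fun a ha => ?_⟩
  · have hac' : ¬ Commute (a : G) c := fun k => hac (Subtype.ext k.eq)
    rcases Lc.near_trans ha.1 S.mem hc.1 (Lc.near_symm ha.2) hc.2 with k | k | ⟨z, -, hza, hzc⟩
    · exact absurd (k ▸ Commute.refl (a : G)) hac'
    · exact absurd k hac'
    · have hz' := perp_sub Lc S ha hza
      exact ⟨⟨z, Subgroup.subset_closure hz'⟩, ⟨hz', fun k => hza.2.1 (congrArg Subtype.val k),
        Subtype.ext hza.2.2.eq⟩, hz', fun k => hzc.2.1 (congrArg Subtype.val k), Subtype.ext hzc.2.2.eq⟩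
  · have hmem : ∀ {p : ↥(compGroup D d)}, p ∈ compSet D d → x ∈ perp (compSet D d) p →
        (x : G) ∈ perp D p := fun {p} hp hxp => by
      rw [← perp_image_comp Lc S hp]
      exact ⟨x, hxp, rfl⟩
    obtain ⟨y, hy, hne, hxy⟩ := Lc.linked ha.1 hc.1 (fun k => hac (Subtype.ext k.eq)) ⟨hmem ha hx.1, hmem hc hx.2⟩
    have hy' := perp_sub Lc S ha hy.1
    exact ⟨⟨y, Subgroup.subset_closure hy'⟩, ⟨⟨hy', fun k => hy.1.2.1 (congrArg Subtype.val k),
      Subtype.ext hy.1.2.2.eq⟩, hy', fun k => hy.2.2.1 (congrArg Subtype.val k), Subtype.ext hy.2.2.2.eq⟩,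
      fun k => hne (congrArg Subtype.val k), Subtype.ext hxy.eq⟩
  · exact exists_not_commute h ⟨δ, hδ, ⟨w, Subgroup.subset_closure hw⟩, hw,
      fun k => hdw (by
        have e : d = w := congrArg Subtype.val k
        rw [e])⟩ ha

end Cfsg.Agent.Block.M23Up
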