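import Cfsg.Agent.Lib.Block.FischerTypes.M23Up.Fusion
import Cfsg.Agent.Lib.Block.FischerTypes.M23Up.Component
import Cfsg.Agent.Lib.Block.FischerTypes.M23Structure

/-! The conjugates of the involution have worlds of type M(22). -/

set_option autoImplicit false
set_option linter.style.haveILetI false
set_option linter.unusedSectionVars false

namespace Cfsg.Agent.Block.M23Up

open Cfsg Cfsg.Agent.Spor.ThreeTrans Cfsg.Agent.Block.FischerTypes
open scoped commutatorElement

variable {G : Type*} [Group G] [Finite G] {d : G} {M : Type*} [Group M] [Finite M] {E : Set M} {d₀ : M}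

namespace Ident

variable (I : Ident d E d₀) {c : Bool}
  (hc : {x : G | IsConj d x ∧ x ∈ Subgroup.centralizer ({d} : Set G)} = insert d (I.below c))
include I

theorem below_ne {x : G} (hx : x ∈ I.below c) : x ≠ d := by
  obtain ⟨y, hy, rfl⟩ := hx
  cases c
  · simp only [sign, cond_false, one_mul]
    exact fun e => hy.2.1 (I.emb_eq_d.mp e)
  · simp only [sign, cond_true]
    intro e
    have e1 : I.emb y = 1 := mul_eq_left.mp e
    rw [← map_one I.emb] at e1
    have e2 : (y : M) = 1 := congrArg Subtype.val (I.emb_injective e1)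
    have := I.base.set.cls.1.1 _ hy.1
    rw [e2, orderOf_one] at this
    omega

include hc

theorem perp_eq : perp {x | IsConj d x} d = I.below c := by
  ext x
  constructor
  · rintro ⟨hx, hne, hcm⟩
    have : x ∈ {x : G | IsConj d x ∧ x ∈ Subgroup.centralizer ({d} : Set G)} :=
      ⟨hx, Subgroup.mem_centralizer_singleton_iff.mpr hcm.eq.symm⟩
    rw [hc] at this
    exact this.resolve_left hne
  · intro hx
    have h : x ∈ {x : G | IsConj d x ∧ x ∈ Subgroup.centralizer ({d} : Set G)} := hc ▸ Or.inr hx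
    exact ⟨h.1, I.below_ne hx, (show Commute x d from Subgroup.mem_centralizer_singleton_iff.mp h.2).symm⟩

omit hc in
theorem sign_mem : sign d c ∈ Subgroup.centralizer ({d} : Set G) := by
  cases c
  exacts [one_mem _, d_mem]

omit hc in
theorem iso_sign : (I.iso ⟨sign d c, I.sign_mem⟩ : ↥(PerpGroup E d₀)) ∈ Subgroup.center ↥(PerpGroup E d₀) := by
  rw [M23.centre I.base I.mem, Subgroup.mem_subgroupOf]
  cases c
  · rw [show (⟨sign d false, I.sign_mem⟩ : ↥(Subgroup.centralizer ({d} : Set G))) = 1 from Subtype.ext rfl,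
      map_one]
    exact one_mem _
  · rw [show ((I.iso ⟨sign d true, I.sign_mem⟩ : ↥(PerpGroup E d₀)) : M) = d₀ from I.map_d _ rfl]
    exact Subgroup.mem_zpowers d₀

omit hc in
theorem emb_conj_sign (y : ↥(PerpGroup E d₀)) : Commute (sign d c) (I.emb y) := by
  cases c
  · exact Commute.one_left _
  · exact (show Commute (I.emb y) d from Subgroup.mem_centralizer_singleton_iff.mp (I.emb_mem y)).symm

theorem exists_world : Nonempty (World {x | IsConj d x} (perpSet E d₀) d) := by
  classical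
  have h := I.base.set.cls
  have htf := I.base.set.tf
  let π := QuotientGroup.mk' (Subgroup.center ↥(PerpGroup E d₀))
  let f : G → PerpQuot E d₀ := fun x =>
    if hx : x ∈ Subgroup.centralizer ({d} : Set G) then π (I.iso ⟨x, hx⟩) else 1
  have hP := I.perp_eq hc
  have hC : ∀ {x : G}, x ∈ perp {x | IsConj d x} d → x ∈ Subgroup.centralizer ({d} : Set G) := fun hx =>
    Subgroup.mem_centralizer_singleton_iff.mpr hx.2.2.eq.symm
  have hmul : ∀ {x y : G}, x ∈ Subgroup.centralizer ({d} : Set G) → y ∈ Subgroup.centralizer ({d} : Set G) →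
      f (x * y) = f x * f y := by
    intro x y hx hy
    simp only [f, dif_pos hx, dif_pos hy, dif_pos (mul_mem hx hy)]
    rw [← map_mul, ← map_mul]
    rfl
  have hval : ∀ y : ↥(PerpGroup E d₀), f (sign d c * I.emb y) = π y := by
    intro y
    rw [hmul I.sign_mem (I.emb_mem y)]
    simp only [f, dif_pos I.sign_mem, dif_pos (I.emb_mem y)]
    rw [show π (I.iso ⟨sign d c, I.sign_mem⟩) = 1 from (QuotientGroup.eq_one_iff _).mpr I.iso_sign, one_mul,
      show (⟨I.emb y, I.emb_mem y⟩ : ↥(Subgroup.centralizer ({d} : Set G))) = I.iso.symm y from Subtype.ext rfl,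
      I.iso.apply_symm_apply]
  refine ⟨⟨f, ?_, ?_, ?_, ?_, ?_⟩⟩
  · intro x hx
    rw [hP] at hx
    obtain ⟨y, hy, rfl⟩ := hx
    rw [hval]
    exact pr_mem hy
  · intro x hx x' hx' e
    rw [hP] at hx hx'
    obtain ⟨y, hy, rfl⟩ := hx
    obtain ⟨y', hy', rfl⟩ := hx'
    rw [hval, hval] at e
    rw [show y = y' from Subtype.ext (pr_injective h htf I.mem hy hy' e)]
  · intro q hq
    obtain ⟨u, hu, rfl⟩ := exists_of_mem hq
    exact ⟨sign d c * I.emb ⟨u, Subgroup.subset_closure hu⟩, hP.symm ▸ ⟨_, hu, rfl⟩, hval _⟩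
  · intro x hx x' hx'
    constructor
    · intro k
      rw [hP] at hx hx'
      obtain ⟨y, hy, rfl⟩ := hx
      obtain ⟨y', hy', rfl⟩ := hx'
      rw [hval, hval] at k
      have hyy : Commute y y' := Subtype.ext (commute_of_pr h htf I.mem hy hy' k).eq
      exact (((Commute.refl (sign d c)).mul_right (I.emb_conj_sign y')).mul_left
        ((I.emb_conj_sign y).symm.mul_right (hyy.map I.emb)))
    · intro k
      show f x * f x' = f x' * f x
      rw [← hmul (hC hx) (hC hx'), ← hmul (hC hx') (hC hx), k.eq]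
  · intro x hx x' hx'
    rw [hmul (mul_mem (hC hx) (hC hx')) (hC hx), hmul (hC hx) (hC hx')]

theorem loc : Loc {x | IsConj d x} (perpSet E d₀) := by
  obtain ⟨W⟩ := I.exists_world hc
  refine ⟨fun g x hx => hx.trans (isConj_iff.mpr ⟨g, rfl⟩), fun x hx => ?_, I.base.ctx d₀ I.mem, fun u hu => ?_⟩
  · obtain ⟨g, rfl⟩ := isConj_iff.mp (show IsConj d x from hx)
    rw [show g * d * g⁻¹ * (g * d * g⁻¹) = g * (d * d) * g⁻¹ by group, I.sq_d, mul_one, mul_inv_cancel]
  obtain ⟨g, rfl⟩ := isConj_iff.mp (show IsConj d u from hu)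
  let κ : G → G := fun x => g⁻¹ * x * g
  have hκ : ∀ {x : G}, x ∈ perp {x | IsConj d x} (g * d * g⁻¹) → κ x ∈ perp {x | IsConj d x} d := by
    rintro x ⟨hx, hne, hcm⟩
    refine ⟨hx.trans (isConj_iff.mpr ⟨g⁻¹, by simp [κ]⟩), fun e => hne ?_, ?_⟩
    · rw [← e]; simp [κ, mul_assoc]
    · have := hcm.map (MulAut.conj g⁻¹).toMonoidHom
      simpa [κ, mul_assoc] using this
  have hκ' : ∀ {x : G}, x ∈ perp {x | IsConj d x} d → g * x * g⁻¹ ∈ perp {x | IsConj d x} (g * d * g⁻¹) := by
    rintro x ⟨hx, hne, hcm⟩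
    exact ⟨hx.trans (isConj_iff.mpr ⟨g, rfl⟩), fun e => hne (mul_left_cancel (mul_right_cancel e)),
      hcm.map (MulAut.conj g).toMonoidHom⟩
  refine ⟨⟨fun x => W.f (κ x), fun x hx => W.mem _ (hκ hx), fun x hx y hy e => ?_, fun q hq => ?_, ?_, ?_⟩⟩
  · have := W.inj _ (hκ hx) _ (hκ hy) e
    exact mul_left_cancel (mul_right_cancel this)
  · obtain ⟨x, hx, rfl⟩ := W.surj q hq
    exact ⟨g * x * g⁻¹, hκ' hx, by simp [κ, mul_assoc]⟩
  · intro x hx y hy
    rw [W.comm _ (hκ hx) _ (hκ hy)]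
    constructor
    · intro k
      have := k.map (MulAut.conj g).toMonoidHom
      simpa [κ, mul_assoc] using this
    · intro k
      have := k.map (MulAut.conj g⁻¹).toMonoidHom
      simpa [κ, mul_assoc] using this
  · intro x hx y hy
    rw [← W.triple _ (hκ hx) _ (hκ hy)]
    simp [κ, mul_assoc]

theorem closure_perp : Subgroup.closure (perp {x | IsConj d x} d) = Subgroup.centralizer ({d} : Set G) := by
  rw [I.perp_eq hc]
  set H := Subgroup.closure (I.below c)
  have hH : H ≤ Subgroup.centralizer ({d} : Set G) := (Subgroup.closure_le _).mpr (by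
    rintro _ ⟨y, -, rfl⟩
    exact mul_mem I.sign_mem (I.emb_mem y))
  refine le_antisymm hH ?_
  have hperf : ⁅Subgroup.centralizer ({d} : Set G), Subgroup.centralizer ({d} : Set G)⁆ =
      Subgroup.centralizer ({d} : Set G) := by
    have h1 : commutator ↥(Subgroup.centralizer ({d} : Set G)) = ⊤ :=
      ((Grp.isQuasisimple_congr I.iso).mpr (M23.quasisimple I.base I.mem)).1.commutator_eq_top
    have h2 := congrArg (Subgroup.map (Subgroup.centralizer ({d} : Set G)).subtype) h1
    rwa [commutator_def, Subgroup.map_commutator, ← MonoidHom.range_eq_map, Subgroup.range_subtype] at h2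
  have hdc : ∀ x ∈ H, Commute x d := fun x hx => Subgroup.mem_centralizer_singleton_iff.mp (hH hx)
  let Q : Subgroup G := H ⊔ Subgroup.zpowers d
  have hle : Subgroup.centralizer ({d} : Set G) ≤ Q := by
    rw [← I.range_emb, MonoidHom.range_eq_map, show (⊤ : Subgroup ↥(PerpGroup E d₀)) =
      Subgroup.closure ((PerpGroup E d₀).subtype ⁻¹' perp E d₀) from
        (Subgroup.closure_closure_coe_preimage).symm, MonoidHom.map_closure, Subgroup.closure_le]
    rintro _ ⟨y, hy, rfl⟩
    have e : I.emb y = sign d c * (sign d c * I.emb y) := by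
      cases c
      · simp [sign]
      · simp [sign, ← mul_assoc, I.sq_d]
    rw [e]
    refine mul_mem ?_ (Subgroup.mem_sup_left (Subgroup.subset_closure ⟨y, hy, rfl⟩))
    cases c
    exacts [one_mem _, Subgroup.mem_sup_right (Subgroup.mem_zpowers d)]
  have hQ : ∀ a ∈ Q, ∀ b ∈ H, ∀ n : ℤ, ⁅a, b * d ^ n⁆ = ⁅a, b⁆ := by
    intro a ha b _ n
    have had : Commute a (d ^ n) := by
      refine (show Commute a d from ?_).zpow_right n
      have : Q ≤ Subgroup.centralizer ({d} : Set G) := sup_le hH (Subgroup.zpowers_le.mpr d_mem)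
      exact Subgroup.mem_centralizer_singleton_iff.mp (this ha)
    rw [commutatorElement_def, commutatorElement_def]
    calc a * (b * d ^ n) * a⁻¹ * (b * d ^ n)⁻¹ = a * b * (d ^ n * a⁻¹) * (d ^ n)⁻¹ * b⁻¹ := by group
      _ = a * b * (a⁻¹ * d ^ n) * (d ^ n)⁻¹ * b⁻¹ := by rw [had.inv_left.symm.eq]
      _ = a * b * a⁻¹ * b⁻¹ := by group
  have hnorm : Subgroup.zpowers d ≤ Subgroup.normalizer (H : Set G) := by
    rw [Subgroup.zpowers_le, Subgroup.mem_normalizer_iff]
    intro x
    constructor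
    · intro hx
      rwa [conj_self_eq (hdc x hx).symm.eq]
    · intro hx
      have e := conj_self_eq (hdc _ hx).symm.eq
      rwa [← mul_left_cancel (mul_right_cancel e)]
  have hQQ : ⁅Q, Q⁆ ≤ H := by
    rw [Subgroup.commutator_le]
    intro a ha b hb
    have hprod := Subgroup.coe_mul_of_right_le_normalizer_left H (Subgroup.zpowers d) hnorm
    obtain ⟨b₁, hb₁, _, ⟨n, rfl⟩, rfl⟩ := hprod ▸ (show b ∈ (↑(H ⊔ Subgroup.zpowers d) : Set G) from hb)
    obtain ⟨a₁, ha₁, _, ⟨m, rfl⟩, rfl⟩ := hprod ▸ (show a ∈ (↑(H ⊔ Subgroup.zpowers d) : Set G) from ha)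
    have hQ' : a₁ * d ^ m ∈ Q := mul_mem (Subgroup.mem_sup_left ha₁)
      (Subgroup.mem_sup_right (Subgroup.zpow_mem_zpowers d m))
    rw [hQ _ hQ' b₁ hb₁ n, ← inv_mem_iff, commutatorElement_inv, hQ b₁ (Subgroup.mem_sup_left hb₁) a₁ ha₁ m]
    exact mul_mem (mul_mem (mul_mem hb₁ ha₁) (inv_mem hb₁)) (inv_mem ha₁)
  rw [← hperf]
  exact (Subgroup.commutator_mono hle hle).trans hQQ

theorem seed : Seed {x | IsConj d x} (perpSet E d₀) d := by
  have hq : IsQuasisimple ↥(Subgroup.centralizer ({d} : Set G)) :=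
    (Grp.isQuasisimple_congr I.iso).mpr (M23.quasisimple I.base I.mem)
  refine ⟨IsConj.refl d, I.closure_perp hc, hq, fun z hz hzc => ?_, ?_⟩
  · have hzz : I.iso ⟨z, hz⟩ ∈ Subgroup.center ↥(PerpGroup E d₀) := Subgroup.mem_center_iff.mpr fun y => by
      obtain ⟨x, rfl⟩ := I.iso.surjective y
      rw [← map_mul, ← map_mul]
      exact congrArg I.iso (Subtype.ext (hzc x x.2).eq)
    rw [M23.centre I.base I.mem, Subgroup.mem_subgroupOf] at hzz
    obtain ⟨n, hn⟩ := hzz
    have hz' : z = d ^ n := by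
      have e : I.iso ⟨z, hz⟩ = ⟨d₀, M23.self I.base I.mem⟩ ^ n := Subtype.ext (by
        rw [SubgroupClass.coe_zpow]; exact hn.symm)
      have := congrArg I.emb e
      rwa [I.emb_iso, map_zpow, I.emb_d₀] at this
    rcases Int.even_or_odd' n with ⟨k, rfl | rfl⟩
    · left
      rw [hz', zpow_mul, show d ^ (2 : ℤ) = 1 by rw [zpow_two]; exact I.sq_d, one_zpow]
    · right
      rw [hz', zpow_add, zpow_mul, show d ^ (2 : ℤ) = 1 by rw [zpow_two]; exact I.sq_d, one_zpow, one_mul,
        zpow_one]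
  · have em : (Subgroup.centralizer ({d} : Set G)) = PerpGroup {x | IsConj d x} d := (I.closure_perp hc).symm
    let σ₀ : ↥(PerpGroup E d₀) ≃* ↥(PerpGroup {x | IsConj d x} d) :=
      I.iso.symm.trans (MulEquiv.subgroupCongr em)
    have hσ : ∀ y, ((σ₀ y : ↥(PerpGroup {x | IsConj d x} d)) : G) = I.emb y := fun _ => rfl
    have hcz : (Subgroup.center ↥(PerpGroup E d₀)).map σ₀.toMonoidHom =
        Subgroup.center ↥(PerpGroup {x | IsConj d x} d) := by
      ext x
      simp only [Subgroup.mem_map, MulEquiv.coe_toMonoidHom]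
      constructor
      · rintro ⟨y, hy, rfl⟩
        exact Subgroup.mem_center_iff.mpr fun z => by
          simpa using congrArg σ₀ (Subgroup.mem_center_iff.mp hy (σ₀.symm z))
      · intro hx
        refine ⟨σ₀.symm x, Subgroup.mem_center_iff.mpr fun z => ?_, σ₀.apply_symm_apply x⟩
        simpa using congrArg σ₀.symm (Subgroup.mem_center_iff.mp hx (σ₀ z))
    refine ⟨QuotientGroup.congr _ _ σ₀ hcz, ?_⟩
    have hsc : σ₀ (I.iso ⟨sign d c, I.sign_mem⟩) ∈ Subgroup.center ↥(PerpGroup {x | IsConj d x} d) :=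
      hcz ▸ Subgroup.mem_map_of_mem _ I.iso_sign
    have key : ∀ (y : ↥(PerpGroup E d₀)) (hy : sign d c * I.emb y ∈ PerpGroup {x | IsConj d x} d),
        QuotientGroup.congr _ _ σ₀ hcz (QuotientGroup.mk y) = QuotientGroup.mk ⟨_, hy⟩ := by
      intro y hy
      refine (QuotientGroup.congr_mk _ _ σ₀ hcz y).trans (QuotientGroup.eq.mpr ?_)
      have e : (σ₀ y)⁻¹ * ⟨sign d c * I.emb y, hy⟩ = σ₀ (I.iso ⟨sign d c, I.sign_mem⟩) := Subtype.ext (by
        rw [Subgroup.coe_mul, Subgroup.coe_inv, hσ, hσ, I.emb_iso]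
        show (I.emb y)⁻¹ * (sign d c * I.emb y) = sign d c
        rw [(I.emb_conj_sign y).eq, inv_mul_cancel_left])
      rw [e]
      exact hsc
    apply Set.Subset.antisymm
    · rintro _ ⟨q, hq, rfl⟩
      obtain ⟨u, hu, rfl⟩ := exists_of_mem hq
      have hm : sign d c * I.emb ⟨u, Subgroup.subset_closure hu⟩ ∈ perp {x | IsConj d x} d :=
        (I.perp_eq hc).symm ▸ ⟨_, hu, rfl⟩
      exact ⟨⟨_, Subgroup.subset_closure hm⟩, hm, (key _ _).symm⟩
    · intro q hq
      obtain ⟨v, hv, rfl⟩ := exists_of_mem hq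
      obtain ⟨y, hy, rfl⟩ : v ∈ I.below c := I.perp_eq hc ▸ hv
      exact ⟨QuotientGroup.mk y, ⟨y, hy, rfl⟩, key _ _⟩

end Ident

end Cfsg.Agent.Block.M23Up
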