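import Cfsg.Agent.Lib.Block.FischerTypes.M23Invol

/-! The members of a product of three commuting members in type M(23) are determined by it. -/

set_option autoImplicit false
set_option linter.style.haveILetI false
set_option linter.unusedSectionVars false

namespace Cfsg.Agent.Block.M23Up

open Cfsg Cfsg.Agent.Spor.ThreeTrans Cfsg.Agent.Block.FischerTypes

variable {M : Type*} [Group M] [Finite M] {E : Set M} (B : M23.Base E)
include B

/-- A member commuting with a pair commutes with both and lies apart from the pair. -/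
theorem pair_split {a b c : M} (ha : a ∈ E) (hb : b ∈ perp E a) (hc : c ∈ E) (h : Commute c (a * b)) :
    Commute c a ∧ Commute c b :=
  (commute_mul_iff B.set.cls.1 ha hb.1 hc (Ne.symm hb.2.1) hb.2.2).mp h

theorem triple_unique {i : M} {l l' : List M} (hl : Fact' E 3 i l) (hl' : Fact' E 3 i l') :
    ∀ x, x ∈ l ↔ x ∈ l' := by
  classical
  have h := B.set.cls
  by_cases hsh : ∃ x ∈ l, x ∈ l'
  · obtain ⟨x, hx, hx'⟩ := hsh
    exact share h B.set.tf hl hl' hx hx'
  push Not at hsh
  exfalso
  obtain ⟨a, b, c, rfl⟩ := List.length_eq_three.mp hl.2.1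
  obtain ⟨hn, -, hD, hc, hp⟩ := hl
  obtain ⟨hn', hlen', hD', hc', hp'⟩ := hl'
  have hn2 := hn
  simp only [List.nodup_cons, List.mem_cons, List.not_mem_nil, or_false, not_or, List.nodup_nil,
    not_false_eq_true, and_true] at hn2
  have hp2 : a * b * c = i := by rw [← hp]; simp [mul_assoc]
  have across : ∀ e ∈ l', ∀ x ∈ [a, b, c], Commute e x := by
    intro e he
    have k : Commute e (a * b * c) := by
      rw [hp2, ← hp']
      exact Commute.list_prod_right _ _ fun y hy => hc' e he y hy
    have k' := (commute_mul_three_iff h.1 (hD a (by simp)) (hD b (by simp)) (hD c (by simp)) (hD' e he)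
      hn2.1.1 hn2.1.2 hn2.2 (hc a (by simp) b (by simp)) (hc a (by simp) c (by simp))
      (hc b (by simp) c (by simp))).mp k
    simp only [List.mem_cons, List.not_mem_nil, or_false]
    rintro x (rfl | rfl | rfl)
    exacts [k'.1, k'.2.1, k'.2.2]
  refine M23.six_ne B (l := [a, b, c] ++ l') (hn.append hn' fun x hx hx' => hsh x hx hx')
    (by rw [List.length_append, hlen']; rfl) ?_ ?_ ?_
  · intro x hx
    exact (List.mem_append.mp hx).elim (hD x) (hD' x)
  · intro x hx y hy
    rcases List.mem_append.mp hx with k | k <;> rcases List.mem_append.mp hy with k' | k'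
    exacts [hc x k y k', (across y k' x k).symm, across x k y k', hc' x k y k']
  · rw [List.prod_append, hp, ← hp']
    exact prod_mul_prod h.1 l' hD' hc'

/-- The list of a pair. -/
theorem fact_pair {a b : M} (ha : a ∈ E) (hb : b ∈ perp E a) : Fact' E 2 (a * b) [a, b] := by
  refine ⟨by simp [Ne.symm hb.2.1], rfl, by simp [ha, hb.1], ?_, by simp⟩
  simp only [List.mem_cons, List.not_mem_nil, or_false]
  rintro x (rfl | rfl) y (rfl | rfl)
  exacts [.refl _, hb.2.2, hb.2.2.symm, .refl _]

/-- A member is a product of one. -/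
theorem fact_one {a : M} (ha : a ∈ E) : Fact' E 1 a [a] :=
  ⟨List.nodup_singleton a, rfl, by simp [ha], by simp, by simp⟩

theorem pair_ne_member {a b : M} (ha : a ∈ E) (hb : b ∈ perp E a) : a * b ∉ E := fun k =>
  absurd (M23.fact_unique B le_rfl (by norm_num) (by norm_num) (by norm_num) (fact_one B k) (fact_pair B ha hb))
    (by norm_num)

end Cfsg.Agent.Block.M23Up
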