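import Cfsg.Agent.Lib.Block.FischerTypes.M23Up.Clique
import Cfsg.Agent.Lib.Block.FischerTypes.M23Up.Component
import Cfsg.Agent.Lib.Block.FischerTypes.M23Up.Triple
import Cfsg.Agent.Lib.Block.FischerTypes.M23Pair
import Cfsg.Agent.Lib.Invol.ZStar

/-! The component is the whole group. -/

set_option autoImplicit false
set_option linter.style.haveILetI false
set_option linter.unusedSectionVars false
set_option maxHeartbeats 1000000

namespace Cfsg.Agent.Block.M23Up

open Cfsg Cfsg.Agent.Spor.ThreeTrans Cfsg.Agent.Block.FischerTypes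

universe u

variable {G : Type u} [Group G] [Finite G] {K : Type*} [Group K] [Finite K] {D : Set G} {F : Set K} {d : G}
  (Lc : Loc D F) (S : Seed D F d) (hD : ∀ x ∈ D, IsConj d x)
include Lc S

omit Lc S in
theorem comp_le {x : G} (hx : x ∈ comp D d) : x ∈ compGroup D d := Subgroup.subset_closure hx

/-- The class meets the group it generates in the component. -/
theorem mem_comp {t : G} (ht : t ∈ D) (ht0 : t ∈ compGroup D d) : t ∈ comp D d := by
  have B₀ := comp_base Lc S
  have hδ : (⟨d, comp_le (self_comp Lc S)⟩ : ↥(compGroup D d)) ∈ compSet D d := self_comp Lc S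
  obtain ⟨α, hα, hc⟩ := M23.invol_fixed B₀ ⟨_, hδ⟩ (x := ⟨t, ht0⟩) (Subtype.ext (Lc.sq t ht))
  by_cases e : t = (α : G)
  · exact e ▸ hα
  · exact perp_sub Lc S hα ⟨ht, e, congrArg Subtype.val hc.symm.eq⟩

theorem conj_self {g : G} (h : g * d * g⁻¹ ∈ compGroup D d) : g ∈ compGroup D d := by
  obtain ⟨k, hk, e⟩ := comp_transitive Lc S (mem_comp Lc S (Lc.conj g d S.mem) h)
  have hkg : k⁻¹ * g ∈ compGroup D d := cent_le Lc S (Subgroup.mem_centralizer_singleton_iff.mpr (by
    calc k⁻¹ * g * d = k⁻¹ * (g * d * g⁻¹) * g := by group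
      _ = d * (k⁻¹ * g) := by rw [← e]; group))
  simpa using mul_mem hk hkg

theorem conj_any {g x : G} (hx : x ∈ comp D d) (h : g * x * g⁻¹ ∈ compGroup D d) : g ∈ compGroup D d := by
  obtain ⟨k, hk, rfl⟩ := comp_transitive Lc S hx
  have : g * k ∈ compGroup D d := conj_self Lc S (by
    rwa [show g * k * d * (g * k)⁻¹ = g * (k * d * k⁻¹) * g⁻¹ by group])
  simpa using mul_mem this (inv_mem hk)

theorem cent_member {a : G} (ha : a ∈ comp D d) {g : G} (hg : Commute g a) : g ∈ compGroup D d :=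
  conj_any Lc S ha (by rw [conj_self_eq hg.eq]; exact comp_le ha)

/-- The normaliser of a large elementary abelian subgroup lies inside, and they are unique. -/
theorem exists_big : ∃ (T : Sylow 2 ↥(PerpGroup (compSet D d) ⟨d, comp_le (self_comp Lc S)⟩)),
    Uniq (⊤ : Subgroup G) ∧
    ∀ n ∈ Subgroup.normalizer (((big T).map (compGroup D d).subtype : Subgroup G) : Set G), n ∈ compGroup D d := by
  classical
  haveI : Fact (Nat.Prime 2) := ⟨Nat.prime_two⟩
  have B₀ := comp_base Lc S
  set δ : ↥(compGroup D d) := ⟨d, comp_le (self_comp Lc S)⟩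
  have hδ : δ ∈ compSet D d := self_comp Lc S
  let T := Classical.arbitrary (Sylow 2 ↥(PerpGroup (compSet D d) δ))
  set A := (big T).map (compGroup D d).subtype with hA
  have hAel : Elem A := (big_elem B₀ hδ T).map _
  have hAc : Nat.card ↥A = 2 ^ 11 := by
    rw [hA, ← Nat.card_congr ((big T).equivMapOfInjective _ (compGroup D d).subtype_injective).toEquiv,
      (cliq_facts B₀ hδ T).2]
  have hdA : d ∈ A := ⟨δ, Subgroup.subset_closure (self_mem_cliq B₀ hδ T), rfl⟩
  have hnorm : ∀ n ∈ Subgroup.normalizer (A : Set G), n ∈ (compGroup D d) := fun n hn =>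
    conj_self Lc S (Subgroup.map_subtype_le _ ((Subgroup.mem_normalizer_iff.mp hn d).mp hdA))
  refine ⟨T, ?_, hnorm⟩
  have hU0 : Uniq (compGroup D d) := by
    have := (uniq_top B₀ hδ).map (compGroup D d).subtype_injective
    rwa [← MonoidHom.range_eq_map, Subgroup.range_subtype] at this
  obtain ⟨P, hP⟩ := ((big_elem B₀ hδ T).isPGroup).exists_le_sylow
  set P' := (P : Subgroup ↥(compGroup D d)).map (compGroup D d).subtype with hP'
  have hAP : A ≤ P' := Subgroup.map_mono hP
  have hP'2 : IsPGroup 2 ↥P' := P.2.map _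
  obtain ⟨Q, hQ⟩ := hP'2.exists_le_sylow
  have hQ0 : ∀ x ∈ (Q : Subgroup G), x ∈ (compGroup D d) → x ∈ P' := by
    intro x hx hx0
    have h2 : IsPGroup 2 ↥((Q : Subgroup G).subgroupOf (compGroup D d)) :=
      Q.2.comap_of_injective (compGroup D d).subtype Subtype.val_injective
    have e := P.3 h2 fun y hy => hQ ⟨y, hy, rfl⟩
    exact ⟨⟨x, hx0⟩, e ▸ (show (⟨x, hx0⟩ : ↥(compGroup D d)) ∈ (Q : Subgroup G).subgroupOf (compGroup D d) from hx), rfl⟩
  have hQP : (Q : Subgroup G) = P' := by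
    by_contra hne
    have hlt : P'.subgroupOf (Q : Subgroup G) < ⊤ := lt_top_iff_ne_top.mpr fun e =>
      hne (le_antisymm (Subgroup.subgroupOf_eq_top.mp e) hQ)
    haveI := Q.2.isNilpotent
    obtain ⟨x, hx, hxn⟩ := SetLike.exists_of_lt (Group.normalizerCondition_of_isNilpotent _ hlt)
    have hxN : ∀ y, y ∈ P' → (x : G) * y * (x : G)⁻¹ ∈ P' := fun y hy =>
      (Subgroup.mem_normalizer_iff.mp hx ⟨y, hQ hy⟩).mp hy
    refine hxn (hQ0 x x.2 (hnorm x ?_))
    have e : A.map (MulAut.conj (x : G)).toMonoidHom = A := hU0 P' (Subgroup.map_subtype_le _) hP'2 _ _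
      (by rintro _ ⟨y, hy, rfl⟩; exact hxN y (hAP hy)) hAP (hAel.map _) hAel
      (by rw [← Nat.card_congr (A.equivMapOfInjective _ (MulAut.conj (x : G)).injective).toEquiv, hAc])
      hAc.ge
    rw [Subgroup.mem_normalizer_iff]
    intro y
    constructor
    · intro hy
      rw [← e]
      exact ⟨y, hy, rfl⟩
    · intro hy
      rw [← SetLike.mem_coe, ← e] at hy
      obtain ⟨z, hz, ez⟩ := hy
      exact (MulAut.conj (x : G)).injective ez ▸ hz
  intro R _ hR B B' hB hB' hel hel' hc hc'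
  obtain ⟨R₁, hR₁⟩ := hR.exists_le_sylow
  obtain ⟨g, rfl⟩ := MulAction.exists_smul_eq G Q R₁
  refine (hU0.map (f := (MulAut.conj g).toMonoidHom) (MulAut.conj g).injective) R ?_ hR B B' hB hB' hel hel' hc hc'
  intro r hr
  obtain ⟨q, hq, e⟩ := hR₁ hr
  exact ⟨q, Subgroup.map_subtype_le _ (hQP ▸ hq), e⟩

/-- Pairs and triples are not fused. -/
theorem no_fusion {x y : ↥(compGroup D d)} {l l' : List ↥(compGroup D d)} (hl : Fact' (compSet D d) 2 x l)
    (hl' : Fact' (compSet D d) 3 y l') (h : IsConj (x : G) (y : G)) : False := by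
  have B₀ := comp_base Lc S
  obtain ⟨T, hU, hN⟩ := exists_big Lc S
  have hδ : (⟨d, comp_le (self_comp Lc S)⟩ : ↥(compGroup D d)) ∈ compSet D d := self_comp Lc S
  set A := (big T).map (compGroup D d).subtype
  have move : ∀ {m : ℕ} {z : ↥(compGroup D d)} {k : List ↥(compGroup D d)}, Fact' (compSet D d) m z k →
      ∃ w : ↥(compGroup D d), w * z * w⁻¹ ∈ big T := by
    rintro m z k ⟨-, -, hkD, hkc, rfl⟩
    obtain ⟨w, hw⟩ := into_cliq B₀ hδ T (Y := {u | u ∈ k}) hkD hkc
    refine ⟨w, ?_⟩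
    rw [← MulAut.conj_apply, map_list_prod]
    refine list_prod_mem fun u hu => ?_
    obtain ⟨v, hv, rfl⟩ := List.mem_map.mp hu
    exact Subgroup.subset_closure (hw v hv)
  have hel : Elem A := (big_elem B₀ hδ T).map _
  have hc : 2 ^ 11 ≤ Nat.card ↥A := by
    rw [← Nat.card_congr ((big T).equivMapOfInjective _ (compGroup D d).subtype_injective).toEquiv,
      (cliq_facts B₀ hδ T).2]
  obtain ⟨v, hv⟩ := move hl
  obtain ⟨w, hw⟩ := move hl'
  obtain ⟨g, hg⟩ := isConj_iff.mp h
  have e : ((w : G) * g * (v : G)⁻¹) * ((v * x * v⁻¹ : ↥(compGroup D d)) : G) * ((w : G) * g * (v : G)⁻¹)⁻¹ =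
      ((w * y * w⁻¹ : ↥(compGroup D d)) : G) := by
    simp only [Subgroup.coe_mul, Subgroup.coe_inv, ← hg]
    group
  obtain ⟨n, hn, hn'⟩ := hU.fusion hel hc (Y := {((v * x * v⁻¹ : ↥(compGroup D d)) : G)})
    (g := (w : G) * g * (v : G)⁻¹) (Set.singleton_subset_iff.mpr ⟨_, hv, rfl⟩)
    (fun u hu => by rw [Set.mem_singleton_iff.mp hu, e]; exact ⟨_, hw, rfl⟩) le_top
  have hn0 := hN n hn
  have e' : (⟨n, hn0⟩ : ↥(compGroup D d)) * (v * x * v⁻¹) * ⟨n, hn0⟩⁻¹ = w * y * w⁻¹ :=
    Subtype.ext ((hn' _ rfl).trans e)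
  set γ := (⟨n, hn0⟩ : ↥(compGroup D d)) with hγ
  have ey : (w⁻¹ * γ * v) * x * (w⁻¹ * γ * v)⁻¹ = y := by
    calc _ = w⁻¹ * (γ * (v * x * v⁻¹) * γ⁻¹) * w := by group
      _ = y := by rw [e']; group
  obtain ⟨hn2, hlen, hlD, hlc, hlp⟩ := hl
  have hl2 : Fact' (compSet D d) 2 y (l.map (MulAut.conj (w⁻¹ * γ * v))) := by
    refine ⟨hn2.map (MulAut.conj _).injective, by rw [List.length_map, hlen], ?_, ?_, ?_⟩
    · intro u hu
      obtain ⟨u, hu', rfl⟩ := List.mem_map.mp hu
      exact conj_mem B₀.set.cls _ (hlD u hu')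
    · intro u hu u' hu'
      obtain ⟨u, hu₁, rfl⟩ := List.mem_map.mp hu
      obtain ⟨u', hu₂, rfl⟩ := List.mem_map.mp hu'
      exact (hlc u hu₁ u' hu₂).map (MulAut.conj _)
    · rw [← map_list_prod, hlp]
      exact ey
  exact absurd (M23.fact_unique B₀ (by norm_num) (by norm_num) (by norm_num) le_rfl hl2 hl') (by norm_num)

/-- The centraliser of a pair lies inside. -/
theorem pair_cent {α β : ↥(compGroup D d)} (hα : α ∈ compSet D d) (hβ : β ∈ perp (compSet D d) α) {g : G}
    (hg : Commute g ((α * β : ↥(compGroup D d)) : G)) : g ∈ compGroup D d := by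
  classical
  have B₀ := comp_base Lc S
  have h := B₀.set.cls
  set a : G := (α : G) with ha'
  set b : G := (β : G) with hb'
  set s : G := a * b with hs
  have haD : a ∈ D := hα.1
  have hbD : b ∈ D := hβ.1.1
  have hab : Commute a b := congrArg Subtype.val hβ.2.2.eq
  have haa : a * a = 1 := Lc.sq a haD
  have hbb : b * b = 1 := Lc.sq b hbD
  have hss : s * s = 1 := by
    rw [hs, show a * b * (a * b) = a * (b * a) * b by group, hab.symm.eq, ← mul_assoc, haa, one_mul, hbb]
  have has : a * s = b := by rw [hs, ← mul_assoc, haa, one_mul]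
  have hs1 : s ≠ 1 := fun e => hβ.2.1 (Subtype.ext (show b = a by
    rw [← one_mul b, ← haa, mul_assoc, ← hs, e, mul_one]))
  have ha1 : a ≠ 1 := fun e => ne_one h.1 hα (Subtype.ext e)
  have hb1 : b ≠ 1 := fun e => ne_one h.1 hβ.1 (Subtype.ext e)
  have hsa : s ≠ a := fun e => hb1 (mul_eq_left.mp e)
  set X := Subgroup.centralizer ({s} : Set G) with hX
  let Z : Subgroup ↥X := (Subgroup.zpowers s).subgroupOf X
  have hZ : ∀ z : ↥X, z ∈ Z ↔ (z : G) = 1 ∨ (z : G) = s := by
    intro z
    rw [Subgroup.mem_subgroupOf]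
    constructor
    · rintro ⟨n, hn⟩
      have h2 : s ^ (2 : ℤ) = 1 := by rw [zpow_two]; exact hss
      rw [← hn]
      rcases Int.even_or_odd' n with ⟨k, rfl | rfl⟩
      · left; simp [zpow_mul, h2]
      · right; simp [zpow_add, zpow_mul, h2]
    · rintro (e | e) <;> rw [e]
      exacts [one_mem _, Subgroup.mem_zpowers s]
  haveI hZn : Z.Normal := ⟨fun z hz y => by
    have hc : Commute (y : G) (z : G) := by
      rcases (hZ z).mp hz with e | e <;> rw [e]
      · exact Commute.one_right _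
      · exact Subgroup.mem_centralizer_singleton_iff.mp y.2
    rw [show y * z * y⁻¹ = z from Subtype.ext (by
      rw [Subgroup.coe_mul, Subgroup.coe_mul, Subgroup.coe_inv]
      exact conj_self_eq hc.eq)]
    exact hz⟩
  let π : ↥X →* ↥X ⧸ Z := QuotientGroup.mk' Z
  have haX : a ∈ X := Subgroup.mem_centralizer_singleton_iff.mpr ((Commute.refl a).mul_right hab).eq
  set ā : ↥X ⧸ Z := π ⟨a, haX⟩ with hā
  have hā1 : ā ≠ 1 := fun e => by
    rcases (hZ _).mp ((QuotientGroup.eq_one_iff _).mp e) with k | k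
    exacts [ha1 k, hsa k.symm]
  have hā2 : ā * ā = 1 := by
    rw [hā, ← map_mul, show (⟨a, haX⟩ * ⟨a, haX⟩ : ↥X) = 1 from Subtype.ext haa, map_one]
  -- it is isolated
  have hiso : IsIsolatedInvolution ā := by
    refine ⟨orderOf_eq_prime (by rw [pow_two]; exact hā2) hā1, fun q hq => ?_⟩
    obtain ⟨y, rfl⟩ := QuotientGroup.mk'_surjective Z q
    set a' : G := (y : G) * a * (y : G)⁻¹ with ha''
    have ha'D : a' ∈ D := Lc.conj y a haD
    have hya : (π y * ā * (π y)⁻¹) = π (y * ⟨a, haX⟩ * y⁻¹) := by rw [map_mul, map_mul, map_inv]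
    have ha'' : ((y * ⟨a, haX⟩ * y⁻¹ : ↥X) : G) = a' := rfl
    rw [hya, hā] at hq ⊢
    have hq' := hq.eq
    rw [← map_mul, ← map_mul] at hq'
    have hmem := (hZ _).mp (QuotientGroup.eq.mp hq'.symm)
    simp only [Subgroup.coe_inv, Subgroup.coe_mul, ha''] at hmem
    rw [mul_inv_rev, Lc.inv_self haD, Lc.inv_self ha'D] at hmem
    have ha'0 : a' ∈ (compGroup D d) → a' ∈ comp D d := mem_comp Lc S ha'D
    rcases hmem with k | k
    · have hc : Commute a a' := by
        show a * a' = a' * a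
        calc a * a' = (a * a')⁻¹ := eq_inv_of_mul_eq_one_left (by rw [← k])
          _ = a' * a := by rw [mul_inv_rev, Lc.inv_self haD, Lc.inv_self ha'D]
      by_cases e : a' = a
      · exact congrArg π (Subtype.ext e)
      have ha'c : a' ∈ comp D d := perp_sub Lc S hα ⟨ha'D, e, hc⟩
      have hy0 : (y : G) ∈ (compGroup D d) := conj_any Lc S hα (comp_le ha'c)
      set γ : ↥(compGroup D d) := ⟨y, hy0⟩
      have hγs : γ * (α * β) * γ⁻¹ = α * β :=
        Subtype.ext (conj_self_eq (Subgroup.mem_centralizer_singleton_iff.mp y.2))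
      have f1 : Fact' (compSet D d) 2 (α * β) [γ * α * γ⁻¹, γ * β * γ⁻¹] := by
        refine ⟨by simp [Ne.symm hβ.2.1], rfl, by simp [conj_mem h γ hα, conj_mem h γ hβ.1], ?_, by
          simpa [mul_assoc] using hγs⟩
        have k := (commute_conj_iff γ α β).mpr hβ.2.2
        simp only [List.mem_cons, List.not_mem_nil, or_false]
        rintro u (rfl | rfl) v (rfl | rfl)
        exacts [.refl _, k, k.symm, .refl _]
      have := (pair_unique h B₀.set.tf f1 (fact_pair B₀ hα hβ) (γ * α * γ⁻¹)).mp (by simp)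
      simp only [List.mem_cons, List.not_mem_nil, or_false] at this
      rcases this with k | k
      · exact absurd (congrArg Subtype.val k) e
      · refine QuotientGroup.eq.mpr ((hZ _).mpr (Or.inr ?_))
        rw [Subgroup.coe_mul, Subgroup.coe_inv, ha'', Lc.inv_self ha'D, show a' = b from congrArg Subtype.val k]
        exact hab.symm.eq
    · exfalso
      have e : a' * a * a' = b := by
        rw [← has, ← k]
        calc a' * a * a' = a * a * (a' * a * a') := by rw [haa, one_mul]
          _ = _ := by group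
      have hb0 : a' * a * a'⁻¹ ∈ (compGroup D d) := by rw [Lc.inv_self ha'D, e]; exact β.2
      have ha'c := ha'0 (conj_any Lc S hα hb0)
      have hne : a' * a * (a' * a) = s ∨ False := Or.inl (by
        rw [show a' * a * (a' * a) = (a' * a * a') * a by group, e]; exact hab.symm.eq)
      have hsq : (a' * a) ^ 2 = s := by rw [pow_two]; exact hne.resolve_right id
      rcases Lc.near_three ha'D haD (Lc.near_trans ha'D S.mem haD (Lc.near_symm ha'c.2) hα.2) with k2 | k3
      · exact hs1 (hsq.symm.trans k2)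
      · have h1 : (a' * a) = s := by
          calc a' * a = (a' * a) ^ 3 * ((a' * a) ^ 2)⁻¹ := by group
            _ = s⁻¹ := by rw [k3, hsq, one_mul]
            _ = s := inv_eq_of_mul_eq_one_right hss
        have : s * s = s := by rw [← h1, ← pow_two]; exact hsq.trans h1.symm
        exact hs1 (mul_eq_left.mp this)
  obtain ⟨N, hN, hodd, hcomm⟩ := Cfsg.Agent.ZStar.exists_odd_normal hiso
  -- the pair's centraliser acts on it
  set K₀ := Subgroup.centralizer ({α, β} : Set ↥(compGroup D d)) with hK₀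
  have hK₀X : ∀ k : ↥K₀, ((k : ↥(compGroup D d)) : G) ∈ X := fun k => by
    refine Subgroup.mem_centralizer_singleton_iff.mpr ?_
    have k1 : Commute ((k : ↥(compGroup D d)) : G) a := (congrArg Subtype.val (Subgroup.mem_centralizer_iff.mp k.2 α (by simp))).symm
    have k2 : Commute ((k : ↥(compGroup D d)) : G) b := (congrArg Subtype.val (Subgroup.mem_centralizer_iff.mp k.2 β (by simp))).symm
    exact (k1.mul_right k2).eq
  let ι : ↥K₀ →* ↥X ⧸ Z := π.comp (((compGroup D d).subtype.comp K₀.subtype).codRestrict X hK₀X)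
  have hquasi : IsQuasisimple ↥K₀ := by
    obtain ⟨Fq, _, _, h4, ⟨e⟩⟩ := M23.pair_model B₀ hα hβ
    haveI := (psu_six h4).1
    haveI := e.toEquiv.nontrivial
    exact ⟨Group.isPerfect_def.mpr (M23.pair_perfect B₀ hα hβ),
      IsSimpleGroup.isSimpleGroup_of_surjective e.symm.toMonoidHom e.symm.surjective⟩
  have hcentre : ∀ k ∈ Subgroup.center ↥K₀, (k : ↥(compGroup D d)) ∈ Subgroup.closure ({α, β} : Set ↥(compGroup D d)) := fun k hk =>
    M23.pair_centre B₀ hα hβ ▸ ⟨k, hk, rfl⟩
  have hfour : ∀ v ∈ Subgroup.closure ({α, β} : Set ↥(compGroup D d)), v * v = 1 := by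
    intro v hv
    have hel := elem_closure (S := ({α, β} : Set ↥(compGroup D d))) (by
      rintro u (rfl | rfl) v (rfl | rfl)
      exacts [.refl _, hβ.2.2, hβ.2.2.symm, .refl _]) (by
      rintro u (rfl | rfl)
      exacts [mul_self h.1 hα, mul_self h.1 hβ.1])
    exact hel.2 v hv
  have hαK : α ∈ K₀ := Subgroup.mem_centralizer_iff.mpr (by
    rintro z (rfl | rfl); exacts [rfl, hβ.2.2.symm.eq])
  have hoddN : ∀ q ∈ N, q * q = 1 → q = 1 := by
    intro q hq h2
    have h1 : orderOf q ∣ Nat.card ↥N := (Subgroup.orderOf_mk q hq) ▸ orderOf_dvd_natCard (⟨q, hq⟩ : ↥N)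
    have h3 : orderOf q ∣ 2 := orderOf_dvd_of_pow_eq_one (by rw [pow_two]; exact h2)
    rcases (Nat.dvd_prime Nat.prime_two).mp h3 with k | k
    · exact orderOf_eq_one_iff.mp k
    · exact absurd (k ▸ h1) (Nat.not_even_iff_odd.mpr hodd ∘ even_iff_two_dvd.mpr)
  haveI : (N.comap ι).Normal := hN.comap ι
  have hsmall : ∀ k : ↥K₀, ι k ∈ N → ι k = 1 := by
    intro k hk
    rcases Grp.IsQuasisimple.eq_top_or_le_center hquasi (N.comap ι) with e | e
    · refine absurd (hoddN ā ?_ hā2) hā1
      have : (⟨α, hαK⟩ : ↥K₀) ∈ N.comap ι := e ▸ Subgroup.mem_top _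
      exact this
    · refine hoddN _ hk ?_
      rw [← map_mul, show k * k = 1 from Subtype.ext (hfour _ (hcentre k (e hk))), map_one]
  -- elements acting without fixed points
  have hfix : ∀ (μ : ↥K₀), (μ : ↥(compGroup D d)) ∈ compSet D d → ∀ q ∈ N, ι μ * q * (ι μ)⁻¹ = q → q = 1 := by
    intro μ hμ q hq hfx
    obtain ⟨y, rfl⟩ := QuotientGroup.mk'_surjective Z q
    set m : G := ((μ : ↥(compGroup D d)) : G) with hm
    have hmem : ((y : G) * m * (y : G)⁻¹) ∈ (compGroup D d) := by
      have h1 : π (⟨m, hK₀X μ⟩) * π y = π y * π ⟨m, hK₀X μ⟩ := mul_inv_eq_iff_eq_mul.mp hfx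
      rw [← map_mul, ← map_mul] at h1
      have h2 := (hZ _).mp (QuotientGroup.eq.mp h1)
      simp only [Subgroup.coe_inv, Subgroup.coe_mul] at h2
      rcases h2 with k | k
      · have e : (y : G) * m = m * (y : G) := (inv_mul_eq_one.mp k).symm
        rw [e, mul_inv_cancel_right]
        exact (μ : ↥(compGroup D d)).2
      · have e : (y : G) * m = m * (y : G) * s := by rw [← k]; group
        rw [e, mul_assoc (m * (y : G)), ← (show Commute ((y : G)⁻¹) s from
            (show Commute (y : G) s from Subgroup.mem_centralizer_singleton_iff.mp y.2).inv_left).eq,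
          ← mul_assoc, mul_inv_cancel_right]
        exact mul_mem (μ : ↥(compGroup D d)).2 (α * β).2
    have hy0 : (y : G) ∈ (compGroup D d) := conj_any Lc S hμ hmem
    -- it fixes both members
    set γ : ↥(compGroup D d) := ⟨y, hy0⟩
    obtain ⟨n, hn⟩ : ∃ n, Nat.card ↥N = 2 * n + 1 := hodd
    have hpow : π y ^ (2 * n + 1) = 1 := by
      rw [← hn]
      exact congrArg Subtype.val (pow_card_eq_one' (x := (⟨π y, hq⟩ : ↥N)))
    have hγpow : Commute (γ ^ (2 * n + 1)) α := by
      rw [← map_pow] at hpow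
      refine Subtype.ext ?_
      show ((γ ^ (2 * n + 1) : ↥(compGroup D d)) : G) * a = a * ((γ ^ (2 * n + 1) : ↥(compGroup D d)) : G)
      rw [SubmonoidClass.coe_pow, show ((γ : ↥(compGroup D d)) : G) ^ (2 * n + 1) = ((y ^ (2 * n + 1) : ↥X) : G) by
        rw [SubmonoidClass.coe_pow]]
      rcases (hZ _).mp ((QuotientGroup.eq_one_iff _).mp hpow) with k | k <;> rw [k]
      · rw [one_mul, mul_one]
      · exact ((Commute.refl a).mul_right hab).symm.eq
    have hγs : γ * (α * β) * γ⁻¹ = α * β :=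
      Subtype.ext (conj_self_eq (Subgroup.mem_centralizer_singleton_iff.mp y.2))
    have f1 : Fact' (compSet D d) 2 (α * β) [γ * α * γ⁻¹, γ * β * γ⁻¹] := by
      refine ⟨by simp [Ne.symm hβ.2.1], rfl, by simp [conj_mem h γ hα, conj_mem h γ hβ.1], ?_, by
        simpa [mul_assoc] using hγs⟩
      have k := (commute_conj_iff γ α β).mpr hβ.2.2
      simp only [List.mem_cons, List.not_mem_nil, or_false]
      rintro u (rfl | rfl) v (rfl | rfl)
      exacts [.refl _, k, k.symm, .refl _]
    have hu := pair_unique h B₀.set.tf f1 (fact_pair B₀ hα hβ)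
    have h1 := (hu (γ * α * γ⁻¹)).mp (by simp)
    simp only [List.mem_cons, List.not_mem_nil, or_false] at h1
    have hγa : γ * α * γ⁻¹ = α := by
      refine h1.resolve_right fun k => hβ.2.1 ?_
      have k2 : γ * β * γ⁻¹ = α := by
        have h2 := (hu (γ * β * γ⁻¹)).mp (by simp)
        simp only [List.mem_cons, List.not_mem_nil, or_false] at h2
        refine h2.resolve_right fun k' => hβ.2.1 ?_
        exact (mul_left_cancel (mul_right_cancel (k.trans k'.symm))).symm
      have h2a : γ ^ 2 * α * (γ ^ 2)⁻¹ = α := by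
        rw [pow_two, show γ * γ * α * (γ * γ)⁻¹ = γ * (γ * α * γ⁻¹) * γ⁻¹ by group, k, k2]
      have h2n : Commute ((γ ^ 2) ^ n) α :=
        (show Commute (γ ^ 2) α from mul_inv_eq_iff_eq_mul.mp h2a).pow_left n
      have hg1 : Commute γ α := by
        have e : γ = ((γ ^ 2) ^ n)⁻¹ * γ ^ (2 * n + 1) := by
          rw [← pow_mul, pow_succ, inv_mul_cancel_left]
        rw [e]
        exact h2n.inv_left.mul_left hγpow
      exact k.symm.trans (conj_self_eq hg1.eq)
    have hγb : γ * β * γ⁻¹ = β := by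
      have := hγs
      rw [show γ * (α * β) * γ⁻¹ = (γ * α * γ⁻¹) * (γ * β * γ⁻¹) by group, hγa] at this
      exact mul_left_cancel this
    have hγK : γ ∈ K₀ := Subgroup.mem_centralizer_iff.mpr (by
      rintro z (rfl | rfl)
      exacts [(mul_inv_eq_iff_eq_mul.mp hγa).symm, (mul_inv_eq_iff_eq_mul.mp hγb).symm])
    exact hsmall ⟨γ, hγK⟩ hq
  let ψ : ↥K₀ →* MulAut ↥N := (MulAut.conjNormal (H := N)).comp ι
  have hψ : ∀ (k : ↥K₀) (q : ↥N), ((ψ k q : ↥N) : ↥X ⧸ Z) = ι k * q * (ι k)⁻¹ := fun k q =>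
    MulAut.conjNormal_apply _ _
  have hinv : ∀ (μ : ↥K₀), (μ : ↥(compGroup D d)) ∈ compSet D d → ∀ q : ↥N, ψ μ q = q⁻¹ := by
    intro μ hμ q
    have hf : MonoidHom.FixedPointFree ⇑(ψ μ).toMonoidHom := fun p hp => Subtype.ext
      (hfix μ hμ p p.2 ((hψ μ p).symm.trans (congrArg Subtype.val hp)))
    have h2 : Function.Involutive ⇑(ψ μ).toMonoidHom := fun p => by
      show ψ μ (ψ μ p) = p
      rw [← MulAut.mul_apply, ← map_mul, show μ * μ = 1 from Subtype.ext (mul_self h.1 hμ), map_one]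
      rfl
    exact congrFun (hf.coe_eq_inv_of_involutive h2) q
  obtain ⟨γ, hγ⟩ : (common (compSet D d) α β).Nonempty := Set.nonempty_of_ncard_ne_zero (by
    rw [M23.card_common B₀ hα hβ (M23.counts B₀ α hα)]; norm_num)
  have hγK : γ ∈ K₀ := Subgroup.mem_centralizer_iff.mpr (by
    rintro z (rfl | rfl)
    exacts [hγ.1.2.2.eq, hγ.2.2.2.eq])
  have hker : ψ.ker = ⊤ := by
    rcases Grp.IsQuasisimple.eq_top_or_le_center hquasi ψ.ker with e | e
    · exact e
    exfalso
    have hm : (⟨α, hαK⟩ * ⟨γ, hγK⟩ : ↥K₀) ∈ ψ.ker := MonoidHom.mem_ker.mpr <| MulEquiv.ext fun q => by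
      rw [map_mul, MulAut.mul_apply, hinv ⟨γ, hγK⟩ hγ.1.1, hinv ⟨α, hαK⟩ hα, inv_inv]
      rfl
    have hv : α * γ ∈ Subgroup.closure ({α, β} : Set ↥(compGroup D d)) := hcentre _ (e hm)
    have hαv : α ∈ Subgroup.closure ({α, β} : Set ↥(compGroup D d)) := Subgroup.subset_closure (by simp)
    have hγv : γ ∈ Subgroup.closure ({α, β} : Set ↥(compGroup D d)) := by simpa using mul_mem (inv_mem hαv) hv
    have key : ∀ v ∈ Subgroup.closure ({α, β} : Set ↥(compGroup D d)), v = 1 ∨ v = α ∨ v = β ∨ v = α * β := by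
      intro v hv
      have hαα := mul_self h.1 hα
      have hββ := mul_self h.1 hβ.1
      have hc := hβ.2.2.eq.symm
      have hc' : ∀ z, β * (α * z) = α * (β * z) := fun z => by rw [← mul_assoc, hc, mul_assoc]
      induction hv using Subgroup.closure_induction with
      | mem x hx => rcases hx with rfl | rfl <;> simp
      | one => simp
      | mul x y _ _ hx hy =>
        rcases hx with e | e | e | e <;> rcases hy with e' | e' | e' | e' <;> rw [e, e'] <;>
          simp [mul_assoc, hαα, hββ, hc, hc', mul_self_mul h.1 hα, mul_self_mul h.1 hβ.1]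
      | inv x _ hx =>
        rcases hx with e | e | e | e <;> rw [e] <;>
          simp [inv_eq h.1 hα, inv_eq h.1 hβ.1, hc]
    rcases key γ hγv with k | k | k | k
    · exact ne_one h.1 hγ.1.1 k
    · exact hγ.1.2.1 k
    · exact hγ.2.2.1 k
    · exact pair_ne_member B₀ hα hβ (k ▸ hγ.1.1)
  have hNbot : ∀ q ∈ N, q = 1 := fun q hq => by
    have h1 : ψ ⟨α, hαK⟩ = 1 := MonoidHom.mem_ker.mp (hker ▸ Subgroup.mem_top _)
    have h2 := hinv ⟨α, hαK⟩ hα ⟨q, hq⟩
    rw [h1, MulAut.one_apply] at h2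
    refine hoddN q hq ?_
    have h3 : q = q⁻¹ := congrArg Subtype.val h2
    conv_lhs => arg 2; rw [h3]
    exact mul_inv_cancel q
  -- so it is central modulo the pair
  have hgX : g ∈ X := Subgroup.mem_centralizer_singleton_iff.mpr hg.eq
  have h1 := hNbot _ (hcomm (π ⟨g, hgX⟩))
  rw [hā, ← map_inv, ← map_inv, ← map_mul, ← map_mul, ← map_mul] at h1
  have h2 := (hZ _).mp ((QuotientGroup.eq_one_iff _).mp h1)
  simp only [Subgroup.coe_mul, Subgroup.coe_inv] at h2
  refine conj_any Lc S hα ?_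
  rcases h2 with k | k
  · have e : g * a * g⁻¹ = a := by
      refine conj_self_eq ?_
      calc g * a = (a * g * a⁻¹ * g⁻¹)⁻¹ * (a * g) := by group
        _ = a * g := by rw [k, inv_one, one_mul]
    rw [e]
    exact α.2
  · have e : g * a * g⁻¹ = s⁻¹ * a := by rw [← k]; group
    rw [e]
    exact mul_mem (inv_mem (α * β).2) α.2

include hD

/-- Every member lies in the component. -/
theorem all_comp : ∀ t ∈ D, t ∈ comp D d := by
  classical
  intro t ht
  by_contra ht'
  have ht0 : t ∉ compGroup D d := fun k => ht' (mem_comp Lc S ht k)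
  have B₀ := comp_base Lc S
  have h := B₀.set.cls
  set δ : ↥(compGroup D d) := ⟨d, comp_le (self_comp Lc S)⟩ with hδ'
  have hδ : δ ∈ compSet D d := self_comp Lc S
  obtain ⟨g, hg⟩ := isConj_iff.mp (hD t ht)
  have key : ∀ (α β : ↥(compGroup D d)), α ∈ compSet D d → β ∈ perp (compSet D d) α → ∃ (i : ↥(compGroup D d)) (γ u v : ↥(compGroup D d)),
      Fact' (compSet D d) 3 i [α, β, γ] ∧ u ∈ perp (compSet D d) δ ∧ v ∈ perp (compSet D d) δ ∧
        (i : G) = g * ((δ * (u * v) : ↥(compGroup D d)) : G) * g⁻¹ := by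
    intro α β hα hβ
    set s : G := ((α * β : ↥(compGroup D d)) : G) with hs
    have hs2 : s * s = 1 := congrArg Subtype.val (show α * β * (α * β) = 1 by
      rw [← pow_two]; exact sq_of_commute h hα hβ.1 hβ.2.2)
    have hsD : s ∉ D := fun k => pair_ne_member B₀ hα hβ (mem_comp Lc S k (α * β).2)
    have ht2 := Lc.sq t ht
    obtain ⟨n, hn⟩ : ∃ n, orderOf (s * t) = n := ⟨_, rfl⟩
    have hr : (s * t) ^ n = 1 := hn ▸ pow_orderOf_eq_one _
    have hinv : (s * t)⁻¹ = t * s := by
      rw [mul_inv_rev, inv_eq_of_mul_eq_one_right hs2, Lc.inv_self ht]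
    have hshift : ∀ j : ℕ, (s * t) ^ j * t = t * ((s * t) ^ j)⁻¹ := by
      intro j
      induction j with
      | zero => simp
      | succ j ih =>
        calc (s * t) ^ (j + 1) * t = (s * t) ^ j * t * (t * s) := by
              rw [pow_succ, mul_assoc ((s * t) ^ j) (s * t) t, mul_assoc s t t, ht2, mul_one,
                mul_assoc ((s * t) ^ j) t (t * s), ← mul_assoc t t s, ht2, one_mul]
          _ = t * ((s * t) ^ j)⁻¹ * (t * s) := by rw [ih]
          _ = t * ((s * t) ^ (j + 1))⁻¹ := by rw [pow_succ', mul_inv_rev, hinv, mul_assoc]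
    have hts : s * t * t = s := by rw [mul_assoc, ht2, mul_one]
    have hsj : ∀ j : ℕ, (s * t) ^ j * s = s * ((s * t) ^ j)⁻¹ := by
      intro j
      calc (s * t) ^ j * s = (s * t) ^ (j + 1) * t := by rw [pow_succ, mul_assoc, hts]
        _ = t * ((s * t) ^ (j + 1))⁻¹ := hshift _
        _ = s * ((s * t) ^ j)⁻¹ := by
          rw [pow_succ, mul_inv_rev, hinv, ← mul_assoc, ← mul_assoc, ht2, one_mul]
    rcases Nat.even_or_odd' n with ⟨k, rfl | rfl⟩
    swap
    · -- odd order
      refine absurd ?_ hsD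
      have e : s = ((s * t) ^ (k + 1)) * t * ((s * t) ^ (k + 1))⁻¹ := by
        calc s = (s * t) ^ (k + 1) * ((s * t) ^ (k + 1) * t) := by
              rw [← mul_assoc, ← pow_add, show k + 1 + (k + 1) = 2 * k + 1 + 1 by omega, pow_succ, hr, one_mul, hts]
          _ = (s * t) ^ (k + 1) * (t * ((s * t) ^ (k + 1))⁻¹) := by rw [← hshift]
          _ = _ := (mul_assoc _ _ _).symm
      rw [e]
      exact Lc.conj _ t ht
    set i : G := (s * t) ^ k with hi
    have hn0 : 0 < 2 * k := hn ▸ orderOf_pos _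
    have hi1 : i ≠ 1 := fun e => by
      have := Nat.le_of_dvd (by omega) (hn ▸ orderOf_dvd_of_pow_eq_one e)
      omega
    have hii : i * i = 1 := by rw [hi, ← pow_add, ← two_mul]; exact hr
    have hinvi : i⁻¹ = i := inv_eq_of_mul_eq_one_right hii
    have hit : Commute i t := by
      show i * t = t * i
      rw [hi, hshift k, ← hi, hinvi]
    have hti : t * (i * t) = i := by rw [← mul_assoc, hit.symm.eq, mul_assoc, ht2, mul_one]
    have his : Commute i s := by
      have := (show Commute i (s * t) from (Commute.refl (s * t)).pow_left k).mul_right hit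
      rwa [mul_assoc, ht2, mul_one] at this
    have hi0 : i ∈ (compGroup D d) := pair_cent Lc S hα hβ his
    set ι : ↥(compGroup D d) := ⟨i, hi0⟩ with hι
    have hord : orderOf ι = 2 := by
      refine orderOf_eq_prime (Subtype.ext ?_) fun e => hi1 (congrArg Subtype.val e)
      rw [pow_two]; exact hii
    obtain ⟨m, hm1, hm3, l, hl⟩ := M23.invol_fact B₀ ⟨_, hδ⟩ hord
    have hm : m = 3 := by
      rcases (show m = 1 ∨ m = 2 ∨ m = 3 by omega) with e | e | e
      · subst e
        obtain ⟨x, rfl⟩ := List.length_eq_one_iff.mp hl.2.1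
        have hx : x = ι := by simpa using hl.2.2.2.2
        exact absurd (cent_member Lc S (show ι ∈ compSet D d from hx ▸ hl.2.2.1 x (by simp)) hit.symm) ht0
      · subst e
        obtain ⟨x, y, rfl⟩ := List.length_eq_two.mp hl.2.1
        have hxy : y ∈ perp (compSet D d) x := ⟨hl.2.2.1 y (by simp), fun e => by
          have := hl.1; simp [e] at this, hl.2.2.2.1 x (by simp) y (by simp)⟩
        exact absurd (pair_cent Lc S (hl.2.2.1 x (by simp)) hxy (g := t) (by
          rw [show x * y = ι by simpa using hl.2.2.2.2]; exact hit.symm)) ht0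
      · exact e
    subst hm
    rcases Nat.even_or_odd' k with ⟨j, rfl | rfl⟩
    · -- a pair of the other component
      exfalso
      have hy : i * t = (s * t) ^ j * t * ((s * t) ^ j)⁻¹ := by
        calc i * t = (s * t) ^ j * ((s * t) ^ j * t) := by rw [hi, two_mul, pow_add, mul_assoc]
          _ = (s * t) ^ j * (t * ((s * t) ^ j)⁻¹) := by rw [← hshift]
          _ = _ := (mul_assoc _ _ _).symm
      have hyD : i * t ∈ D := hy ▸ Lc.conj _ t ht
      set y' := g⁻¹ * (i * t) * g with hy'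
      have hy'D : y' ∈ D := by have := Lc.conj g⁻¹ _ hyD; rwa [inv_inv] at this
      have hyt : Commute (i * t) t := hit.mul_left (Commute.refl t)
      have hy'd : Commute d y' := by
        have := (hyt.map (MulAut.conj g⁻¹).toMonoidHom).symm
        rw [show (MulAut.conj g⁻¹).toMonoidHom t = d by
          rw [← hg]; simp [mul_assoc]] at this
        simpa [hy'] using this
      have hy'ne : y' ≠ d := fun e => hi1 (by
        have : i * t = t := by
          calc i * t = g * y' * g⁻¹ := by rw [hy']; group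
            _ = t := by rw [e, hg]
        exact mul_eq_right.mp this)
      have hy'0 : y' ∈ comp D d := perp_sub Lc S (self_comp Lc S) ⟨hy'D, hy'ne, hy'd⟩
      have hyp : (⟨y', comp_le hy'0⟩ : ↥(compGroup D d)) ∈ perp (compSet D d) δ :=
        ⟨hy'0, fun e => hy'ne (congrArg Subtype.val e), Subtype.ext hy'd.eq⟩
      refine no_fusion Lc S (fact_pair B₀ hδ hyp) hl (isConj_iff.mpr ⟨g, ?_⟩)
      show g * (d * y') * g⁻¹ = i
      rw [hy', show g * (d * (g⁻¹ * (i * t) * g)) * g⁻¹ = (g * d * g⁻¹) * (i * t) by group, hg, hti]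
    -- the third member
    have hc : i * s = ((s * t) ^ j * s) * t * ((s * t) ^ j * s)⁻¹ := by
      calc i * s = (s * t) ^ j * (s * t) * ((s * t) ^ j * s) := by
            rw [hi, ← mul_assoc, ← pow_succ, ← pow_add]; congr 2; omega
        _ = _ := by
            rw [mul_inv_rev, inv_eq_of_mul_eq_one_right hs2, ← hsj, ← mul_assoc ((s * t) ^ j) s t]
    have hcD : i * s ∈ D := hc ▸ Lc.conj _ t ht
    set γ : ↥(compGroup D d) := ι * (α * β) with hγ
    have hγD : γ ∈ compSet D d := mem_comp Lc S hcD γ.2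
    have hγs : Commute γ (α * β) := by
      refine Subtype.ext ?_
      exact (his.mul_left (Commute.refl s)).eq
    obtain ⟨hγa, hγb⟩ := pair_split B₀ hα hβ hγD hγs
    have hι2 : ι * ι = 1 := Subtype.ext hii
    have habab : α * β * (α * β) = 1 := Subtype.ext hs2
    have f3 : Fact' (compSet D d) 3 ι [α, β, γ] := by
      have hprod : α * (β * γ) = ι := by
        rw [hγ, ← mul_assoc α β, show ι * (α * β) = α * β * ι from Subtype.ext his.eq, ← mul_assoc, habab, one_mul]
      refine ⟨?_, rfl, by simp [hα, hβ.1, hγD], ?_, by simp [hprod]⟩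
      · have ne1 : γ ≠ α := fun e => absurd (M23.fact_unique B₀ le_rfl (by norm_num) (by norm_num) le_rfl
          (fact_one B₀ hβ.1) (by rwa [show ι = β by
            rw [← hprod, e, hβ.2.2.symm.eq, ← mul_assoc, mul_self h.1 hα, one_mul]] at hl)) (by norm_num)
        have ne2 : γ ≠ β := fun e => absurd (M23.fact_unique B₀ le_rfl (by norm_num) (by norm_num) le_rfl
          (fact_one B₀ hα) (by rwa [show ι = α by
            rw [← hprod, e, mul_self h.1 hβ.1, mul_one]] at hl)) (by norm_num)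
        simp [Ne.symm hβ.2.1, Ne.symm ne1, Ne.symm ne2]
      · simp only [List.mem_cons, List.not_mem_nil, or_false]
        rintro u (rfl | rfl | rfl) v (rfl | rfl | rfl)
        exacts [.refl _, hβ.2.2, hγa.symm, hβ.2.2.symm, .refl _, hγb.symm, hγa, hγb, .refl _]
    -- the pair of the other component
    have hy : i * t = (s * t) ^ j * s * ((s * t) ^ j)⁻¹ := by
      calc i * t = (s * t) ^ j * ((s * t) ^ j * s) := by
            rw [hi, pow_succ, mul_assoc _ (s * t) t, hts, two_mul, pow_add, mul_assoc]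
        _ = (s * t) ^ j * (s * ((s * t) ^ j)⁻¹) := by rw [← hsj]
        _ = _ := (mul_assoc _ _ _).symm
    set q := g⁻¹ * (i * t) * g with hq
    have hyt : Commute (i * t) t := hit.mul_left (Commute.refl t)
    have hqd : Commute q d := by
      have := hyt.map (MulAut.conj g⁻¹).toMonoidHom
      rw [show (MulAut.conj g⁻¹).toMonoidHom t = d by rw [← hg]; simp [mul_assoc]] at this
      simpa [hq] using this
    have hq0 : q ∈ (compGroup D d) := cent_member Lc S (self_comp Lc S) hqd
    have hqs : IsConj s q := isConj_iff.mpr ⟨g⁻¹ * (s * t) ^ j, by rw [hq, hy]; group⟩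
    have hq2 : orderOf (⟨q, hq0⟩ : ↥(compGroup D d)) = 2 := by
      obtain ⟨w, hw⟩ := isConj_iff.mp hqs
      refine orderOf_eq_prime (Subtype.ext ?_) fun e => ?_
      · show q ^ 2 = 1
        rw [pow_two, ← hw, show w * s * w⁻¹ * (w * s * w⁻¹) = w * (s * s) * w⁻¹ by group, hs2, mul_one,
          mul_inv_cancel]
      · have e' : q = 1 := congrArg Subtype.val e
        have hs1 : s = 1 := conj_eq_one_iff.mp (hw.trans e')
        exact hi1 (by
          rw [hi, hs1, one_mul, pow_succ, pow_mul, pow_two, ht2, one_pow, one_mul]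
          exact absurd (show t ∈ (compGroup D d) by
            have : i = t := by rw [hi, hs1, one_mul, pow_succ, pow_mul, pow_two, ht2, one_pow, one_mul]
            exact this ▸ hi0) ht0)
    obtain ⟨m, hm1, hm3, l', hl'⟩ := M23.invol_fact B₀ ⟨_, hδ⟩ hq2
    have hm2 : m = 2 := by
      rcases (show m = 1 ∨ m = 2 ∨ m = 3 by omega) with e | e | e
      · subst e
        obtain ⟨x, rfl⟩ := List.length_eq_one_iff.mp hl'.2.1
        have hx : x = ⟨q, hq0⟩ := by simpa using hl'.2.2.2.2
        obtain ⟨w, hw⟩ := isConj_iff.mp hqs.symm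
        have hqD : q ∈ D := (show (⟨q, hq0⟩ : ↥(compGroup D d)) ∈ compSet D d from hx ▸ hl'.2.2.1 x (by simp)).1
        exact absurd (hw ▸ Lc.conj w q hqD) hsD
      · exact e
      · subst e
        exact (no_fusion Lc S (fact_pair B₀ hα hβ) hl' hqs).elim
    subst hm2
    obtain ⟨u, v, rfl⟩ := List.length_eq_two.mp hl'.2.1
    have huv : u * v = ⟨q, hq0⟩ := by simpa using hl'.2.2.2.2
    have hu := hl'.2.2.1 u (by simp)
    have hv := hl'.2.2.1 v (by simp)
    have hne : v ≠ u := fun e => by have := hl'.1; simp [e] at this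
    have hcuv := hl'.2.2.2.1 u (by simp) v (by simp)
    obtain ⟨hdu, hdv⟩ := pair_split B₀ hu ⟨hv, hne, hcuv⟩ hδ (by rw [huv]; exact Subtype.ext hqd.symm.eq)
    have hiq : i = g * (d * q) * g⁻¹ := by
      rw [hq, show g * (d * (g⁻¹ * (i * t) * g)) * g⁻¹ = (g * d * g⁻¹) * (i * t) by group, hg, hti]
    have hi_nD : i ∉ D := fun k => by
      have := M23.fact_unique B₀ le_rfl (by norm_num) (by norm_num) le_rfl
        (fact_one B₀ (show ι ∈ compSet D d from mem_comp Lc S k hi0)) f3
      omega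
    have hdq : d * q = ((δ * (u * v) : ↥(compGroup D d)) : G) := by rw [huv]; rfl
    have hud : u ≠ δ := fun e => by
      have e3 : δ * (u * v) = v := by rw [e]; exact mul_self_mul h.1 hδ v
      refine hi_nD ?_
      rw [hiq, hdq, e3]
      exact Lc.conj g _ hv.1
    have hvd : v ≠ δ := fun e => by
      refine hi_nD ?_
      have e3 : δ * (u * v) = u := by
        rw [e, hdu.symm.eq]; exact mul_self_mul h.1 hδ u
      rw [hiq, hdq, e3]
      exact Lc.conj g _ hu.1
    exact ⟨ι, γ, u, v, f3, ⟨hu, hud, hdu⟩, ⟨hv, hvd, hdv⟩, by rw [huv]; exact hiq⟩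
  -- too many pairs
  choose i γ u v hf hu hv he using key
  let Q : Finset (↥(compGroup D d) × ↥(compGroup D d)) := (compSet D d).toFinite.toFinset.biUnion fun α =>
    (perp (compSet D d) α).toFinite.toFinset.image fun β => (α, β)
  have hQ : ∀ p, p ∈ Q ↔ p.1 ∈ compSet D d ∧ p.2 ∈ perp (compSet D d) p.1 := by
    rintro ⟨α, β⟩
    simp [Q]
  have hperp : ∀ α ∈ compSet D d, (perp (compSet D d) α).ncard = 3510 := fun α hα =>
    M23.card_perp B₀ hα (M23.counts B₀ α hα)
  have hQc : Q.card = 31671 * 3510 := by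
    rw [Finset.card_biUnion]
    · rw [Finset.sum_congr rfl (fun α hα => by
        rw [Finset.card_image_of_injective _ fun b b' e => (Prod.mk.injEq _ _ _ _ ▸ e).2,
          ← Set.ncard_eq_toFinset_card, hperp α ((Set.Finite.mem_toFinset _).mp hα)]),
        Finset.sum_const, smul_eq_mul, ← Set.ncard_eq_toFinset_card, M23.total B₀ ⟨δ, hδ⟩ (M23.counts B₀)]
    · intro α _ α' _ hne
      simp only [Function.onFun, Finset.disjoint_left, Finset.mem_image]
      rintro p ⟨β, -, rfl⟩ ⟨β', -, e⟩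
      exact hne (Prod.ext_iff.mp e).1.symm
  let P : Finset (↥(compGroup D d) × ↥(compGroup D d)) :=
    (perp (compSet D d) δ).toFinite.toFinset ×ˢ (perp (compSet D d) δ).toFinite.toFinset
  let Φ : ↥(compGroup D d) × ↥(compGroup D d) → ↥(compGroup D d) × ↥(compGroup D d) := fun p =>
    if hp : p.1 ∈ compSet D d ∧ p.2 ∈ perp (compSet D d) p.1 then
      (u p.1 p.2 hp.1 hp.2, v p.1 p.2 hp.1 hp.2) else p
  have hb : Q.card ≤ 9 * P.card := by
    refine Finset.card_le_mul_card_image_of_maps_to (f := Φ) ?_ 9 ?_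
    · intro p hp
      simp only [Φ, dif_pos ((hQ p).mp hp), P, Finset.mem_product, Set.Finite.mem_toFinset]
      exact ⟨hu _ _ _ _, hv _ _ _ _⟩
    · intro r _
      rcases (Q.filter fun p => Φ p = r).eq_empty_or_nonempty with e | ⟨p₀, hp₀⟩
      · rw [e]; simp
      obtain ⟨hp₀Q, hp₀r⟩ := Finset.mem_filter.mp hp₀
      have k₀ := (hQ p₀).mp hp₀Q
      let L : Finset ↥(compGroup D d) := [p₀.1, p₀.2, γ p₀.1 p₀.2 k₀.1 k₀.2].toFinset
      refine (Finset.card_le_card (t := L ×ˢ L) ?_).trans ?_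
      · intro p hp
        obtain ⟨hpQ, hpr⟩ := Finset.mem_filter.mp hp
        have k := (hQ p).mp hpQ
        rw [← hp₀r] at hpr
        simp only [Φ, dif_pos k, dif_pos k₀, Prod.mk.injEq] at hpr
        have ei : i p.1 p.2 k.1 k.2 = i p₀.1 p₀.2 k₀.1 k₀.2 := Subtype.ext (by
          rw [he p.1 p.2 k.1 k.2, he p₀.1 p₀.2 k₀.1 k₀.2, hpr.1, hpr.2])
        have hsame := triple_unique B₀ (ei ▸ hf p.1 p.2 k.1 k.2) (hf p₀.1 p₀.2 k₀.1 k₀.2)
        simp only [Finset.mem_product, L, List.mem_toFinset]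
        exact ⟨(hsame p.1).mp (by simp), (hsame p.2).mp (by simp)⟩
      · rw [Finset.card_product]
        have : L.card ≤ 3 := (List.toFinset_card_le _).trans (by simp)
        nlinarith
  rw [hQc, Finset.card_product, ← Set.ncard_eq_toFinset_card, hperp δ hδ] at hb
  norm_num at hb

theorem compGroup_top : compGroup D d = ⊤ :=
  eq_top_iff.mpr fun g _ => conj_self Lc S
    (comp_le (all_comp Lc S hD _ (Lc.conj g d S.mem)))

theorem class_eq : comp D d = D := Set.ext fun t => ⟨fun h => h.1, all_comp Lc S hD t⟩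

end Cfsg.Agent.Block.M23Up
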