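import Cfsg.Agent.Lib.Block.FischerTypes.M23Up.Model
import Cfsg.Agent.Lib.Block.FischerTypes.M23Up.Seed
import Cfsg.Agent.Lib.Block.FischerTypes.M23Up.Whole
import Cfsg.Agent.Lib.Fus.M23U.Main

/-! Groups with the centralizer of a transposition of Fi23. -/

set_option autoImplicit false
set_option linter.style.haveILetI false
set_option linter.unusedSectionVars false
set_option maxRecDepth 20000

namespace Cfsg.Agent.Block.M23Up

open Cfsg Cfsg.Agent.Spor.ThreeTrans Cfsg.Agent.Block.FischerTypes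
open Cfsg.Agent.Fus.M23U.TypeOf (classD)

universe u

variable {G : Type u} [Group G] [Finite G] {d : G}

theorem exists_ident (hd : orderOf d = 2) (hq : IsQuasisimple ↥(Subgroup.centralizer ({d} : Set G)))
    [hzn : ((Subgroup.zpowers d).subgroupOf (Subgroup.centralizer ({d} : Set G))).Normal]
    (e : Nonempty (↥(Subgroup.centralizer ({d} : Set G)) ⧸
      (Subgroup.zpowers d).subgroupOf (Subgroup.centralizer ({d} : Set G)) ≃* Spor.Fi22)) :
    Nonempty (Ident d classD Cfsg.Agent.Spor.Cos.Fi23.tz) := by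
  obtain ⟨φ, hφ⟩ := exists_iso_perp hd hq e
  refine ⟨⟨base_fi23, tz_mem, hd, φ, fun x hx => ?_⟩⟩
  rw [show x = ⟨d, Subgroup.mem_centralizer_singleton_iff.mpr rfl⟩ from Subtype.ext hx]
  exact hφ _

theorem quot_iso_of_type (hq : IsQuasisimple ↥(Subgroup.centralizer ({d} : Set G)))
    [hzn : ((Subgroup.zpowers d).subgroupOf (Subgroup.centralizer ({d} : Set G))).Normal]
    (htype : ∃ E : Set (↥(Subgroup.centralizer ({d} : Set G)) ⧸
      (Subgroup.zpowers d).subgroupOf (Subgroup.centralizer ({d} : Set G))),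
      IsThreeTranspositionClass E ∧ IsOfTypeM22 _ E) :
    Nonempty (↥(Subgroup.centralizer ({d} : Set G)) ⧸
      (Subgroup.zpowers d).subgroupOf (Subgroup.centralizer ({d} : Set G)) ≃* Spor.Fi22) := by
  obtain ⟨E, hE, h22⟩ := htype
  have hperf : commutator (↥(Subgroup.centralizer ({d} : Set G)) ⧸
      (Subgroup.zpowers d).subgroupOf (Subgroup.centralizer ({d} : Set G))) = ⊤ := by
    rw [commutator_def, ← Subgroup.map_top_of_surjective _ (QuotientGroup.mk'_surjective
      ((Subgroup.zpowers d).subgroupOf (Subgroup.centralizer ({d} : Set G)))), ← Subgroup.map_commutator,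
      ← commutator_def, hq.1.commutator_eq_top]
  obtain ⟨e, -⟩ := Cfsg.Agent.Fus.M22U.exists_iso (M22.ctx_of_perfect hE hperf h22)
  exact ⟨e.symm⟩

/-- The group is Fi23, and the class of the involution is its class of transpositions. -/
theorem fi23_facts (I : Ident d classD Cfsg.Agent.Spor.Cos.Fi23.tz)
    (hnwc : ∃ g : G, g * d * g⁻¹ ∈ Subgroup.centralizer ({d} : Set G) ∧ g * d * g⁻¹ ≠ d) :
    IsThreeTranspositionClass (conjugatesOf d) ∧ IsOfTypeM23 G (conjugatesOf d) ∧
      Nonempty (G ≃* Spor.Fi23) := by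
  haveI : Finite Spor.Fi22 := Cfsg.Agent.Spor.Cos.Fi22.finite
  obtain ⟨c, hc⟩ := I.conj_in_cent hnwc
  have Lc := I.loc hc
  have S := I.seed hc
  have htop := compGroup_top Lc S fun x hx => hx
  have heq := class_eq Lc S fun x hx => hx
  obtain ⟨e, he⟩ := Cfsg.Agent.Fus.M23U.exists_iso (comp_base Lc S) ⟨⟨d, comp_le (self_comp Lc S)⟩, self_comp Lc S⟩
  let f : Spor.Fi23 ≃* G := e.trans ((MulEquiv.subgroupCongr htop).trans Subgroup.topEquiv)
  have hf : f '' classD = conjugatesOf d := by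
    rw [show conjugatesOf d = comp {x | IsConj d x} d from heq.symm]
    ext y
    constructor
    · rintro ⟨x, hx, rfl⟩
      exact (show e x ∈ compSet _ d from he ▸ ⟨x, hx, rfl⟩)
    · intro hy
      obtain ⟨x, hx, hxy⟩ := (show (⟨y, comp_le hy⟩ : ↥(compGroup {x | IsConj d x} d)) ∈ e '' classD from
        he.symm ▸ hy)
      exact ⟨x, hx, congrArg Subtype.val hxy⟩
  refine ⟨?_, ?_, ⟨f.symm⟩⟩
  · rw [← hf]
    refine class_image f ?_
    rw [Cfsg.Agent.Fus.M23U.TypeOf.classD_eq]
    exact Cfsg.Agent.Spor.Cos.Fi23.isThreeTranspositionClass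
  · rw [← hf]
    exact m23_map f Cfsg.Agent.Fus.M23U.TypeOf.isOfTypeM23

end Cfsg.Agent.Block.M23Up
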