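import Cfsg.Agent.Lib.Block.FischerTypes.M23Up.Aut

/-!
The orbit of a distinguished vector of an elementary abelian group of order 2^11 carrying 22 further vectors with
product the distinguished one, on which its stabiliser is triply transitive: it has 23 members.
-/

set_option autoImplicit false
set_option linter.style.haveILetI false
set_option linter.unusedSectionVars false

namespace Cfsg.Agent.Block.M23Up

open Finset

variable {H V : Type*} [Group H] [CommGroup V] [Fintype V] [DecidableEq V]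

/-- The hypotheses. -/
structure Frame (α : H →* MulAut V) (d : V) (L : Finset V) : Prop where
  sq : ∀ x : V, x * x = 1
  card : Nat.card V = 2 ^ 11
  count : L.card = 22
  prod : ∏ x ∈ L, x = d
  inj : ∀ Y Y' : Finset V, Y ⊆ L → Y' ⊆ L → Y.card ≤ 3 → Y'.card ≤ 3 →
    ∏ x ∈ Y, x = ∏ x ∈ Y', x → Y = Y'
  inj' : ∀ Y Y' : Finset V, Y ⊆ L → Y' ⊆ L → Y.card ≤ 3 → Y'.card ≤ 2 →
    ∏ x ∈ Y, x ≠ d * ∏ x ∈ Y', x
  pres : ∀ h, α h d = d → ∀ x ∈ L, α h x ∈ L
  trans : ∀ a ∈ L, ∀ b ∈ L, ∀ c ∈ L, ∀ a' ∈ L, ∀ b' ∈ L, ∀ c' ∈ L, a ≠ b → a ≠ c → b ≠ c →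
    a' ≠ b' → a' ≠ c' → b' ≠ c' → ∃ h, α h d = d ∧ α h a = a' ∧ α h b = b' ∧ α h c = c'

/-- One or the distinguished vector. -/
def cl (d : V) (c : Bool) : V := cond c d 1

/-- The two translates of the 22. -/
def cls (d : V) (L : Finset V) (c : Bool) : Finset V := L.image (cl d c * ·)

/-- The orbit. -/
noncomputable def orb (α : H →* MulAut V) (d : V) : Finset V := by
  classical exact univ.filter fun v => ∃ h, α h d = v

/-- A choice of an element moving the distinguished vector. -/
noncomputable def mov (α : H →* MulAut V) (d v : V) : H := by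
  classical exact if h : ∃ h, α h d = v then h.choose else 1

/-- The translate of the classes at a point of the orbit. -/
noncomputable def side (α : H →* MulAut V) (d : V) (L : Finset V) (v : V) (c : Bool) : Finset V :=
  (cls d L c).image (α (mov α d v))

/-- The class with its point. -/
noncomputable def star (α : H →* MulAut V) (d : V) (L : Finset V) (v : V) (c : Bool) : Finset V :=
  insert v (side α d L v c)

variable {α : H →* MulAut V} {d : V} {L : Finset V}

theorem mem_orb {v : V} : v ∈ orb α d ↔ ∃ h, α h d = v := by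
  classical simp [orb]

theorem self_mem_orb : d ∈ orb α d := mem_orb.2 ⟨1, by simp⟩

theorem act_mem_orb (h : H) {v : V} : α h v ∈ orb α d ↔ v ∈ orb α d := by
  simp only [mem_orb]
  constructor
  · rintro ⟨g, hg⟩
    exact ⟨h⁻¹ * g, by rw [map_mul, MulAut.mul_apply, hg, map_inv, MulAut.inv_apply, MulEquiv.symm_apply_apply]⟩
  · rintro ⟨g, hg⟩
    exact ⟨h * g, by rw [map_mul, MulAut.mul_apply, hg]⟩

namespace Frame

variable (F : Frame α d L)
include F

theorem cancel (u x : V) : u * (u * x) = x := by rw [← mul_assoc, F.sq, one_mul]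

theorem d_not_mem : d ∉ L := fun k =>
  F.inj' {d} ∅ (by simpa using k) (by simp) (by simp) (by simp) (by simp)

theorem ne_one {a : V} (ha : a ∈ L) : a ≠ 1 := fun k => by
  have := F.inj {a} ∅ (by simpa using ha) (by simp) (by simp) (by simp) (by simp [k])
  simp at this

theorem d_ne_one : d ≠ 1 := fun k => F.inj' ∅ ∅ (by simp) (by simp) (by simp) (by simp) (by simp [k])

theorem exists_other (S : Finset V) (hS : S.card < 22) : ∃ x ∈ L, x ∉ S := by
  refine Finset.exists_mem_notMem_of_card_lt_card ?_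
  rw [F.count]
  exact hS

theorem image_L {h : H} (hh : α h d = d) : L.image (α h) = L :=
  eq_of_subset_of_card_le (image_subset_iff.2 (F.pres h hh))
    (le_of_eq (card_image_of_injective _ (α h).injective).symm)

theorem image_cls {h : H} (hh : α h d = d) (c : Bool) : (cls d L c).image (α h) = cls d L c := by
  conv_rhs => rw [cls, ← F.image_L hh, image_image]
  rw [cls, image_image]
  refine image_congr fun x _ => ?_
  cases c <;> simp [cl, hh]

theorem stab_one {a a' : V} (ha : a ∈ L) (ha' : a' ∈ L) : ∃ h, α h d = d ∧ α h a = a' := by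
  obtain ⟨b, hb, hab⟩ := F.exists_other {a} (by simp)
  obtain ⟨c, hc, hac⟩ := F.exists_other {a, b} (card_le_two.trans_lt (by norm_num))
  obtain ⟨b', hb', hab'⟩ := F.exists_other {a'} (by simp)
  obtain ⟨c', hc', hac'⟩ := F.exists_other {a', b'} (card_le_two.trans_lt (by norm_num))
  simp only [mem_insert, mem_singleton, not_or] at hab hac hab' hac'
  obtain ⟨h, h1, h2, -⟩ := F.trans a ha b hb c hc a' ha' b' hb' c' hc' (Ne.symm hab) (Ne.symm hac.1)
    (Ne.symm hac.2) (Ne.symm hab') (Ne.symm hac'.1) (Ne.symm hac'.2)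
  exact ⟨h, h1, h2⟩

theorem stab_two {a b a' b' : V} (ha : a ∈ L) (hb : b ∈ L) (ha' : a' ∈ L) (hb' : b' ∈ L) (hab : a ≠ b)
    (hab' : a' ≠ b') : ∃ h, α h d = d ∧ α h a = a' ∧ α h b = b' := by
  obtain ⟨c, hc, hac⟩ := F.exists_other {a, b} (card_le_two.trans_lt (by norm_num))
  obtain ⟨c', hc', hac'⟩ := F.exists_other {a', b'} (card_le_two.trans_lt (by norm_num))
  simp only [mem_insert, mem_singleton, not_or] at hac hac'
  obtain ⟨h, h1, h2, h3, -⟩ := F.trans a ha b hb c hc a' ha' b' hb' c' hc' hab (Ne.symm hac.1)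
    (Ne.symm hac.2) hab' (Ne.symm hac'.1) (Ne.symm hac'.2)
  exact ⟨h, h1, h2, h3⟩

theorem stab_set {Y Y' : Finset V} (hY : Y ⊆ L) (hY' : Y' ⊆ L) (hc : Y.card = Y'.card) (h3 : Y.card ≤ 3) :
    ∃ h, α h d = d ∧ Y.image (α h) = Y' := by
  rcases Nat.lt_or_ge Y.card 1 with h0 | h1
  · refine ⟨1, by simp, ?_⟩
    rw [card_eq_zero.1 (show Y.card = 0 by omega), card_eq_zero.1 (show Y'.card = 0 by omega)]
    simp
  rcases (show Y.card = 1 ∨ Y.card = 2 ∨ Y.card = 3 by omega) with k | k | k
  · obtain ⟨a, rfl⟩ := card_eq_one.1 k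
    obtain ⟨a', rfl⟩ := card_eq_one.1 (hc ▸ k)
    simp only [singleton_subset_iff] at hY hY'
    obtain ⟨h, e, e'⟩ := F.stab_one hY hY'
    exact ⟨h, e, by simp [e']⟩
  · obtain ⟨a, b, hab, rfl⟩ := card_eq_two.1 k
    obtain ⟨a', b', hab', rfl⟩ := card_eq_two.1 (hc ▸ k)
    simp only [insert_subset_iff, singleton_subset_iff] at hY hY'
    obtain ⟨h, e, e', e''⟩ := F.stab_two hY.1 hY.2 hY'.1 hY'.2 hab hab'
    exact ⟨h, e, by simp [e', e'']⟩
  · obtain ⟨a, b, c, hab, hac, hbc, rfl⟩ := card_eq_three.1 k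
    obtain ⟨a', b', c', hab', hac', hbc', rfl⟩ := card_eq_three.1 (hc ▸ k)
    simp only [insert_subset_iff, singleton_subset_iff] at hY hY'
    obtain ⟨h, e, e1, e2, e3⟩ := F.trans a hY.1 b hY.2.1 c hY.2.2 a' hY'.1 b' hY'.2.1 c' hY'.2.2 hab hac hbc
      hab' hac' hbc'
    exact ⟨h, e, by simp [e1, e2, e3]⟩

theorem side_act (g : H) (c : Bool) : side α d L (α g d) c = (cls d L c).image (α g) := by
  have hv : ∃ h, α h d = α g d := ⟨g, rfl⟩
  have hm : α (mov α d (α g d)) d = α g d := by
    rw [mov, dif_pos hv]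
    exact hv.choose_spec
  have k : α (g⁻¹ * mov α d (α g d)) d = d := by
    rw [map_mul, MulAut.mul_apply, hm, map_inv, MulAut.inv_apply, MulEquiv.symm_apply_apply]
  rw [side]
  conv_rhs => rw [← F.image_cls k c, image_image]
  refine image_congr fun x _ => ?_
  simp [map_mul, map_inv, MulAut.inv_apply]

theorem side_self (c : Bool) : side α d L d c = cls d L c := by
  have h := F.side_act 1 c
  simpa using h

theorem side_equi (h : H) {v : V} (hv : v ∈ orb α d) (c : Bool) :
    side α d L (α h v) c = (side α d L v c).image (α h) := by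
  obtain ⟨g, rfl⟩ := mem_orb.1 hv
  rw [show α h (α g d) = α (h * g) d by rw [map_mul, MulAut.mul_apply], F.side_act, F.side_act, image_image]
  exact image_congr fun x _ => by simp [map_mul]

theorem star_act (g : H) (c : Bool) : star α d L (α g d) c = (insert d (cls d L c)).image (α g) := by
  rw [star, F.side_act, image_insert]

theorem star_self (c : Bool) : star α d L d c = insert d (cls d L c) := by rw [star, F.side_self]

theorem mem_cls {x : V} {c : Bool} : x ∈ cls d L c ↔ ∃ a ∈ L, cl d c * a = x := mem_image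

theorem cl_mul_self (c : Bool) : cl d c * cl d c = 1 := F.sq _

theorem cls_flip (c : Bool) : cls d L (!c) = (cls d L c).image (d * ·) := by
  rw [cls, cls, image_image]
  refine image_congr fun x _ => ?_
  cases c <;> simp [cl, F.cancel]

theorem card_cls (c : Bool) : (cls d L c).card = 22 := by
  rw [cls, card_image_of_injective _ (mul_right_injective _), F.count]

theorem d_not_mem_cls (c : Bool) : d ∉ cls d L c := by
  intro k
  obtain ⟨a, ha, e⟩ := F.mem_cls.1 k
  cases c
  · simp only [cl, cond_false, one_mul] at e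
    exact F.d_not_mem (e ▸ ha)
  · simp only [cl, cond_true, mul_eq_left] at e
    exact F.ne_one ha e

theorem cls_ne {a : V} (ha : a ∈ L) : a ∉ cls d L true := by
  intro k
  obtain ⟨b, hb, e⟩ := F.mem_cls.1 k
  exact F.inj' {a} {b} (by simpa using ha) (by simpa using hb) (by simp) (by simp) (by simpa [cl] using e.symm)

theorem stars_ne : insert d (cls d L false) ≠ insert d (cls d L true) := by
  intro k
  obtain ⟨a, ha, -⟩ := F.exists_other ∅ (by simp)
  have : a ∈ insert d (cls d L true) := k ▸ mem_insert_of_mem (F.mem_cls.2 ⟨a, ha, by simp [cl]⟩)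
  rcases mem_insert.1 this with e | e
  · exact F.d_not_mem (e ▸ ha)
  · exact F.cls_ne ha e

theorem star_inj {v : V} (hv : v ∈ orb α d) {c c' : Bool} (e : star α d L v c = star α d L v c') : c = c' := by
  obtain ⟨g, rfl⟩ := mem_orb.1 hv
  rw [F.star_act, F.star_act] at e
  have e' := image_injective (α g).injective e
  cases c <;> cases c'
  · rfl
  · exact absurd e' F.stars_ne
  · exact absurd e'.symm F.stars_ne
  · rfl

theorem not_mem_side {v : V} (hv : v ∈ orb α d) (c : Bool) : v ∉ side α d L v c := by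
  obtain ⟨g, rfl⟩ := mem_orb.1 hv
  rw [F.side_act, mem_image]
  rintro ⟨x, hx, e⟩
  exact F.d_not_mem_cls c ((α g).injective e ▸ hx)

theorem side_flip {v : V} (hv : v ∈ orb α d) (c : Bool) :
    side α d L v (!c) = (side α d L v c).image (v * ·) := by
  obtain ⟨g, rfl⟩ := mem_orb.1 hv
  rw [F.side_act, F.side_act, F.cls_flip, image_image, image_image]
  exact image_congr fun x _ => map_mul _ _ _

theorem mul_prod_erase' {a : V} (ha : a ∈ L) (u : V) :
    ∏ x ∈ (L.erase a).image (u * ·), x = u * (d * a) := by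
  have h1 : (L.erase a).card = 21 := by rw [card_erase_of_mem ha, F.count]
  have e : ∏ x ∈ L.erase a, x = d * a := by
    have := mul_prod_erase L (fun x => x) ha
    rw [F.prod] at this
    rw [mul_comm d a, ← this, F.cancel]
  rw [prod_image fun x _ y _ k => mul_left_cancel k, prod_mul_distrib, prod_const, h1, e]
  congr 1
  rw [show (21 : ℕ) = 2 * 10 + 1 from rfl, pow_succ, pow_mul, pow_two, F.sq, one_pow, one_mul]

theorem other_unique {a : V} (ha : a ∈ L) {u u' x x' : V}
    (hu : ∃ e f : Bool, u = cl d e * cond f a 1) (hu' : ∃ e f : Bool, u' = cl d e * cond f a 1)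
    (hx : x ∈ L.erase a) (hx' : x' ∈ L.erase a) (k : u * x = u' * x') : x = x' := by
  obtain ⟨e, f, rfl⟩ := hu
  obtain ⟨e', f', rfl⟩ := hu'
  by_contra hne
  obtain ⟨hxa, hx⟩ := mem_erase.1 hx
  obtain ⟨hxa', hx'⟩ := mem_erase.1 hx'
  have hq : ∀ {p q : V}, p ∈ L → q ∈ L → p ≠ q → ∀ r : V, r ∈ L → r ≠ p → r ≠ q →
      ({p, q} : Finset V) ⊆ L ∧ ({p, r} : Finset V) ⊆ L ∧ ∏ y ∈ ({p, q} : Finset V), y = p * q :=
    fun hp hq hpq r hr _ _ => ⟨by simp [insert_subset_iff, hp, hq], by simp [insert_subset_iff, hp, hr],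
      prod_pair hpq⟩
  have key : ∀ (g h : Bool), cl d g * cond h a 1 * x = x' → False := by
    intro g h kk
    cases g <;> cases h <;> simp only [cl, cond_false, cond_true, one_mul, mul_one] at kk
    · exact hne kk
    · have := F.inj {a, x} {x'} (by simp [insert_subset_iff, ha, hx]) (by simpa using hx')
        (card_le_two.trans (by norm_num)) (by simp) (by rw [prod_pair (Ne.symm hxa), prod_singleton]; exact kk)
      have : a ∈ ({x'} : Finset V) := this ▸ mem_insert_self _ _
      exact hxa' (mem_singleton.1 this).symm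
    · exact F.inj' {x'} {x} (by simpa using hx') (by simpa using hx) (by simp) (by simp)
        (by simpa using kk.symm)
    · exact F.inj' {x'} {a, x} (by simpa using hx') (by simp [insert_subset_iff, ha, hx]) (by simp)
        card_le_two (by rw [prod_pair (Ne.symm hxa), prod_singleton, ← mul_assoc]; exact kk.symm)
  refine key (e.xor e') (f.xor f') ?_
  have k' := congrArg (fun t => cl d e' * cond f' a 1 * t) k
  simp only [F.cancel] at k'
  rw [← k']
  cases e <;> cases e' <;> cases f <;> cases f' <;>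
    simp [cl, mul_assoc, F.sq, F.cancel, mul_left_comm a d, mul_comm a d]

/-- The orbit of a stabiliser of two on the others. -/
theorem shape_decomp {a : V} (ha : a ∈ L) {W : Finset V} (hW : W.card ≤ 22)
    (hinv : ∀ h, α h d = d → α h a = a → ∀ x ∈ W, α h x ∈ W) {x : V} (hx : x ∈ W) :
    (∃ e f : Bool, x = cl d e * cond f a 1) ∨
      ∃ e f : Bool, ∀ i ∈ L.erase a, cl d e * cond f a 1 * i ∈ W ∧ ∃ i ∈ L.erase a, x = cl d e * cond f a 1 * i := by
  classical
  obtain ⟨e, Y, hY, hYc, rfl⟩ : ∃ e, ∃ Y ⊆ L, Y.card ≤ 3 ∧ x = cl d e * ∏ y ∈ Y, y := by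
    let S₀ := L.powersetCard 0 ∪ L.powersetCard 1 ∪ L.powersetCard 2
    let I : Finset (Bool × Finset V) := ({false} ×ˢ (S₀ ∪ L.powersetCard 3)) ∪ ({true} ×ˢ S₀)
    have hdis : ∀ i j, i ≠ j → Disjoint (L.powersetCard i) (L.powersetCard j) := fun i j hij =>
      disjoint_left.2 fun Y h1 h2 => hij ((mem_powersetCard.1 h1).2.symm.trans (mem_powersetCard.1 h2).2)
    have hS₀ : S₀.card = 254 := by
      rw [card_union_of_disjoint (disjoint_union_left.2 ⟨hdis 0 2 (by norm_num), hdis 1 2 (by norm_num)⟩),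
        card_union_of_disjoint (hdis 0 1 (by norm_num)), card_powersetCard, card_powersetCard, card_powersetCard,
        F.count]
      decide
    have hI : I.card = 2048 := by
      rw [card_union_of_disjoint (disjoint_left.2 fun p h1 h2 => by
        simp only [mem_product, mem_singleton] at h1 h2
        exact Bool.false_ne_true (h1.1.symm.trans h2.1)), card_product, card_product, card_singleton,
        card_singleton, one_mul, one_mul, card_union_of_disjoint (disjoint_union_left.2 ⟨disjoint_union_left.2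
          ⟨hdis 0 3 (by norm_num), hdis 1 3 (by norm_num)⟩, hdis 2 3 (by norm_num)⟩), hS₀, card_powersetCard,
        F.count, show (22 : ℕ).choose 3 = 1540 by decide +kernel]
    have hmem : ∀ p ∈ I, p.2 ⊆ L ∧ p.2.card ≤ 3 ∧ (p.1 = true → p.2.card ≤ 2) := by
      intro p hp
      simp only [I, S₀, mem_union, mem_product, mem_singleton, mem_powersetCard] at hp
      rcases hp with ⟨k, ((k' | k') | k') | k'⟩ | ⟨k, (k' | k') | k'⟩ <;>
        refine ⟨k'.1, by omega, fun k'' => ?_⟩ <;> first | omega | exact absurd (k.symm.trans k'') Bool.false_ne_true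
    have hinj : Set.InjOn (fun p : Bool × Finset V => cl d p.1 * ∏ y ∈ p.2, y) I := by
      intro p hp q hq k
      obtain ⟨p1, p2, p3⟩ := hmem p hp
      obtain ⟨q1, q2, q3⟩ := hmem q hq
      rcases p with ⟨_ | _, Y⟩ <;> rcases q with ⟨_ | _, Y'⟩ <;> simp only [cl, cond_false, cond_true, one_mul] at k
      · rw [F.inj Y Y' p1 q1 p2 q2 k]
      · exact absurd k (F.inj' Y Y' p1 q1 p2 (q3 rfl))
      · exact absurd k.symm (F.inj' Y' Y q1 p1 q2 (p3 rfl))
      · rw [F.inj Y Y' p1 q1 p2 q2 (mul_left_cancel k)]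
    have hall : I.image (fun p : Bool × Finset V => cl d p.1 * ∏ y ∈ p.2, y) = univ := eq_univ_of_card _ (by
      rw [card_image_of_injOn hinj, hI, ← Nat.card_eq_fintype_card, F.card]
      norm_num)
    obtain ⟨p, hp, k⟩ := mem_image.1 (hall ▸ mem_univ x)
    exact ⟨p.1, p.2, (hmem p hp).1, (hmem p hp).2.1, k.symm⟩
  obtain ⟨f, Z, hZ, hZc, hYZ⟩ : ∃ (f : Bool) (Z : Finset V), Z ⊆ L.erase a ∧ Z.card ≤ 3 ∧
      ∏ y ∈ Y, y = cond f a 1 * ∏ y ∈ Z, y := by
    by_cases k : a ∈ Y
    · exact ⟨true, Y.erase a, erase_subset_erase a hY, (card_erase_le).trans hYc,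
        (mul_prod_erase Y (fun y => y) k).symm⟩
    · exact ⟨false, Y, fun y hy => mem_erase.2 ⟨fun e => k (e ▸ hy), hY hy⟩, hYc, by simp⟩
  rw [hYZ, ← mul_assoc] at hx ⊢
  set u := cl d e * cond f a 1 with hu
  have hfix : ∀ h, α h d = d → α h a = a → α h u = u := by
    intro h h1 h2
    rw [hu, map_mul]
    cases e <;> cases f <;> simp [cl, h1, h2]
  have hmv : ∀ h, α h d = d → α h a = a → u * ∏ y ∈ Z.image (α h), y ∈ W := by
    intro h h1 h2
    have := hinv h h1 h2 _ hx
    rwa [map_mul, hfix h h1 h2, map_prod, ← prod_image (f := fun y => y) fun x _ y _ k => (α h).injective k] at this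
  have hL' : (L.erase a).card = 21 := by rw [card_erase_of_mem ha, F.count]
  rcases Nat.lt_or_ge Z.card 2 with h2 | h2
  · rcases (show Z.card = 0 ∨ Z.card = 1 by omega) with k | k
    · exact Or.inl ⟨e, f, by rw [card_eq_zero.1 k, prod_empty, mul_one]⟩
    · obtain ⟨i, rfl⟩ := card_eq_one.1 k
      have hi := singleton_subset_iff.1 hZ
      refine Or.inr ⟨e, f, fun j hj => ⟨?_, i, hi, by simp [hu]⟩⟩
      obtain ⟨h, h1, h2', h3⟩ := F.stab_two ha (mem_of_mem_erase hi) ha (mem_of_mem_erase hj)
        (ne_of_mem_erase hi).symm (ne_of_mem_erase hj).symm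
      have := hmv h h1 h2'
      rwa [image_singleton, prod_singleton, h3] at this
  · exfalso
    let 𝒵 := ((L.erase a).powersetCard Z.card).filter fun T => u * ∏ y ∈ T, y ∈ W
    have hle : 𝒵.card ≤ 22 := by
      refine le_trans ?_ hW
      refine card_le_card_of_injOn (fun T => u * ∏ y ∈ T, y) (fun T hT => (mem_filter.1 hT).2) ?_
      intro T hT T' hT' k
      obtain ⟨t1, t2⟩ := mem_powersetCard.1 (mem_filter.1 hT).1
      obtain ⟨t1', t2'⟩ := mem_powersetCard.1 (mem_filter.1 hT').1
      exact F.inj T T' (t1.trans (erase_subset _ _)) (t1'.trans (erase_subset _ _)) (t2 ▸ hZc) (t2' ▸ hZc)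
        (mul_left_cancel k)
    have hcov : (L.erase a).powersetCard 2 ⊆ 𝒵.biUnion fun T => T.powersetCard 2 := by
      intro P hP
      obtain ⟨P1, P2⟩ := mem_powersetCard.1 hP
      obtain ⟨i, j, hij, rfl⟩ := card_eq_two.1 P2
      simp only [insert_subset_iff, singleton_subset_iff] at P1
      obtain ⟨p, hp, q, hq, hpq⟩ := one_lt_card.1 (show 1 < Z.card by omega)
      obtain ⟨h, h1, h2', h3, h4⟩ := F.trans a ha p (mem_of_mem_erase (hZ hp)) q (mem_of_mem_erase (hZ hq)) a ha
        i (mem_of_mem_erase P1.1) j (mem_of_mem_erase P1.2) (ne_of_mem_erase (hZ hp)).symm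
        (ne_of_mem_erase (hZ hq)).symm hpq (ne_of_mem_erase P1.1).symm (ne_of_mem_erase P1.2).symm hij
      refine mem_biUnion.2 ⟨Z.image (α h), mem_filter.2 ⟨mem_powersetCard.2 ⟨?_,
        card_image_of_injective _ (α h).injective⟩, hmv h h1 h2'⟩, mem_powersetCard.2 ⟨?_, card_pair hij⟩⟩
      · refine image_subset_iff.2 fun y hy => mem_erase.2 ⟨fun k => ne_of_mem_erase (hZ hy) ?_,
          F.pres h h1 y (mem_of_mem_erase (hZ hy))⟩
        exact (α h).injective (k.trans h2'.symm)
      · simp only [insert_subset_iff, singleton_subset_iff, mem_image]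
        exact ⟨⟨p, hp, h3⟩, ⟨q, hq, h4⟩⟩
    have h1 := (card_le_card hcov).trans (card_biUnion_le_card_mul _ _ 3 fun T hT => by
      rw [card_powersetCard, (mem_powersetCard.1 (mem_filter.1 hT).1).2]
      rcases (show Z.card = 2 ∨ Z.card = 3 by omega) with k | k <;> rw [k] <;> decide)
    rw [card_powersetCard, hL', show (21 : ℕ).choose 2 = 210 by decide] at h1
    omega

/-- A set of 22 invariant under a stabiliser of two, with product that member. -/
theorem sides {c : Bool} {v : V} (hv : v ∈ cls d L c) {W : Finset V} (hW : W.card = 22)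
    (hinv : ∀ h, α h d = d → α h v = v → ∀ x ∈ W, α h x ∈ W) (h1 : (1 : V) ∉ W) (hvW : v ∉ W)
    (hp : ∏ x ∈ W, x = v) :
    W = insert d ((cls d L c).erase v) ∨ W = (insert d ((cls d L c).erase v)).image (v * ·) := by
  classical
  obtain ⟨a, ha, rfl⟩ := F.mem_cls.1 hv
  have hinv' : ∀ h, α h d = d → α h a = a → ∀ x ∈ W, α h x ∈ W := fun h e1 e2 =>
    hinv h e1 (by rw [map_mul, e2]; cases c <;> simp [cl, e1])
  have hL' : (L.erase a).card = 21 := by rw [card_erase_of_mem ha, F.count]
  let U : Finset V := univ.filter fun x => ∃ e f : Bool, x = cl d e * cond f a 1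
  have hU : U ⊆ {1, d, a, d * a} := by
    intro x hx
    obtain ⟨e, f, rfl⟩ := (mem_filter.1 hx).2
    cases e <;> cases f <;> simp [cl]
  obtain ⟨e, f, huW⟩ : ∃ e f : Bool, ∀ i ∈ L.erase a, cl d e * cond f a 1 * i ∈ W := by
    by_contra hno
    have hsub : W ⊆ U := fun x hx => by
      rcases F.shape_decomp ha hW.le hinv' hx with k | ⟨e, f, k⟩
      · exact mem_filter.2 ⟨mem_univ _, k⟩
      · exact absurd ⟨e, f, fun i hi => (k i hi).1⟩ hno
    have := card_le_card (hsub.trans hU)
    have h4 : ({1, d, a, d * a} : Finset V).card ≤ 4 := card_le_four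
    omega
  set u := cl d e * cond f a 1 with hu
  have hsub : (L.erase a).image (u * ·) ⊆ W := image_subset_iff.2 huW
  obtain ⟨x₀, hx₀, hWe⟩ : ∃ x₀, x₀ ∉ (L.erase a).image (u * ·) ∧ insert x₀ ((L.erase a).image (u * ·)) = W := by
    refine exists_eq_insert_iff.2 ⟨hsub, ?_⟩
    rw [card_image_of_injective _ (mul_right_injective _), hL', hW]
  have hx₀W : x₀ ∈ W := hWe ▸ mem_insert_self _ _
  have hx₀U : x₀ ∈ U := by
    rcases F.shape_decomp ha hW.le hinv' hx₀W with k | ⟨e', f', k⟩
    · exact mem_filter.2 ⟨mem_univ _, k⟩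
    exfalso
    obtain ⟨i₀, hi₀, hia⟩ := F.exists_other {a} (by simp)
    obtain ⟨j, hj, rfl⟩ := (k i₀ (mem_erase.2 ⟨by simpa using hia, hi₀⟩)).2
    have hsub' : (L.erase a).image (cl d e' * cond f' a 1 * ·) ⊆ W :=
      image_subset_iff.2 fun i hi => (k i hi).1
    refine hx₀ ?_
    obtain ⟨i, hi, hne⟩ : ∃ i ∈ L.erase a, i ≠ j := exists_mem_ne (by rw [hL']; norm_num) j
    have hi' := hsub' (mem_image_of_mem _ hi)
    rw [← hWe, mem_insert] at hi'
    rcases hi' with k' | k'
    · exact absurd (mul_left_cancel k') hne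
    · obtain ⟨i', hi'', k''⟩ := mem_image.1 k'
      have e2 : i' = i := F.other_unique ha ⟨e, f, rfl⟩ ⟨e', f', rfl⟩ hi'' hi k''
      subst e2
      rw [← mul_right_cancel k'']
      exact mem_image_of_mem _ hj
  have hprod : x₀ * (u * (d * a)) = cl d c * a := by
    rw [← hp, ← hWe, prod_insert hx₀, F.mul_prod_erase' ha u]
  have hu' : u = x₀ * (d * cl d c) := by
    have k := congrArg (fun t => x₀ * t * (d * a)) hprod
    simp only [F.cancel, mul_assoc, F.sq, mul_one] at k
    rw [k]
    simp [mul_comm, mul_left_comm, F.cancel, F.sq]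
  have hW' : W = insert x₀ ((L.erase a).image fun i => x₀ * (d * cl d c) * i) := by rw [← hWe, hu']
  have hS : (cls d L c).erase (cl d c * a) = (L.erase a).image (cl d c * ·) := by
    rw [cls, image_erase (mul_right_injective _)]
  rw [hS]
  have hx' := hU hx₀U
  simp only [mem_insert, mem_singleton] at hx'
  have left : x₀ = d → W = insert d ((L.erase a).image (cl d c * ·)) := by
    rintro rfl
    rw [hW']
    simp [F.cancel]
  have right : x₀ = cl d c * a * d →
      W = (insert d ((L.erase a).image (cl d c * ·))).image (cl d c * a * ·) := by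
    rintro rfl
    rw [hW', image_insert, image_image]
    congr 1
    refine image_congr fun i _ => ?_
    simp only [Function.comp_apply]
    rw [show cl d c * a * d * (d * cl d c) = a by
      rw [mul_assoc (cl d c * a), F.cancel, mul_comm (cl d c * a), ← mul_assoc, F.sq, one_mul],
      show cl d c * a * (cl d c * i) = a * i by rw [mul_mul_mul_comm, F.sq, one_mul]]
  rcases hx' with k | k | k | k
  · exact absurd (k ▸ hx₀W) h1
  · exact Or.inl (left k)
  · cases c
    · exact absurd (show cl d false * a ∈ W by simpa [cl] using k ▸ hx₀W) hvW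
    · exact Or.inr (right (by rw [k]; simp [cl, mul_comm, F.cancel]))
  · cases c
    · exact Or.inr (right (by rw [k]; simp [cl, mul_comm]))
    · exact absurd (show cl d true * a ∈ W by simpa [cl] using k ▸ hx₀W) hvW

end Frame

end Cfsg.Agent.Block.M23Up
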