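import Cfsg.Agent.Lib.Block.FischerTypes.M23Up.Frame

/-! The orbit of the distinguished vector of a frame has 23 members. -/

set_option autoImplicit false
set_option linter.style.haveILetI false
set_option linter.unusedSectionVars false

namespace Cfsg.Agent.Block.M23Up

open Finset

variable {H V : Type*} [Group H] [CommGroup V] [Fintype V] [DecidableEq V]
variable {α : H →* MulAut V} {d : V} {L : Finset V}

namespace Frame

variable (F : Frame α d L)
include F

/-- The products of `j` of the 22, possibly times the distinguished vector. -/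
theorem card_orb_formula : ∃ l b p q t : Bool,
    (orb α d).card = 1 + cond l 22 0 + cond b 22 0 + cond p 231 0 + cond q 231 0 + cond t 1540 0 ∧
    (l = true ↔ cls d L false ⊆ orb α d) ∧ (b = true ↔ cls d L true ⊆ orb α d) ∧
    (∀ x ∈ L, ∀ y ∈ L, x ≠ y → x * y ∈ orb α d → p = true) ∧
    (p = true → ∀ x ∈ L, ∀ y ∈ L, x ≠ y → x * y ∈ orb α d) ∧
    (l = false → ∀ x ∈ cls d L false, x ∉ orb α d) ∧ (b = false → ∀ x ∈ cls d L true, x ∉ orb α d) := by
  classical
  let Φ : Bool × Finset V → V := fun p => cl d p.1 * ∏ y ∈ p.2, y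
  let P : Bool → ℕ → Finset (Bool × Finset V) := fun e j => ({e} : Finset Bool) ×ˢ L.powersetCard j
  let I := P false 0 ∪ P false 1 ∪ P false 2 ∪ P false 3 ∪ P true 0 ∪ P true 1 ∪ P true 2
  have hdis : ∀ {e e' i j}, ¬(e = e' ∧ i = j) → Disjoint (P e i) (P e' j) := fun {e e' i j} hne =>
    disjoint_left.2 fun x h1 h2 => by
      simp only [P, mem_product, mem_singleton, mem_powersetCard] at h1 h2
      exact hne ⟨h1.1.symm.trans h2.1, h1.2.2.symm.trans h2.2.2⟩
  have hdj : ∀ (f : Bool × Finset V → Prop) [DecidablePred f] {e e' i j}, ¬(e = e' ∧ i = j) →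
      Disjoint ((P e i).filter f) ((P e' j).filter f) :=
    fun f _ {e e' i j} hne => disjoint_filter_filter (hdis hne)
  have hcard : ∀ e j, (P e j).card = (22 : ℕ).choose j := fun e j => by
    simp [P, card_product, card_powersetCard, F.count]
  have hmem : ∀ p ∈ I, p.2 ⊆ L ∧ p.2.card ≤ 3 ∧ (p.1 = true → p.2.card ≤ 2) := by
    intro p hp
    simp only [I, P, mem_union, mem_product, mem_singleton, mem_powersetCard] at hp
    rcases hp with (((((k | k) | k) | k) | k) | k) | k <;> obtain ⟨k, k1, k2⟩ := k <;>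
      refine ⟨k1, by omega, fun k' => ?_⟩ <;> first | omega | exact absurd (k.symm.trans k') Bool.false_ne_true
  have hinj : Set.InjOn Φ I := by
    intro p hp q hq k
    obtain ⟨p1, p2, p3⟩ := hmem p hp
    obtain ⟨q1, q2, q3⟩ := hmem q hq
    rcases p with ⟨_ | _, Y⟩ <;> rcases q with ⟨_ | _, Y'⟩ <;>
      simp only [Φ, cl, cond_false, cond_true, one_mul] at k
    · rw [F.inj Y Y' p1 q1 p2 q2 k]
    · exact absurd k (F.inj' Y Y' p1 q1 p2 (q3 rfl))
    · exact absurd k.symm (F.inj' Y' Y q1 p1 q2 (p3 rfl))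
    · rw [F.inj Y Y' p1 q1 p2 q2 (mul_left_cancel k)]
  have hI : I.card = 2048 := by
    have : ∀ {e j}, (P e j).card = (22 : ℕ).choose j := fun {e j} => hcard e j
    simp only [I]
    rw [card_union_of_disjoint, card_union_of_disjoint, card_union_of_disjoint, card_union_of_disjoint,
      card_union_of_disjoint, card_union_of_disjoint, this, this, this, this, this, this, this]
    · decide +kernel
    all_goals (try simp only [disjoint_union_left])
    all_goals repeat' apply And.intro
    all_goals exact hdis (by simp)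
  have hall : I.image Φ = univ := eq_univ_of_card _ (by
    rw [card_image_of_injOn hinj, hI, ← Nat.card_eq_fintype_card, F.card]
    norm_num)
  let f : Bool × Finset V → Prop := fun p => Φ p ∈ orb α d
  have horb : (orb α d).card = (I.filter f).card := by
    rw [← card_image_of_injOn (hinj.mono (coe_subset.2 (filter_subset f I)))]
    congr 1
    ext x
    constructor
    · intro hx
      obtain ⟨p, hp, rfl⟩ := mem_image.1 (hall ▸ mem_univ x)
      exact mem_image_of_mem _ (mem_filter.2 ⟨hp, hx⟩)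
    · intro hx
      obtain ⟨p, hp, rfl⟩ := mem_image.1 hx
      exact (mem_filter.1 hp).2
  have htype : ∀ e j, j ≤ 3 → ∀ p ∈ P e j, ∀ q ∈ P e j, f p → f q := by
    intro e j hj p hp q hq k
    simp only [P, mem_product, mem_singleton, mem_powersetCard] at hp hq
    obtain ⟨h, h1, h2⟩ := F.stab_set hp.2.1 hq.2.1 (hp.2.2.trans hq.2.2.symm) (hp.2.2 ▸ hj)
    show Φ q ∈ orb α d
    have : α h (Φ p) = Φ q := by
      simp only [Φ, map_mul, map_prod, hp.1, hq.1, ← h2,
        prod_image (f := fun y => y) fun x _ y _ k => (α h).injective k]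
      cases e <;> simp [cl, h1]
    rw [← this, act_mem_orb]
    exact k
  have hsel : ∀ e j, j ≤ 3 → ∃ s : Bool, ((P e j).filter f).card = cond s ((22 : ℕ).choose j) 0 ∧
      (s = true → ∀ p ∈ P e j, f p) ∧ (∀ p ∈ P e j, f p → s = true) := by
    intro e j hj
    by_cases k : ∃ p ∈ P e j, f p
    · obtain ⟨p, hp, hfp⟩ := k
      refine ⟨true, ?_, fun _ q hq => htype e j hj p hp q hq hfp, fun _ _ _ => rfl⟩
      rw [filter_true_of_mem fun q hq => htype e j hj p hp q hq hfp, hcard]
      rfl
    · push Not at k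
      refine ⟨false, ?_, fun h => Bool.noConfusion h, fun p hp hfp => absurd hfp (k p hp)⟩
      rw [filter_false_of_mem k, card_empty]
      rfl
  obtain ⟨a0, ha0, hf0, hf0'⟩ := hsel false 0 (by norm_num)
  obtain ⟨a1, ha1, hf1, hf1'⟩ := hsel false 1 (by norm_num)
  obtain ⟨a2, ha2, hf2, hf2'⟩ := hsel false 2 (by norm_num)
  obtain ⟨a3, ha3, -, -⟩ := hsel false 3 le_rfl
  obtain ⟨b0, hb0, hg0, hg0'⟩ := hsel true 0 (by norm_num)
  obtain ⟨b1, hb1, hg1, hg1'⟩ := hsel true 1 (by norm_num)
  obtain ⟨b2, hb2, -, -⟩ := hsel true 2 (by norm_num)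
  have ea0 : a0 = false := by
    refine Bool.eq_false_iff.2 fun k => ?_
    obtain ⟨h, hh⟩ := mem_orb.1 (hf0 k (false, ∅) (by simp [P]))
    simp only [Φ, cl, cond_false, prod_empty, mul_one, MulEquiv.map_eq_one_iff] at hh
    exact F.d_ne_one hh
  have eb0 : b0 = true := hg0' (true, ∅) (by simp [P]) (by simpa [f, Φ, cl] using self_mem_orb)
  have hPone : ∀ e, ∀ x ∈ cls d L e, ∃ y ∈ P e 1, Φ y = x := by
    intro e x hx
    obtain ⟨a, ha, rfl⟩ := F.mem_cls.1 hx
    exact ⟨(e, {a}), by simp [P, ha], by simp [Φ]⟩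
  have hone : ∀ (e : Bool) (s : Bool), (s = true → ∀ p ∈ P e 1, f p) → (∀ p ∈ P e 1, f p → s = true) →
      (s = true ↔ cls d L e ⊆ orb α d) ∧ (s = false → ∀ x ∈ cls d L e, x ∉ orb α d) := by
    intro e s h1 h2
    refine ⟨⟨fun k x hx => ?_, fun k => ?_⟩, fun k x hx hxO => ?_⟩
    · obtain ⟨y, hy, rfl⟩ := hPone e x hx
      exact h1 k y hy
    · obtain ⟨a, ha, -⟩ := F.exists_other ∅ (by simp)
      exact h2 (e, {a}) (by simp [P, ha]) (by simpa [f, Φ] using k (F.mem_cls.2 ⟨a, ha, rfl⟩))
    · obtain ⟨y, hy, rfl⟩ := hPone e x hx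
      exact Bool.false_ne_true (k.symm.trans (h2 y hy hxO))
  refine ⟨a1, b1, a2, b2, a3, ?_, (hone false a1 hf1 hf1').1, (hone true b1 hg1 hg1').1,
    fun x hx y hy hxy k => hf2' (false, {x, y}) (by simp [P, insert_subset_iff, hx, hy, card_pair hxy])
      (by simpa [f, Φ, cl, prod_pair hxy] using k),
    fun k x hx y hy hxy => by
      simpa [f, Φ, cl, prod_pair hxy] using hf2 k (false, {x, y}) (by simp [P, insert_subset_iff, hx, hy, card_pair hxy]),
    (hone false a1 hf1 hf1').2, (hone true b1 hg1 hg1').2⟩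
  rw [horb]
  simp only [I, filter_union]
  rw [card_union_of_disjoint, card_union_of_disjoint, card_union_of_disjoint, card_union_of_disjoint,
    card_union_of_disjoint, card_union_of_disjoint, ha0, ha1, ha2, ha3, hb0, hb1, hb2, ea0, eb0]
  · simp only [cond_false, cond_true, Nat.choose_zero_right, Nat.choose_one_right,
      show (22 : ℕ).choose 2 = 231 by decide +kernel, show (22 : ℕ).choose 3 = 1540 by decide +kernel]
    omega
  all_goals (try simp only [disjoint_union_left])
  all_goals repeat' apply And.intro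
  all_goals exact hdj f (by simp)

theorem card_orb_dvd : (orb α d).card ∣ gl11 := by
  classical
  refine dvd_trans ?_ (card_mulAut_dvd F.sq F.card)
  have e : (orb α d : Set V) = MulAction.orbit α.range d := by
    ext v
    simp only [mem_coe, mem_orb, MulAction.mem_orbit_iff, Subtype.exists, MonoidHom.mem_range]
    constructor
    · rintro ⟨h, rfl⟩
      exact ⟨α h, ⟨h, rfl⟩, rfl⟩
    · rintro ⟨_, ⟨h, rfl⟩, rfl⟩
      exact ⟨h, rfl⟩
  rw [← Set.ncard_coe_finset, e, ← Nat.card_coe_set_eq]
  rw [Nat.card_congr (MulAction.orbitEquivQuotientStabilizer α.range d)]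
  exact (Subgroup.card_quotient_dvd_card _).trans (Subgroup.card_subgroup_dvd_card α.range)

theorem side_subset_iff {v : V} (hv : v ∈ orb α d) (c : Bool) :
    side α d L v c ⊆ orb α d ↔ cls d L c ⊆ orb α d := by
  obtain ⟨g, rfl⟩ := mem_orb.1 hv
  simp [F.side_act, image_subset_iff, act_mem_orb, Finset.subset_iff]

theorem side_one {v : V} (hv : v ∈ orb α d) (c : Bool) : (1 : V) ∉ side α d L v c := by
  obtain ⟨g, rfl⟩ := mem_orb.1 hv
  rw [F.side_act, mem_image]
  rintro ⟨x, hx, e⟩
  rw [MulEquiv.map_eq_one_iff] at e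
  obtain ⟨a, ha, rfl⟩ := F.mem_cls.1 hx
  cases c <;> simp only [cl, cond_false, cond_true, one_mul] at e
  · exact F.ne_one ha e
  · refine F.cls_ne ha (F.mem_cls.2 ⟨a, ha, ?_⟩)
    simp only [cl, cond_true, e]
    exact absurd (show d = a by rw [← mul_one d, ← F.sq a, ← mul_assoc, e, one_mul]) fun k => F.d_not_mem (k ▸ ha)

/-- Which side at a member of a class is made of the distinguished vector and that class. -/
theorem exists_label (c : Bool) (hc : cls d L c ⊆ orb α d) : ∃ s : Bool, ∀ v ∈ cls d L c,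
    side α d L v s = insert d ((cls d L c).erase v) := by
  obtain ⟨a₀, ha₀, -⟩ := F.exists_other ∅ (by simp)
  have hv₀ : cl d c * a₀ ∈ cls d L c := F.mem_cls.2 ⟨a₀, ha₀, rfl⟩
  have hO := hc hv₀
  obtain ⟨g, hg⟩ := mem_orb.1 hO
  have hp : ∏ x ∈ side α d L (cl d c * a₀) false, x = cl d c * a₀ := by
    rw [← hg, F.side_act, prod_image fun x _ y _ k => (α g).injective k, ← map_prod]
    simp [cls, cl, F.prod]
  obtain ⟨s, hs⟩ : ∃ s, side α d L (cl d c * a₀) s = insert d ((cls d L c).erase (cl d c * a₀)) := by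
    rcases F.sides hv₀ (W := side α d L (cl d c * a₀) false) (by
      rw [← hg, F.side_act, card_image_of_injective _ (α g).injective, F.card_cls]) (fun h h1 h2 x hx => by
        have := F.side_equi h hO false
        rw [h2] at this
        rw [this]
        exact mem_image_of_mem _ hx) (F.side_one hO false) (F.not_mem_side hO false) hp with k | k
    · exact ⟨false, k⟩
    · refine ⟨true, ?_⟩
      rw [show true = !false from rfl, F.side_flip hO, k, image_image]
      exact (image_congr fun x _ => F.cancel _ x).trans image_id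
  refine ⟨s, fun v hv => ?_⟩
  obtain ⟨a, ha, rfl⟩ := F.mem_cls.1 hv
  obtain ⟨h, h1, h2⟩ := F.stab_one ha₀ ha
  have e : α h (cl d c * a₀) = cl d c * a := by rw [map_mul, h2]; cases c <;> simp [cl, h1]
  rw [← e, F.side_equi h hO, hs, image_insert, h1, image_erase (α h).injective, F.image_cls h1]

theorem star_label {c s : Bool}
    (hs : ∀ v ∈ cls d L c, side α d L v s = insert d ((cls d L c).erase v)) {v : V} (hv : v ∈ cls d L c) :
    star α d L v s = star α d L d c := by
  rw [star, hs v hv, F.star_self, insert_comm, insert_erase hv]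

/-- The rule at every point of the orbit. -/
theorem rule {c s : Bool} (hc : cls d L c ⊆ orb α d)
    (hs : ∀ v ∈ cls d L c, side α d L v s = insert d ((cls d L c).erase v))
    {v z : V} (hv : v ∈ orb α d) (hz : z ∈ side α d L v c) : star α d L z s = star α d L v c := by
  obtain ⟨g, rfl⟩ := mem_orb.1 hv
  rw [F.side_act] at hz
  obtain ⟨k, hk, rfl⟩ := mem_image.1 hz
  have h2 := F.star_label hs hk
  rw [star, F.side_equi g (hc hk), ← image_insert, ← star, h2, F.star_self, F.star_act]

theorem not_both (h0 : cls d L false ⊆ orb α d) (h1 : cls d L true ⊆ orb α d) : False := by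
  obtain ⟨σ, hσ⟩ := F.exists_label false h0
  obtain ⟨τ, hτ⟩ := F.exists_label true h1
  obtain ⟨a, ha, -⟩ := F.exists_other ∅ (by simp)
  obtain ⟨a', ha', haa'⟩ := F.exists_other {a} (by simp)
  rw [mem_singleton] at haa'
  have haK : a ∈ cls d L false := F.mem_cls.2 ⟨a, ha, by simp [cl]⟩
  have ha'K : a' ∈ cls d L false := F.mem_cls.2 ⟨a', ha', by simp [cl]⟩
  have hbK : d * a ∈ cls d L true := F.mem_cls.2 ⟨a, ha, by simp [cl]⟩
  have haO := h0 haK
  have hbO := h1 hbK
  have hab : a ≠ d * a := fun k => F.d_ne_one (mul_eq_right.1 k.symm)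
  let T : V → Finset V := fun x => insert x (insert (d * x) ((L.erase x).image (x * ·)))
  have hca : ∀ x : V, cls d L false = L := fun _ => by simp [cls, cl]
  have hTa : ∀ x ∈ L, star α d L x (!σ) = T x := fun x hx => by
    have hxK : x ∈ cls d L false := F.mem_cls.2 ⟨x, hx, by simp [cl]⟩
    rw [star, F.side_flip (h0 hxK), hσ x hxK, image_insert, hca x, mul_comm x d]
  have hTb : star α d L (d * a) (!τ) = T a := by
    rw [star, F.side_flip hbO, hτ _ hbK, image_insert, cls,
      show d * a = cl d true * a by simp [cl], ← image_erase (mul_right_injective _), image_image]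
    simp only [cl, cond_true, T]
    rw [show d * a * d = a by rw [mul_comm (d * a) d, F.cancel], insert_comm]
    congr 2
    refine image_congr fun i _ => ?_
    simp only [Function.comp_apply]
    rw [mul_mul_mul_comm, F.sq, one_mul]
  have hdT : ∀ x ∈ L, d ∉ T x := by
    intro x hx k
    simp only [T, mem_insert, mem_image] at k
    rcases k with k | k | ⟨i, hi, k⟩
    · exact F.d_not_mem (k ▸ hx)
    · exact F.ne_one hx (mul_eq_left.1 k.symm)
    · exact F.inj' {x, i} ∅ (by simp [insert_subset_iff, hx, mem_of_mem_erase hi]) (by simp)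
        (card_le_two.trans (by norm_num)) (by simp) (by rw [prod_pair (ne_of_mem_erase hi).symm, k]; simp)
  have hSd : ∀ c, d ∈ star α d L d c := fun c => mem_insert_self _ _
  have haS : star α d L a σ = star α d L d false := F.star_label hσ haK
  have hbS : star α d L (d * a) τ = star α d L d true := F.star_label hτ hbK
  let ρ : Bool → Bool := fun c => cond c τ σ
  have hrule : ∀ c, ∀ v ∈ orb α d, ∀ z ∈ side α d L v c, star α d L z (ρ c) = star α d L v c := by
    intro c v hv z hz
    cases c
    exacts [F.rule h0 hσ hv hz, F.rule h1 hτ hv hz]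
  have f1 : ρ (!τ) = !σ := by
    have hm : a ∈ side α d L (d * a) (!τ) := by
      have : a ∈ star α d L (d * a) (!τ) := hTb ▸ mem_insert_self _ _
      exact (mem_insert.1 this).resolve_left hab
    have e := hrule _ _ hbO _ hm
    rw [hTb] at e
    refine Bool.eq_not.2 fun k => hdT a ha ?_
    rw [← e, k, haS]
    exact hSd _
  have f2 : ρ σ = false := by
    have hm : d ∈ side α d L a σ := hσ a haK ▸ mem_insert_self _ _
    exact F.star_inj self_mem_orb ((hrule _ _ haO _ hm).trans haS)
  have f3 : σ = true → False := by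
    intro k
    have hm : a' ∈ side α d L a σ := hσ a haK ▸ mem_insert_of_mem (mem_erase.2 ⟨haa', ha'K⟩)
    have e := hrule _ _ haO _ hm
    rw [f2, haS] at e
    have e' := F.star_inj (h0 ha'K) (e.trans (F.star_label hσ ha'K).symm)
    rw [k] at e'
    exact Bool.false_ne_true e'
  have f4 : ρ τ = true := by
    have hm : d ∈ side α d L (d * a) τ := hτ _ hbK ▸ mem_insert_self _ _
    exact F.star_inj self_mem_orb ((hrule _ _ hbO _ hm).trans hbS)
  revert f1 f2 f3 f4
  simp only [ρ]
  cases σ <;> cases τ <;> simp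

/-- The orbit. -/
theorem orbit_eq (hne : ∃ v ∈ orb α d, v ≠ d) : ∃ c, orb α d = insert d (cls d L c) := by
  obtain ⟨l, b, p, q, t, hn, hl, hb, -, hp, hl', hb'⟩ := F.card_orb_formula
  have hdvd := F.card_orb_dvd
  have h1 : l = true ∨ b = true := by
    by_contra k
    simp only [not_or, Bool.not_eq_true] at k
    obtain ⟨v, hv, hvd⟩ := hne
    have h2 : 1 < (orb α d).card := one_lt_card.2 ⟨v, hv, d, self_mem_orb, hvd⟩
    rw [hn, k.1, k.2] at h2 hdvd
    revert h2 hdvd
    cases p <;> cases q <;> cases t <;> decide +kernel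
  have h2 : ¬ (l = true ∧ b = true) := fun k => F.not_both (hl.1 k.1) (hb.1 k.2)
  obtain ⟨c, hc, hc'⟩ : ∃ c, cls d L c ⊆ orb α d ∧ ∀ x ∈ cls d L (!c), x ∉ orb α d := by
    rcases h1 with k | k
    · exact ⟨false, hl.1 k, hb' (Bool.eq_false_iff.2 fun k' => h2 ⟨k, k'⟩)⟩
    · exact ⟨true, hb.1 k, hl' (Bool.eq_false_iff.2 fun k' => h2 ⟨k', k⟩)⟩
  obtain ⟨a, ha, -⟩ := F.exists_other ∅ (by simp)
  obtain ⟨i, hi, hia⟩ := F.exists_other {a} (by simp)
  rw [mem_singleton] at hia
  have hvK : cl d c * a ∈ cls d L c := F.mem_cls.2 ⟨a, ha, rfl⟩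
  have hflip : ∀ v ∈ orb α d, ∀ z ∈ side α d L v (!c), z ∉ orb α d := by
    intro v hv z hz
    obtain ⟨g, rfl⟩ := mem_orb.1 hv
    rw [F.side_act] at hz
    obtain ⟨k, hk, rfl⟩ := mem_image.1 hz
    rw [act_mem_orb]
    exact hc' k hk
  obtain ⟨s, hs⟩ := F.exists_label c hc
  obtain rfl : s = c := by
    by_contra k
    have hsc : s = !c := by revert k; cases s <;> cases c <;> simp
    subst hsc
    exact hflip _ (hc hvK) d (hs _ hvK ▸ mem_insert_self _ _) self_mem_orb
  have hP : p = false := by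
    refine Bool.eq_false_iff.2 fun k => ?_
    have hmem : a * i ∈ side α d L (cl d s * a) (!s) := by
      rw [F.side_flip (hc hvK), hs _ hvK]
      refine mem_image.2 ⟨cl d s * i, mem_insert_of_mem (mem_erase.2 ⟨fun e => hia (mul_left_cancel e),
        F.mem_cls.2 ⟨i, hi, rfl⟩⟩), ?_⟩
      rw [mul_mul_mul_comm, F.sq, one_mul]
    exact hflip _ (hc hvK) _ hmem (hp k a ha i hi (Ne.symm hia))
  have hR : ∀ v ∈ orb α d, ∀ z ∈ star α d L v s, z ∈ orb α d ∧ star α d L z s = star α d L v s := by
    intro v hv z hz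
    rcases mem_insert.1 hz with rfl | hz
    · exact ⟨hv, rfl⟩
    · exact ⟨(F.side_subset_iff hv s).2 hc hz, F.rule hc hs hv hz⟩
  have h23 : 23 ∣ (orb α d).card := by
    rw [card_eq_sum_card_image (fun z => star α d L z s)]
    refine dvd_sum fun S hS => ?_
    obtain ⟨v, hv, rfl⟩ := mem_image.1 hS
    have e : (orb α d).filter (fun z => star α d L z s = star α d L v s) = star α d L v s := by
      ext z
      rw [mem_filter]
      exact ⟨fun k => k.2 ▸ mem_insert_self _ _, hR v hv z⟩
    rw [e]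
    obtain ⟨g, rfl⟩ := mem_orb.1 hv
    rw [F.star_act, card_image_of_injective _ (α g).injective,
      card_insert_of_notMem (F.d_not_mem_cls s), F.card_cls]
  refine ⟨s, (eq_of_subset_of_card_le (insert_subset self_mem_orb hc) ?_).symm⟩
  rw [card_insert_of_notMem (F.d_not_mem_cls s), F.card_cls]
  rw [hn, hP] at h23 hdvd ⊢
  revert h23 hdvd h1 h2
  cases l <;> cases b <;> cases q <;> cases t <;> decide +kernel

end Frame

end Cfsg.Agent.Block.M23Up
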