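import Cfsg.Agent.Lib.Block.FischerTypes.M23Up.Clique
import Cfsg.Agent.Lib.Block.FischerTypes.M23Up.Orbit
import Cfsg.Agent.Lib.Block.FischerTypes.M23Up.Cocode

/-!
An involution whose centraliser is the centraliser of a member in type M(23): the conjugates inside it.
-/

set_option autoImplicit false
set_option linter.style.haveILetI false
set_option linter.unusedSectionVars false
set_option maxHeartbeats 1000000

namespace Cfsg.Agent.Block.M23Up

open Cfsg Cfsg.Agent.Spor.ThreeTrans Cfsg.Agent.Block.FischerTypes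

variable {G : Type*} [Group G] [Finite G] {d : G} {M : Type*} [Group M] [Finite M] {E : Set M} {d₀ : M}

/-- The centraliser with its identification. -/
structure Ident (d : G) (E : Set M) (d₀ : M) where
  base : M23.Base E
  mem : d₀ ∈ E
  inv : orderOf d = 2
  iso : ↥(Subgroup.centralizer ({d} : Set G)) ≃* ↥(PerpGroup E d₀)
  map_d : ∀ x : ↥(Subgroup.centralizer ({d} : Set G)), (x : G) = d → (iso x : M) = d₀

namespace Ident

variable (I : Ident d E d₀)
include I

/-- The embedding of the group below. -/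
def emb : ↥(PerpGroup E d₀) →* G :=
  (Subgroup.centralizer ({d} : Set G)).subtype.comp I.iso.symm.toMonoidHom

theorem emb_injective : Function.Injective I.emb := Subtype.val_injective.comp I.iso.symm.injective

theorem emb_iso (x : ↥(Subgroup.centralizer ({d} : Set G))) : I.emb (I.iso x) = x :=
  congrArg Subtype.val (I.iso.symm_apply_apply x)

theorem range_emb : I.emb.range = Subgroup.centralizer ({d} : Set G) := by
  refine le_antisymm ?_ fun x hx => ⟨I.iso ⟨x, hx⟩, I.emb_iso ⟨x, hx⟩⟩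
  rintro _ ⟨y, rfl⟩
  exact (I.iso.symm y).2

theorem emb_mem (y : ↥(PerpGroup E d₀)) : I.emb y ∈ Subgroup.centralizer ({d} : Set G) := (I.iso.symm y).2

omit I in
theorem d_mem : d ∈ Subgroup.centralizer ({d} : Set G) := Subgroup.mem_centralizer_singleton_iff.mpr rfl

theorem emb_d₀ {h : d₀ ∈ PerpGroup E d₀} : I.emb ⟨d₀, h⟩ = d := by
  have : I.iso ⟨d, d_mem⟩ = ⟨d₀, h⟩ := Subtype.ext (I.map_d _ rfl)
  rw [← this, I.emb_iso]

theorem emb_eq_d {y : ↥(PerpGroup E d₀)} : I.emb y = d ↔ (y : M) = d₀ := by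
  constructor
  · intro h
    have := I.emb_d₀ (h := M23.self I.base I.mem)
    rw [I.emb_injective (h.trans this.symm)]
  · intro h
    rw [show y = ⟨d₀, M23.self I.base I.mem⟩ from Subtype.ext h, I.emb_d₀]

theorem sq_d : d * d = 1 := by
  rw [← pow_two, ← I.inv]
  exact pow_orderOf_eq_one d

theorem uniq_cent : Uniq (Subgroup.centralizer ({d} : Set G)) := by
  have h : Uniq (⊤ : Subgroup ↥(PerpGroup E d₀)) := by
    intro Q _ hp A A' hA hA' hel hel' hc hc'
    have hcc : ∀ K : Subgroup ↥(PerpGroup E d₀), Nat.card ↥(K.map (PerpGroup E d₀).subtype) = Nat.card ↥K := fun K =>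
      (Nat.card_congr (K.equivMapOfInjective _ (PerpGroup E d₀).subtype_injective).toEquiv).symm
    exact Subgroup.map_injective (PerpGroup E d₀).subtype_injective (uniq_perp I.base I.mem _
      (Subgroup.map_subtype_le Q) (hp.map _) _ _ (Subgroup.map_mono hA) (Subgroup.map_mono hA') (hel.map _)
      (hel'.map _) (by rw [hcc]; exact hc) (by rw [hcc]; exact hc'))
  have := h.map I.emb_injective
  rwa [← MonoidHom.range_eq_map, I.range_emb] at this

theorem uniq_conj (g : G) : Uniq (Subgroup.centralizer ({g * d * g⁻¹} : Set G)) := by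
  refine (I.uniq_cent.map (f := (MulAut.conj g).toMonoidHom) (MulAut.conj g).injective).mono fun x hx => ?_
  refine ⟨g⁻¹ * x * g, Subgroup.mem_centralizer_singleton_iff.mpr ?_, by simp [mul_assoc]⟩
  have e := Subgroup.mem_centralizer_singleton_iff.mp hx
  calc g⁻¹ * x * g * d = g⁻¹ * (x * (g * d * g⁻¹)) * g := by group
    _ = d * (g⁻¹ * x * g) := by rw [e]; group

/-- The image of the group of order 2^11. -/
def grp (T : Sylow 2 ↥(PerpGroup E d₀)) : Subgroup G := ((big T).subgroupOf (PerpGroup E d₀)).map I.emb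

variable (T : Sylow 2 ↥(PerpGroup E d₀))

theorem mem_grp {y : ↥(PerpGroup E d₀)} : I.emb y ∈ I.grp T ↔ (y : M) ∈ big T := by
  rw [grp, Subgroup.mem_map_iff_mem I.emb_injective, Subgroup.mem_subgroupOf]

theorem grp_le : I.grp T ≤ Subgroup.centralizer ({d} : Set G) := by
  rintro _ ⟨y, -, rfl⟩
  exact I.emb_mem y

omit I in
theorem big_le_perp : big T ≤ PerpGroup E d₀ := (big_le T).trans (sylIn_le T)

theorem grp_elem : Elem (I.grp T) := by
  have h := big_elem I.base I.mem T
  have h' : Elem ((big T).subgroupOf (PerpGroup E d₀)) :=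
    ⟨fun x hx y hy => Subtype.ext (h.1 _ hx _ hy).eq, fun x hx => Subtype.ext (h.2 _ hx)⟩
  exact h'.map I.emb

theorem card_grp : Nat.card ↥(I.grp T) = 2 ^ 11 := by
  rw [grp, ← Nat.card_congr (((big T).subgroupOf (PerpGroup E d₀)).equivMapOfInjective _ I.emb_injective).toEquiv,
    Nat.card_congr (Subgroup.subgroupOfEquivOfLe (big_le_perp T)).toEquiv, (cliq_facts I.base I.mem T).2]

theorem d_mem_grp : d ∈ I.grp T := by
  have h := Subgroup.subset_closure (self_mem_cliq I.base I.mem T)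
  have := (I.mem_grp T (y := ⟨d₀, M23.self I.base I.mem⟩)).mpr h
  rwa [I.emb_d₀] at this

/-- A member of a conjugacy class of the involution inside the group is moved there by its normaliser. -/
theorem fusion_d {v : G} (hv : v ∈ I.grp T) (hc : IsConj d v) :
    ∃ n ∈ Subgroup.normalizer (I.grp T : Set G), n * d * n⁻¹ = v := by
  obtain ⟨g, rfl⟩ := isConj_iff.mp hc
  obtain ⟨n, hn, h⟩ := (I.uniq_conj g).fusion (I.grp_elem T) (I.card_grp T).ge (Y := {d})
    (g := g) (Set.singleton_subset_iff.mpr (I.d_mem_grp T)) (fun y hy => by rw [Set.mem_singleton_iff.mp hy]; exact hv)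
    (le_of_eq (by rw [Set.image_singleton]))
  exact ⟨n, hn, h d rfl⟩

/-- A normalising element of the model gives one in the group. -/
theorem exists_norm {n : M} (hn : n ∈ Subgroup.normalizer (big T : Set M)) (hnd : n * d₀ * n⁻¹ = d₀) :
    ∃ h ∈ Subgroup.normalizer (I.grp T : Set G), h * d * h⁻¹ = d ∧
      ∀ y : ↥(PerpGroup E d₀), ∀ y' : ↥(PerpGroup E d₀), n * y * n⁻¹ = y' → h * I.emb y * h⁻¹ = I.emb y' := by
  have hnP : n ∈ PerpGroup E d₀ := by
    rw [← M23.centralizer_eq I.base I.mem, Subgroup.mem_centralizer_singleton_iff]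
    exact mul_inv_eq_iff_eq_mul.mp hnd
  refine ⟨I.emb ⟨n, hnP⟩, ?_, conj_self_eq (Subgroup.mem_centralizer_singleton_iff.mp (I.emb_mem _)),
    fun y y' e => ?_⟩
  · rw [Subgroup.mem_normalizer_iff]
    intro x
    constructor
    · rintro ⟨y, hy, rfl⟩
      rw [← map_mul, ← map_inv, ← map_mul]
      exact (I.mem_grp T).mpr ((Subgroup.mem_normalizer_iff.mp hn _).mp hy)
    · rintro ⟨y, hy, e⟩
      have hx : x = I.emb (⟨n, hnP⟩⁻¹ * y * ⟨n, hnP⟩) := by
        rw [map_mul, map_mul, map_inv, e]; group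
      rw [hx, mem_grp]
      refine (Subgroup.mem_normalizer_iff.mp hn _).mpr ?_
      simpa [mul_assoc, Subgroup.mem_subgroupOf] using hy
  · rw [← map_inv, ← map_mul, ← map_mul]
    exact congrArg I.emb (Subtype.ext e)

/-- Three of the clique below `d₀` go to any three. -/
theorem trans_big {a b c a' b' c' : M} (ha : a ∈ cliq T) (hb : b ∈ cliq T) (hc : c ∈ cliq T)
    (ha' : a' ∈ cliq T) (hb' : b' ∈ cliq T) (hc' : c' ∈ cliq T) (na : a ≠ d₀) (nb : b ≠ d₀) (nc : c ≠ d₀)
    (na' : a' ≠ d₀) (nb' : b' ≠ d₀) (nc' : c' ≠ d₀) (nab : a ≠ b) (nac : a ≠ c) (nbc : b ≠ c)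
    (nab' : a' ≠ b') (nac' : a' ≠ c') (nbc' : b' ≠ c') :
    ∃ n ∈ Subgroup.normalizer (big T : Set M), n * d₀ * n⁻¹ = d₀ ∧ n * a * n⁻¹ = a' ∧ n * b * n⁻¹ = b' ∧
      n * c * n⁻¹ = c' := by
  have hd := self_mem_cliq I.base I.mem T
  have cm : ∀ {x y : M}, x ∈ cliq T → y ∈ cliq T → Commute x y := fun hx hy => cliq_commute I.base I.mem T hx hy
  have hp : ∀ {x : M}, x ∈ cliq T → x ≠ d₀ → x ∈ perp E d₀ := fun hx k => ⟨hx.1, k, cm hd hx⟩
  obtain ⟨g, e0, e1, e2, e3⟩ := trans_below I.base I.mem (hp ha na) (hp hb nb) (hp hc nc) (hp ha' na') (hp hb' nb')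
    (hp hc' nc') (cm ha hb) (cm ha hc) (cm hb hc) nab nac nbc (cm ha' hb') (cm ha' hc') (cm hb' hc') nab' nac' nbc'
  obtain ⟨n, hn, h⟩ := (uniq_top I.base I.mem).fusion (big_elem I.base I.mem T)
    (cliq_facts I.base I.mem T).2.ge (Y := {d₀, a, b, c}) (g := g) (by
      simp only [Set.insert_subset_iff, Set.singleton_subset_iff, SetLike.mem_coe]
      exact ⟨Subgroup.subset_closure hd, Subgroup.subset_closure ha, Subgroup.subset_closure hb,
        Subgroup.subset_closure hc⟩)
    (fun y hy => by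
      rcases hy with rfl | rfl | rfl | rfl
      · rw [e0]; exact Subgroup.subset_closure hd
      · rw [e1]; exact Subgroup.subset_closure ha'
      · rw [e2]; exact Subgroup.subset_closure hb'
      · rw [e3]; exact Subgroup.subset_closure hc') le_top
  exact ⟨n, hn, (h d₀ (by simp)).trans e0, (h a (by simp)).trans e1, (h b (by simp)).trans e2,
    (h c (by simp)).trans e3⟩

/-- The products of the clique. -/
theorem cliq_prod {V : Type*} [CommGroup V] [Fintype V] [DecidableEq V] (j : V →* M) (hj : Function.Injective j)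
    (hr : j.range = big T) (α : ↥(Subgroup.normalizer (big T : Set M)) →* MulAut V)
    (hα : ∀ n v, j (α n v) = n * j v * (n : M)⁻¹) (X : Finset V) (hX : ∀ v, v ∈ X ↔ j v ∈ cliq T) :
    (∀ v : V, v * v = 1) ∧ Nat.card V = 2 ^ 11 ∧ X.card = 23 ∧ NoRel X ∧ ∏ x ∈ X, x = 1 := by
  classical
  have hd := self_mem_cliq I.base I.mem T
  have hsq : ∀ v : V, v * v = 1 := fun v =>
    hj (by rw [map_mul, map_one]; exact (big_elem I.base I.mem T).2 _ (hr ▸ ⟨v, rfl⟩))
  have hV : Nat.card V = 2 ^ 11 := by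
    rw [← (cliq_facts I.base I.mem T).2, ← hr, Nat.card_congr (MonoidHom.ofInjective hj).toEquiv]
  have himg : j '' (X : Set V) = cliq T := by
    ext x
    constructor
    · rintro ⟨v, hv, rfl⟩; exact (hX v).mp hv
    · intro hx
      obtain ⟨v, rfl⟩ : x ∈ j.range := hr ▸ Subgroup.subset_closure hx
      exact ⟨v, (hX v).mpr hx, rfl⟩
  have hX23 : X.card = 23 := by
    rw [← Set.ncard_coe_finset, ← Set.ncard_image_of_injective _ hj, himg, (cliq_facts I.base I.mem T).1]
  have hrel : NoRel X := fun Z hZ hne h6 he => by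
    refine no_rel I.base I.mem (l := Z.toList.map j) (Z.nodup_toList.map hj) ?_ ?_ ?_ ?_ ?_
    · rw [List.length_map, Finset.length_toList]; exact Finset.card_pos.mpr hne
    · rw [List.length_map, Finset.length_toList]; exact h6
    · intro x hx
      obtain ⟨v, hv, rfl⟩ := List.mem_map.mp hx
      exact ((hX v).mp (hZ (Finset.mem_toList.mp hv))).1
    · intro x hx y hy
      obtain ⟨v, -, rfl⟩ := List.mem_map.mp hx
      obtain ⟨w, -, rfl⟩ := List.mem_map.mp hy
      exact (Commute.all v w).map j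
    · rw [← map_list_prod, Finset.prod_toList, he, map_one]
  refine ⟨hsq, hV, hX23, hrel, ?_⟩
  refine prod_eq_one (α := α) hsq hV hX23 hrel ?_
  intro a ha b hb c hc a' ha' b' hb' c' hc' nab nac nbc nab' nac' nbc'
  have A := fun {v} (hv : v ∈ X) => (hX v).mp hv
  have cm : ∀ {x y : M}, x ∈ cliq T → y ∈ cliq T → Commute x y := fun hx hy => cliq_commute I.base I.mem T hx hy
  have hj' : ∀ {v w : V}, v ≠ w → j v ≠ j w := fun n k => n (hj k)
  obtain ⟨g, e1, e2, e3⟩ := M23.trans_three I.base (A ha).1 ⟨(A hb).1, (hj' nab).symm, cm (A ha) (A hb)⟩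
    ⟨⟨(A hc).1, (hj' nac).symm, cm (A ha) (A hc)⟩, ⟨(A hc).1, (hj' nbc).symm, cm (A hb) (A hc)⟩⟩
    (A ha').1 ⟨(A hb').1, (hj' nab').symm, cm (A ha') (A hb')⟩
    ⟨⟨(A hc').1, (hj' nac').symm, cm (A ha') (A hc')⟩, ⟨(A hc').1, (hj' nbc').symm, cm (A hb') (A hc')⟩⟩
  obtain ⟨n, hn, h⟩ := (uniq_top I.base I.mem).fusion (big_elem I.base I.mem T)
    (cliq_facts I.base I.mem T).2.ge (Y := {j a, j b, j c}) (g := g) (by
      simp only [Set.insert_subset_iff, Set.singleton_subset_iff, SetLike.mem_coe]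
      exact ⟨Subgroup.subset_closure (A ha), Subgroup.subset_closure (A hb), Subgroup.subset_closure (A hc)⟩)
    (fun y hy => by
      rcases hy with rfl | rfl | rfl
      · rw [e1]; exact Subgroup.subset_closure (A ha')
      · rw [e2]; exact Subgroup.subset_closure (A hb')
      · rw [e3]; exact Subgroup.subset_closure (A hc')) le_top
  refine ⟨⟨n, hn⟩, ?_, hj ?_, hj ?_, hj ?_⟩
  · refine Finset.eq_of_subset_of_card_le (Finset.image_subset_iff.mpr fun v hv => (hX _).mpr ?_)
      (le_of_eq (Finset.card_image_of_injective _ (α ⟨n, hn⟩).injective).symm)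
    rw [cliq_eq, Set.mem_setOf_eq, hα]
    exact ⟨conj_mem I.base.set.cls n (A hv).1, (Subgroup.mem_normalizer_iff.mp hn _).mp (hr ▸ ⟨v, rfl⟩)⟩
  · rw [hα]; exact (h _ (by simp)).trans e1
  · rw [hα]; exact (h _ (by simp)).trans e2
  · rw [hα]; exact (h _ (by simp)).trans e3

/-- An involution of the centraliser is conjugate there into the group of order 2^11. -/
theorem invol_into {x : G} (hx : x ∈ Subgroup.centralizer ({d} : Set G)) (h2 : x * x = 1) :
    ∃ k ∈ Subgroup.centralizer ({d} : Set G), k * x * k⁻¹ ∈ I.grp T := by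
  classical
  have hd := self_mem_cliq I.base I.mem T
  set y := I.iso ⟨x, hx⟩ with hy
  have hyy : y * y = 1 := by
    rw [hy, ← map_mul, show (⟨x, hx⟩ : ↥(Subgroup.centralizer ({d} : Set G))) * ⟨x, hx⟩ = 1 from Subtype.ext h2,
      map_one]
  obtain ⟨m, -, l, -, -, hlD, hlc, hlp⟩ := M22.involution_short (I.base.ctx d₀ I.mem)
    (x := (QuotientGroup.mk y : PerpQuot E d₀)) (by rw [← QuotientGroup.mk_mul, hyy, QuotientGroup.mk_one])
  have lift : ∀ L : List (PerpQuot E d₀), (∀ q ∈ L, q ∈ perpSet E d₀) → ∃ U : List ↥(PerpGroup E d₀),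
      (∀ u ∈ U, (u : M) ∈ perp E d₀ ∧ (QuotientGroup.mk u : PerpQuot E d₀) ∈ L) ∧
        (QuotientGroup.mk U.prod : PerpQuot E d₀) = L.prod := by
    intro L
    induction L with
    | nil => exact fun _ => ⟨[], by simp, rfl⟩
    | cons q L ih =>
      intro hL
      obtain ⟨U, hU, hU'⟩ := ih fun r hr => hL r (List.mem_cons_of_mem _ hr)
      obtain ⟨u, hu, e⟩ := exists_of_mem (hL q List.mem_cons_self)
      refine ⟨⟨u, Subgroup.subset_closure hu⟩ :: U, ?_, ?_⟩
      · intro w hw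
        rcases List.mem_cons.mp hw with rfl | hw
        · exact ⟨hu, List.mem_cons.mpr (Or.inl e)⟩
        · exact ⟨(hU w hw).1, List.mem_cons_of_mem _ (hU w hw).2⟩
      · rw [List.prod_cons, QuotientGroup.mk_mul, hU', List.prod_cons]
        exact congrArg (· * L.prod) e
  obtain ⟨U, hU, hU'⟩ := lift l hlD
  obtain ⟨g, hg, hgc⟩ := into_cliq_perp I.base I.mem T (Y := {u : M | ∃ w ∈ U, (w : M) = u})
    (fun u hu => by obtain ⟨w, hw, rfl⟩ := hu; exact (hU w hw).1)
    (fun u hu v hv => by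
      obtain ⟨w, hw, rfl⟩ := hu
      obtain ⟨w', hw', rfl⟩ := hv
      exact commute_of_pr I.base.set.cls I.base.set.tf I.mem (hU w hw).1 (hU w' hw').1
        (hlc _ (hU w hw).2 _ (hU w' hw').2))
  set γ : ↥(PerpGroup E d₀) := ⟨g, hg⟩
  have hUbig : ((γ * U.prod * γ⁻¹ : ↥(PerpGroup E d₀)) : M) ∈ big T := by
    have e : γ * U.prod * γ⁻¹ = (U.map (MulAut.conj γ).toMonoidHom).prod :=
      (MulAut.conj_apply γ U.prod).symm.trans (map_list_prod (MulAut.conj γ).toMonoidHom U)
    rw [e, show ((U.map (MulAut.conj γ).toMonoidHom).prod : M) =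
      ((U.map (MulAut.conj γ).toMonoidHom).map (PerpGroup E d₀).subtype).prod from
        map_list_prod (PerpGroup E d₀).subtype _]
    refine list_prod_mem fun u hu => ?_
    simp only [List.map_map, List.mem_map] at hu
    obtain ⟨w, hw, rfl⟩ := hu
    exact Subgroup.subset_closure (hgc _ ⟨w, hw, rfl⟩)
  have hz : y * U.prod⁻¹ ∈ Subgroup.center ↥(PerpGroup E d₀) := by
    rw [← QuotientGroup.eq_one_iff, QuotientGroup.mk_mul, QuotientGroup.mk_inv, hU', hlp, mul_inv_cancel]
  have hzb : ((y * U.prod⁻¹ : ↥(PerpGroup E d₀)) : M) ∈ big T := by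
    rw [M23.centre I.base I.mem, Subgroup.mem_subgroupOf] at hz
    exact Subgroup.zpowers_le.mpr (Subgroup.subset_closure hd) hz
  refine ⟨I.emb γ, I.emb_mem γ, ?_⟩
  rw [show x = I.emb y from (I.emb_iso ⟨x, hx⟩).symm, ← map_inv, ← map_mul, ← map_mul, mem_grp]
  have e : γ * y * γ⁻¹ = y * U.prod⁻¹ * (γ * U.prod * γ⁻¹) := by
    have hc := Subgroup.mem_center_iff.mp hz γ
    calc γ * y * γ⁻¹ = γ * (y * U.prod⁻¹) * (U.prod * γ⁻¹) := by group
      _ = y * U.prod⁻¹ * γ * (U.prod * γ⁻¹) := by rw [hc]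
      _ = _ := by group
  rw [e, Subgroup.coe_mul]
  exact mul_mem hzb hUbig

/-- One or the involution. -/
def sign (d : G) (c : Bool) : G := cond c d 1

/-- The lifts of the members below, translated. -/
def below (c : Bool) : Set G :=
  {x | ∃ y : ↥(PerpGroup E d₀), (y : M) ∈ perp E d₀ ∧ x = sign d c * I.emb y}

/-- The conjugates of the involution in the group of order 2^11. -/
theorem conj_in_grp (hnwc : ∃ g : G, g * d * g⁻¹ ∈ Subgroup.centralizer ({d} : Set G) ∧ g * d * g⁻¹ ≠ d) :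
    ∃ c : Bool, Set.ncard {x : G | x ∈ I.grp T ∧ IsConj d x} = 23 ∧
      {x : G | x ∈ I.grp T ∧ IsConj d x} = insert d {x | ∃ y : ↥(PerpGroup E d₀),
        (y : M) ∈ cliq T ∧ (y : M) ≠ d₀ ∧ x = sign d c * I.emb y} := by
  classical
  let A := I.grp T
  letI cA : CommGroup ↥A :=
    { (inferInstance : Group ↥A) with mul_comm := fun x y => Subtype.ext ((I.grp_elem T).1 x x.2 y y.2).eq }
  letI cB : CommGroup ↥(big T) :=
    { (inferInstance : Group ↥(big T)) with
      mul_comm := fun x y => Subtype.ext ((big_elem I.base I.mem T).1 x x.2 y y.2).eq }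
  letI := Fintype.ofFinite ↥A
  letI := Fintype.ofFinite ↥(big T)
  let f : ↥(big T) →* ↥A :=
    (I.emb.comp (Subgroup.inclusion (big_le_perp T))).codRestrict A fun y => (I.mem_grp T).mpr y.2
  have hf : Function.Injective f := fun y y' e =>
    Subgroup.inclusion_injective (big_le_perp T) (I.emb_injective
      (show I.emb (Subgroup.inclusion (big_le_perp T) y) = I.emb (Subgroup.inclusion (big_le_perp T) y') from
        congrArg (fun v : ↥A => (v : G)) e))
  have hfs : Function.Surjective f := by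
    rintro ⟨_, y, hy, rfl⟩
    exact ⟨⟨y, hy⟩, rfl⟩
  let X₀ : Finset ↥(big T) := Finset.univ.filter fun v => (v : M) ∈ cliq T
  obtain ⟨hsq, hV, h23, hrel, hprod⟩ := I.cliq_prod T (big T).subtype Subtype.val_injective (Subgroup.range_subtype _)
    ((big T).normalizerMonoidHom) (fun _ _ => rfl) X₀ fun v => by simp [X₀]
  let fe : ↥(big T) ≃ ↥A := Equiv.ofBijective f ⟨hf, hfs⟩
  let X : Finset ↥A := X₀.image f
  let α := A.normalizerMonoidHom
  let dA : ↥A := ⟨d, I.d_mem_grp T⟩
  let d₀' : ↥(big T) := ⟨d₀, Subgroup.subset_closure (self_mem_cliq I.base I.mem T)⟩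
  have hdX : f d₀' = dA := Subtype.ext (I.emb_d₀)
  have F : Frame α dA (X.erase dA) := by
    refine frame_of ?_ (by rw [← hV]; exact Nat.card_congr fe.symm) (by rw [Finset.card_image_of_injective _ hf, h23])
      ?_ ?_ (hdX ▸ Finset.mem_image_of_mem f (by simp [X₀, d₀', self_mem_cliq I.base I.mem T])) ?_ ?_
    · intro v
      obtain ⟨w, rfl⟩ := hfs v
      rw [← map_mul, hsq, map_one]
    · intro Z hZ hne h6 e
      obtain ⟨Z₀, hZ₀, rfl⟩ := Finset.subset_image_iff.mp hZ
      rw [Finset.prod_image fun x _ y _ k => hf k, ← map_prod, ← map_one f] at e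
      exact hrel Z₀ hZ₀ (Finset.image_nonempty.mp hne)
        (by rwa [Finset.card_image_of_injective _ hf] at h6) (hf e)
    · rw [Finset.prod_image fun x _ y _ k => hf k, ← map_prod, hprod, map_one]
    · intro h hh v hv
      obtain ⟨w, hw, rfl⟩ := Finset.mem_image.mp hv
      have hhC : (h : G) ∈ Subgroup.centralizer ({d} : Set G) :=
        Subgroup.mem_centralizer_singleton_iff.mpr (mul_inv_eq_iff_eq_mul.mp (congrArg Subtype.val hh))
      set n := I.iso ⟨h, hhC⟩
      have e1 : ((α h (f w) : ↥A) : G) = I.emb (n * Subgroup.inclusion (big_le_perp T) w * n⁻¹) := by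
        rw [map_mul, map_mul, map_inv, I.emb_iso]
        rfl
      have hmem : ((n * Subgroup.inclusion (big_le_perp T) w * n⁻¹ : ↥(PerpGroup E d₀)) : M) ∈ big T :=
        (I.mem_grp T).mp (e1 ▸ (α h (f w)).2)
      refine Finset.mem_image.mpr ⟨⟨_, hmem⟩, Finset.mem_filter.mpr ⟨Finset.mem_univ _, ?_⟩, Subtype.ext e1.symm⟩
      rw [cliq_eq]
      exact ⟨conj_mem I.base.set.cls (n : M) (Finset.mem_filter.mp hw).2.1, hmem⟩
    · have key : ∀ {v : ↥A}, v ∈ X.erase dA → ∃ w : ↥(big T), (w : M) ∈ cliq T ∧ (w : M) ≠ d₀ ∧ f w = v := by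
        intro v hv
        obtain ⟨hne, hv⟩ := Finset.mem_erase.mp hv
        obtain ⟨w, hw, rfl⟩ := Finset.mem_image.mp hv
        exact ⟨w, (Finset.mem_filter.mp hw).2,
          fun k => hne (by rw [show w = d₀' from Subtype.ext k]; exact hdX), rfl⟩
      intro a ha b hb c hc a' ha' b' hb' c' hc' nab nac nbc nab' nac' nbc'
      obtain ⟨a, ka, na, rfl⟩ := key ha
      obtain ⟨b, kb, nb, rfl⟩ := key hb
      obtain ⟨c, kc, nc, rfl⟩ := key hc
      obtain ⟨a', ka', na', rfl⟩ := key ha'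
      obtain ⟨b', kb', nb', rfl⟩ := key hb'
      obtain ⟨c', kc', nc', rfl⟩ := key hc'
      have ne : ∀ {p q : ↥(big T)}, f p ≠ f q → (p : M) ≠ q := fun h k => h (congrArg f (Subtype.ext k))
      obtain ⟨n, hn, e0, e1, e2, e3⟩ := I.trans_big T ka kb kc ka' kb' kc' na nb nc na' nb' nc' (ne nab) (ne nac)
        (ne nbc) (ne nab') (ne nac') (ne nbc')
      obtain ⟨h, hh, hd, hy⟩ := I.exists_norm T hn e0
      exact ⟨⟨h, hh⟩, Subtype.ext hd, Subtype.ext (hy _ _ e1), Subtype.ext (hy _ _ e2), Subtype.ext (hy _ _ e3)⟩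
  obtain ⟨g, hg, hgd⟩ := hnwc
  have hg2 : g * d * g⁻¹ * (g * d * g⁻¹) = 1 := by
    rw [show g * d * g⁻¹ * (g * d * g⁻¹) = g * (d * d) * g⁻¹ by group, I.sq_d, mul_one, mul_inv_cancel]
  obtain ⟨k, hk, hkA⟩ := I.invol_into T hg hg2
  have horb : ∀ v : ↥A, v ∈ orb α dA ↔ IsConj d (v : G) := by
    intro v
    rw [mem_orb]
    constructor
    · rintro ⟨h, rfl⟩
      exact isConj_iff.mpr ⟨h, rfl⟩
    · intro hv
      obtain ⟨n, hn, e⟩ := I.fusion_d T v.2 hv
      exact ⟨⟨n, hn⟩, Subtype.ext e⟩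
  have hkd : k * (g * d * g⁻¹) * k⁻¹ ≠ d := fun e => hgd (by
    have hkc := Subgroup.mem_centralizer_singleton_iff.mp hk
    calc g * d * g⁻¹ = k⁻¹ * (k * (g * d * g⁻¹) * k⁻¹) * k := by group
      _ = d := by rw [e, mul_assoc, ← hkc, inv_mul_cancel_left])
  obtain ⟨c, hc⟩ := F.orbit_eq ⟨⟨_, hkA⟩,
    (horb _).mpr (isConj_iff.mpr ⟨k * g, show k * g * d * (k * g)⁻¹ = _ by group⟩),
    fun e => hkd (congrArg Subtype.val e)⟩
  refine ⟨c, ?_, ?_⟩
  · have e : {x : G | x ∈ I.grp T ∧ IsConj d x} = Subtype.val '' (orb α dA : Set ↥A) := by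
      ext x
      constructor
      · rintro ⟨hx, hxc⟩; exact ⟨⟨x, hx⟩, (horb _).mpr hxc, rfl⟩
      · rintro ⟨v, hv, rfl⟩; exact ⟨v.2, (horb v).mp hv⟩
    rw [e, Set.ncard_image_of_injective _ Subtype.val_injective, Set.ncard_coe_finset, hc,
      Finset.card_insert_of_notMem (F.d_not_mem_cls c), F.card_cls]
  · ext x
    constructor
    · rintro ⟨hx, hxc⟩
      have : (⟨x, hx⟩ : ↥A) ∈ orb α dA := (horb _).mpr hxc
      rw [hc, Finset.mem_insert] at this
      rcases this with e | e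
      · exact Or.inl (congrArg Subtype.val e)
      · obtain ⟨v, hv, e⟩ := F.mem_cls.mp e
        obtain ⟨hne, hv⟩ := Finset.mem_erase.mp hv
        obtain ⟨w, hw, rfl⟩ := Finset.mem_image.mp hv
        refine Or.inr ⟨Subgroup.inclusion (big_le_perp T) w, (Finset.mem_filter.mp hw).2,
          fun k => hne (by rw [show w = d₀' from Subtype.ext k]; exact hdX), ?_⟩
        rw [show x = ((cl dA c * f w : ↥A) : G) from (congrArg Subtype.val e).symm]
        cases c <;> rfl
    · intro hx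
      suffices h : ∃ v : ↥A, v ∈ orb α dA ∧ (v : G) = x by
        obtain ⟨v, hv, rfl⟩ := h
        exact ⟨v.2, (horb v).mp hv⟩
      rcases hx with rfl | ⟨y, hy, hyd, rfl⟩
      · exact ⟨dA, self_mem_orb, rfl⟩
      · refine ⟨cl dA c * f ⟨y, Subgroup.subset_closure hy⟩, ?_, by cases c <;> rfl⟩
        rw [hc]
        refine Finset.mem_insert_of_mem (F.mem_cls.mpr ⟨_, Finset.mem_erase.mpr ⟨fun k => hyd ?_,
          Finset.mem_image_of_mem f (by simp [X₀, hy])⟩, rfl⟩)
        exact congrArg Subtype.val (hf (k.trans hdX.symm))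

/-- The conjugates in the centraliser: the involution and one class of lifts. -/
theorem conj_in_cent (hnwc : ∃ g : G, g * d * g⁻¹ ∈ Subgroup.centralizer ({d} : Set G) ∧ g * d * g⁻¹ ≠ d) :
    ∃ c : Bool, {x : G | IsConj d x ∧ x ∈ Subgroup.centralizer ({d} : Set G)} = insert d (I.below c) := by
  haveI : Nonempty (Sylow 2 ↥(PerpGroup E d₀)) := Sylow.nonempty
  let T := Classical.arbitrary (Sylow 2 ↥(PerpGroup E d₀))
  obtain ⟨c, -, hA⟩ := I.conj_in_grp T hnwc
  refine ⟨c, Set.ext fun x => ⟨fun ⟨hxc, hx⟩ => ?_, fun hx => ?_⟩⟩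
  · have h2 : x * x = 1 := by
      obtain ⟨g, rfl⟩ := isConj_iff.mp hxc
      rw [show g * d * g⁻¹ * (g * d * g⁻¹) = g * (d * d) * g⁻¹ by group, I.sq_d, mul_one, mul_inv_cancel]
    obtain ⟨k, hk, hkA⟩ := I.invol_into T hx h2
    have : k * x * k⁻¹ ∈ {x : G | x ∈ I.grp T ∧ IsConj d x} := ⟨hkA, hxc.trans (isConj_iff.mpr ⟨k, rfl⟩)⟩
    rw [hA] at this
    have hkc := Subgroup.mem_centralizer_singleton_iff.mp hk
    have ex : x = k⁻¹ * (k * x * k⁻¹) * k := by group
    rcases this with e | ⟨y, hy, hyd, e⟩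
    · left
      rw [ex, e, mul_assoc, ← hkc, inv_mul_cancel_left]
    · right
      set n := I.iso ⟨k, hk⟩ with hn
      have hnd : ((n : ↥(PerpGroup E d₀)) : M) * d₀ * (n : M)⁻¹ = d₀ := by
        have : (n : M) ∈ Subgroup.centralizer ({d₀} : Set M) := by rw [M23.centralizer_eq I.base I.mem]; exact n.2
        exact conj_self_eq (Subgroup.mem_centralizer_singleton_iff.mp this)
      have hp : (y : M) ∈ perp E d₀ :=
        ⟨hy.1, hyd, cliq_commute I.base I.mem T (self_mem_cliq I.base I.mem T) hy⟩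
      refine ⟨n⁻¹ * y * n, ?_, ?_⟩
      · have hnd' : (n : M)⁻¹ * d₀ * ((n : M)⁻¹)⁻¹ = d₀ := by
          exact conj_self_eq (show Commute (n : M) d₀ from mul_inv_eq_iff_eq_mul.mp hnd).inv_left
        have := (conj_mem_perp I.base.set.cls (n : M)⁻¹ d₀).mpr hp
        rw [hnd', inv_inv] at this
        exact this
      · rw [ex, e, map_mul, map_mul, map_inv, hn, I.emb_iso]
        have hs : k⁻¹ * sign d c = sign d c * k⁻¹ := by
          cases c
          · simp [sign]
          · exact ((show Commute k d from hkc).inv_left).eq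
        show k⁻¹ * (sign d c * I.emb y) * k = sign d c * (k⁻¹ * I.emb y * k)
        simp only [← mul_assoc, hs]
  · rcases hx with rfl | ⟨y, hy, rfl⟩
    · exact ⟨IsConj.refl x, d_mem⟩
    · obtain ⟨g, hg, hgc⟩ := into_cliq_perp I.base I.mem T (Y := {(y : M)}) (by simpa using hy)
        (fun u hu v hv => by rw [Set.mem_singleton_iff.mp hu, Set.mem_singleton_iff.mp hv])
      have hgd : g * d₀ * g⁻¹ = d₀ := by
        have : g ∈ Subgroup.centralizer ({d₀} : Set M) := by rw [M23.centralizer_eq I.base I.mem]; exact hg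
        exact conj_self_eq (Subgroup.mem_centralizer_singleton_iff.mp this)
      have hm : sign d c * I.emb (⟨g, hg⟩ * y * ⟨g, hg⟩⁻¹) ∈ {x : G | x ∈ I.grp T ∧ IsConj d x} := by
        rw [hA]
        refine Or.inr ⟨_, hgc _ rfl, fun k => hy.2.1 ?_, rfl⟩
        rw [Subgroup.coe_mul, Subgroup.coe_mul, Subgroup.coe_inv] at k
        exact mul_left_cancel (mul_right_cancel (k.trans hgd.symm))
      refine ⟨hm.2.trans (isConj_iff.mpr ⟨(I.emb ⟨g, hg⟩)⁻¹, ?_⟩), mul_mem ?_ (I.emb_mem _)⟩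
      · have hgc' := Subgroup.mem_centralizer_singleton_iff.mp (I.emb_mem ⟨g, hg⟩)
        have hs : I.emb ⟨g, hg⟩ * sign d c = sign d c * I.emb ⟨g, hg⟩ := by
          cases c
          · simp [sign]
          · exact hgc'
        rw [map_mul, map_mul, map_inv, ← mul_assoc, ← mul_assoc, ← mul_assoc,
          ← (show Commute (I.emb ⟨g, hg⟩) (sign d c) from hs).inv_left.eq.symm]
        group
      · cases c
        exacts [one_mem _, d_mem]

end Ident

end Cfsg.Agent.Block.M23Up
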