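import Cfsg.Agent.Lib.Block.FischerTypes.M22Meet
import Cfsg.Agent.Lib.Block.FischerTypes.M22Counts
import Cfsg.Agent.Lib.Block.FischerTypes.M22Double

/-!
A class of involutions each of whose members sees a class of type M(22): its components of the commuting graph
have diameter two and consist of 3-transpositions.
-/

set_option autoImplicit false
set_option linter.style.haveILetI false
set_option linter.unusedSectionVars false

namespace Cfsg.Agent.Block.M23Up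

open Cfsg Cfsg.Agent.Spor.ThreeTrans Cfsg.Agent.Block.FischerTypes

variable {G K : Type*} [Group G] [Group K] {D : Set G} {F : Set K}

/-- What one member sees. -/
structure World (D : Set G) (F : Set K) (u : G) where
  f : G → K
  mem : ∀ x ∈ perp D u, f x ∈ F
  inj : ∀ x ∈ perp D u, ∀ y ∈ perp D u, f x = f y → x = y
  surj : ∀ q ∈ F, ∃ x ∈ perp D u, f x = q
  comm : ∀ x ∈ perp D u, ∀ y ∈ perp D u, (Commute (f x) (f y) ↔ Commute x y)
  triple : ∀ x ∈ perp D u, ∀ y ∈ perp D u, f (x * y * x) = f x * f y * f x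

/-- Every member has a world of type M(22). -/
structure Loc (D : Set G) (F : Set K) : Prop where
  conj : ∀ g : G, ∀ x ∈ D, g * x * g⁻¹ ∈ D
  sq : ∀ x ∈ D, x * x = 1
  ctx : M22.Ctx F
  world : ∀ u ∈ D, Nonempty (World D F u)

/-- Joined by a path of length at most two. -/
def Near (D : Set G) (a b : G) : Prop :=
  a = b ∨ Commute a b ∨ ∃ z ∈ D, z ∈ perp D a ∧ z ∈ perp D b

variable [Finite G] [Finite K] (Lc : Loc D F)
include Lc

namespace Loc

theorem psymm {a x : G} (ha : a ∈ D) (hx : x ∈ perp D a) : a ∈ perp D x :=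
  ⟨ha, Ne.symm hx.2.1, hx.2.2.symm⟩

theorem inv_self {x : G} (hx : x ∈ D) : x⁻¹ = x := inv_eq_of_mul_eq_one_right (Lc.sq x hx)

theorem perp_triple {u x y : G} (hx : x ∈ perp D u) (hy : y ∈ perp D u) : x * y * x ∈ perp D u := by
  have e : x * y * x = x * y * x⁻¹ := by rw [Lc.inv_self hx.1]
  refine ⟨e ▸ Lc.conj x y hy.1, fun k => hy.2.1 ?_, (hx.2.2.mul_right hy.2.2).mul_right hx.2.2⟩
  calc y = x * (x * y * x) * x := by simp [← mul_assoc, Lc.sq x hx.1, mul_assoc (y : G)]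
    _ = u := by rw [k, ← hx.2.2.eq, mul_assoc, Lc.sq x hx.1, mul_one]

theorem common_triple {d f x y : G} (hx : x ∈ common D d f) (hy : y ∈ common D d f) :
    x * y * x ∈ common D d f := ⟨Lc.perp_triple hx.1 hy.1, Lc.perp_triple hx.2 hy.2⟩

theorem toWorld {u : G} (W : World D F u) {x y : G} (hx : x ∈ perp D u) (hy : y ∈ perp D u) :
    W.f y ∈ perp F (W.f x) ↔ y ∈ perp D x := by
  constructor
  · rintro ⟨-, hne, hc⟩
    exact ⟨hy.1, fun k => hne (by rw [k]), (W.comm x hx y hy).mp hc⟩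
  · rintro ⟨-, hne, hc⟩
    exact ⟨W.mem y hy, fun k => hne (W.inj y hy x hx k), (W.comm x hx y hy).mpr hc⟩

theorem apart_world {u : G} (W : World D F u) {x y : G} (hx : x ∈ perp D u) (hy : y ∈ perp D u)
    (h : ¬ Commute x y) : ¬ Commute (W.f x) (W.f y) := fun k => h ((W.comm x hx y hy).mp k)

theorem linked {d f u : G} (hd : d ∈ D) (hf : f ∈ D) (hdf : ¬ Commute d f) (hu : u ∈ common D d f) :
    ∃ y ∈ common D d f, y ≠ u ∧ Commute u y := by
  obtain ⟨W⟩ := Lc.world u hu.1.1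
  have du := Lc.psymm hd hu.1
  have fu := Lc.psymm hf hu.2
  obtain ⟨r, hr⟩ := Lc.ctx.meets _ (W.mem d du) _ (W.mem f fu) (Lc.apart_world W du fu hdf)
  obtain ⟨y, hy, rfl⟩ := W.surj r hr.1.1
  exact ⟨y, ⟨(Lc.toWorld W du hy).mp hr.1, (Lc.toWorld W fu hy).mp hr.2⟩, hy.2.1, hy.2.2⟩

/-- A member of a world meets the common perpendicular there. -/
theorem z_lemma {d f w : G} (hd : d ∈ D) (hf : f ∈ D) (hdf : ¬ Commute d f) {x : G}
    (hx : x ∈ common D d f) (hw : w ∈ perp D d) (hxw : ¬ Commute x w) :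
    ∃ z ∈ common D d f, Commute z x ∧ Commute z w := by
  obtain ⟨Wd⟩ := Lc.world d hd
  let S' : Set K := Wd.f '' common D d f
  obtain ⟨r, ⟨z, hz, rfl⟩, hzx, hzw⟩ := M22.meet Lc.ctx (S := S') (x := Wd.f x) (w := Wd.f w)
    (fun r ⟨u, hu, e⟩ => e ▸ Wd.mem u hu.1)
    (by
      rintro _ ⟨u, hu, rfl⟩ _ ⟨v, hv, rfl⟩ -
      exact ⟨u * v * u, Lc.common_triple hu hv, Wd.triple u hu.1 v hv.1⟩)
    (by
      rintro _ ⟨u, hu, rfl⟩
      obtain ⟨y, hy, hne, hc⟩ := Lc.linked hd hf hdf hu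
      exact ⟨_, ⟨y, hy, rfl⟩, (Lc.toWorld Wd hu.1 hy.1).mpr ⟨hy.1.1, hne, hc⟩⟩)
    (by
      rintro _ ⟨u, hu, rfl⟩ _ ⟨v, hv, rfl⟩ hvu c hc
      obtain ⟨c, hcd, rfl⟩ := Wd.surj c hc.1.1
      have kvu := (Lc.toWorld Wd hu.1 hv.1).mp hvu
      have kcu := (Lc.toWorld Wd hu.1 hcd).mp hc.1
      have kcv := (Lc.toWorld Wd hv.1 hcd).mp hc.2
      obtain ⟨Wu⟩ := Lc.world u hu.1.1
      have du := Lc.psymm hd hu.1
      have fu := Lc.psymm hf hu.2
      obtain ⟨e, he, e1, e2, htw⟩ := M22.line_meet Lc.ctx (Wu.mem v kvu)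
        ((Lc.toWorld Wu kvu du).mpr (Lc.psymm hd hv.1)) ((Lc.toWorld Wu kvu fu).mpr (Lc.psymm hf hv.2))
        (Lc.apart_world Wu du fu hdf) ((Lc.toWorld Wu kvu kcu).mpr kcv)
        ((Wu.comm c kcu d du).mpr hcd.2.2.symm) (fun k => hcd.2.1 (Wu.inj c kcu d du k))
      obtain ⟨e, heu, rfl⟩ := Wu.surj e he.1
      have kev := (Lc.toWorld Wu kvu heu).mp he
      have ked := (Wu.comm e heu d du).mp e1
      have kef := (Wu.comm e heu f fu).mp e2
      have hed : e ∈ perp D d := ⟨heu.1, fun k => hdf (k ▸ kef), ked.symm⟩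
      refine ⟨_, ⟨e, ⟨hed, ⟨heu.1, fun k => hdf ((k ▸ ked).symm), kef.symm⟩⟩, rfl⟩,
        ⟨(Lc.toWorld Wd hu.1 hed).mpr heu, (Lc.toWorld Wd hv.1 hed).mpr kev⟩, fun y hy => ?_⟩
      obtain ⟨y, hyd, rfl⟩ := Wd.surj y hy.1.1
      have kyu := (Lc.toWorld Wd hu.1 hyd).mp hy.1
      have kyv := (Lc.toWorld Wd hv.1 hyd).mp hy.2
      have := htw _ ((Lc.toWorld Wu kvu kyu).mpr kyv) ((Wu.comm y kyu d du).mpr hyd.2.2.symm)
      rw [Wu.comm y kyu c kcu, Wu.comm y kyu e heu] at this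
      rw [Wd.comm y hyd c hcd, Wd.comm y hyd e hed]
      exact this)
    (by
      rintro _ ⟨u, hu, rfl⟩ _ ⟨v, hv, rfl⟩ hvu _ ⟨e, he, rfl⟩ _ ⟨e', he', rfl⟩ k k' htw
      have kvu := (Lc.toWorld Wd hu.1 hv.1).mp hvu
      have keu := (Lc.toWorld Wd hu.1 he.1).mp k.1
      have kev := (Lc.toWorld Wd hv.1 he.1).mp k.2
      have keu' := (Lc.toWorld Wd hu.1 he'.1).mp k'.1
      have kev' := (Lc.toWorld Wd hv.1 he'.1).mp k'.2
      obtain ⟨Wu⟩ := Lc.world u hu.1.1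
      have du := Lc.psymm hd hu.1
      have fu := Lc.psymm hf hu.2
      have := M22.line_unique Lc.ctx (Wu.mem v kvu) ((Lc.toWorld Wu kvu du).mpr (Lc.psymm hd hv.1))
        ((Lc.toWorld Wu kvu fu).mpr (Lc.psymm hf hv.2)) (Lc.apart_world Wu du fu hdf)
        ((Lc.toWorld Wu kvu keu).mpr kev) ((Lc.toWorld Wu kvu keu').mpr kev')
        ((Wu.comm e keu d du).mpr he.1.2.2.symm) ((Wu.comm e keu f fu).mpr he.2.2.2.symm)
        ((Wu.comm e' keu' d du).mpr he'.1.2.2.symm) ((Wu.comm e' keu' f fu).mpr he'.2.2.2.symm)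
        fun y hy hne hyc => by
          obtain ⟨y, hyu, rfl⟩ := Wu.surj y hy.1
          have kyv := (Lc.toWorld Wu kvu hyu).mp hy
          have hyd : y ∈ perp D d := ⟨hyu.1, fun q => hne (by rw [q]), ((Wu.comm y hyu d du).mp hyc).symm⟩
          have := htw _ ⟨(Lc.toWorld Wd hu.1 hyd).mpr hyu, (Lc.toWorld Wd hv.1 hyd).mpr kyv⟩
          rw [Wd.comm y hyd e he.1, Wd.comm y hyd e' he'.1] at this
          rw [Wu.comm y hyu e keu, Wu.comm y hyu e' keu']
          exact this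
      rw [Wu.inj e keu e' keu' this])
    ⟨x, hx, rfl⟩ (Wd.mem w hw) (Lc.apart_world Wd hx.1 hw hxw)
  exact ⟨z, hz, ((Wd.comm x hx.1 z hz.1).mp hzx.2.2).symm, (Wd.comm z hz.1 w hw).mp hzw⟩

theorem near_symm {a b : G} (h : Near D a b) : Near D b a := by
  rcases h with h | h | ⟨z, hz, h1, h2⟩
  exacts [Or.inl h.symm, Or.inr (Or.inl h.symm), Or.inr (Or.inr ⟨z, hz, h2, h1⟩)]

/-- One more step keeps the distance at most two. -/
theorem near_step {d f y : G} (hd : d ∈ D) (hf : f ∈ D) (hy : y ∈ D) (h : Near D d f) (hc : Commute f y) :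
    Near D d y := by
  by_cases hdy : d = y ∨ Commute d y
  · exact hdy.elim Or.inl fun k => Or.inr (Or.inl k)
  push Not at hdy
  have hfy : f ≠ y → y ∈ perp D f := fun k => ⟨hy, Ne.symm k, hc⟩
  by_cases efy : f = y
  · exact efy ▸ h
  by_cases hdf : Commute d f
  · by_cases edf : d = f
    · exact absurd (edf ▸ hc) hdy.2
    · exact Or.inr (Or.inr ⟨f, hf, ⟨hf, Ne.symm edf, hdf⟩, hf, efy, hc.symm⟩)
  rcases h with h | h | ⟨e, he, hed, hef⟩
  · exact absurd (h ▸ Commute.refl f) hdf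
  · exact absurd h hdf
  have good : ∀ z : G, z ∈ perp D d → Commute z y → Near D d y := fun z hz hzy =>
    Or.inr (Or.inr ⟨z, hz.1, hz, hz.1, fun k => hdy.2 (k ▸ hz.2.2), hzy.symm⟩)
  by_cases hey : Commute e y
  · exact good e hed hey
  · obtain ⟨z, hz, -, hzy⟩ := Lc.z_lemma hf hd (fun k => hdf k.symm) (x := e) ⟨hef, hed⟩ (hfy efy) hey
    exact good z hz.2 hzy

theorem near_trans {a b c : G} (ha : a ∈ D) (hb : b ∈ D) (hc : c ∈ D) (h1 : Near D a b) (h2 : Near D b c) :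
    Near D a c := by
  rcases h2 with h | h | ⟨z, hz, hzb, hzc⟩
  · exact h ▸ h1
  · exact Lc.near_step ha hb hc h1 h
  · exact Lc.near_step ha hz hc (Lc.near_step ha hb hz h1 hzb.2.2) hzc.2.2.symm

theorem near_conj {a b : G} (g : G) (h : Near D a b) : Near D (g * a * g⁻¹) (g * b * g⁻¹) := by
  have hc : ∀ {x y : G}, Commute x y → Commute (g * x * g⁻¹) (g * y * g⁻¹) := fun k =>
    k.map (MulAut.conj g).toMonoidHom
  have hp : ∀ {x y : G}, y ∈ perp D x → g * y * g⁻¹ ∈ perp D (g * x * g⁻¹) := fun k =>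
    ⟨Lc.conj g _ k.1, fun e => k.2.1 (mul_left_cancel (mul_right_cancel e)), hc k.2.2⟩
  rcases h with h | h | ⟨z, hz, h1, h2⟩
  · exact Or.inl (by rw [h])
  · exact Or.inr (Or.inl (hc h))
  · exact Or.inr (Or.inr ⟨_, Lc.conj g z hz, hp h1, hp h2⟩)

/-- Two near members are 3-transpositions. -/
theorem near_three {a b : G} (ha : a ∈ D) (hb : b ∈ D) (h : Near D a b) :
    (a * b) ^ 2 = 1 ∨ (a * b) ^ 3 = 1 := by
  have hc : Commute a b → (a * b) ^ 2 = 1 := fun k => by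
    rw [k.mul_pow, pow_two, pow_two, Lc.sq a ha, Lc.sq b hb, one_mul]
  rcases h with rfl | h | ⟨z, hz, haz, hbz⟩
  · exact Or.inl (hc (Commute.refl a))
  · exact Or.inl (hc h)
  by_cases k : Commute a b
  · exact Or.inl (hc k)
  obtain ⟨W⟩ := Lc.world z hz
  have az := Lc.psymm ha haz
  have bz := Lc.psymm hb hbz
  have e : a * b * a = b * a * b := W.inj _ (Lc.perp_triple az bz) _ (Lc.perp_triple bz az) (by
    rw [W.triple a az b bz, W.triple b bz a az]
    exact braid Lc.ctx.set.cls.1 (W.mem a az) (W.mem b bz) (Lc.apart_world W az bz k))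
  right
  calc (a * b) ^ 3 = (a * b * a) * (b * a * b) := by simp [pow_succ, mul_assoc]
    _ = (b * a * b) * (b * a * b) := by rw [e]
    _ = 1 := by
      rw [show b * a * b * (b * a * b) = b * (a * (b * b) * a) * b by simp [mul_assoc], Lc.sq b hb, mul_one,
        Lc.sq a ha, mul_one, Lc.sq b hb]

/-- Two commuting members are conjugate by neighbours. -/
theorem bridge {d e : G} (hd : d ∈ D) (he : e ∈ perp D d) :
    ∃ w : G, w ∈ D ∧ Near D d w ∧ ¬ Commute d w ∧ ¬ Commute e w := by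
  classical
  obtain ⟨Wd⟩ := Lc.world d hd
  have cn := M22.counts Lc.ctx
  obtain ⟨r, hr⟩ : (perp F (Wd.f e)).Nonempty :=
    Set.nonempty_of_ncard_ne_zero (by rw [cn.perp693 _ (Wd.mem e he)]; norm_num)
  obtain ⟨u, hu, rfl⟩ := Wd.surj r hr.1
  have hue := (Lc.toWorld Wd he hu).mp hr
  obtain ⟨Wu⟩ := Lc.world u hu.1
  have du := Lc.psymm hd hu
  have eu := Lc.psymm he.1 hue
  obtain ⟨q, hq, h1, h2⟩ : ∃ q ∈ F, ¬ Commute (Wu.f d) q ∧ ¬ Commute (Wu.f e) q := by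
    by_contra hno
    push Not at hno
    have hsub : F ⊆ insert (Wu.f d) (insert (Wu.f e) (perp F (Wu.f d) ∪ perp F (Wu.f e))) := by
      intro q hq
      by_cases k1 : q = Wu.f d
      · exact Or.inl k1
      by_cases k2 : q = Wu.f e
      · exact Or.inr (Or.inl k2)
      refine Or.inr (Or.inr ?_)
      by_cases k : Commute (Wu.f d) q
      · exact Or.inl ⟨hq, k1, k⟩
      · exact Or.inr ⟨hq, k2, hno q hq k⟩
    have h1 := (Set.ncard_le_ncard hsub (Set.toFinite _)).trans ((Set.ncard_insert_le _ _).trans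
      (Nat.add_le_add_right ((Set.ncard_insert_le _ _).trans
        (Nat.add_le_add_right (Set.ncard_union_le _ _) 1)) 1))
    rw [cn.all, cn.perp693 _ (Wu.mem d du), cn.perp693 _ (Wu.mem e eu)] at h1
    omega
  obtain ⟨w, hw, rfl⟩ := Wu.surj q hq
  exact ⟨w, hw.1, Or.inr (Or.inr ⟨u, hu.1, hu, hu.1, Ne.symm hw.2.1, hw.2.2.symm⟩),
    fun k => h1 ((Wu.comm d du w hw).mpr k), fun k => h2 ((Wu.comm e eu w hw).mpr k)⟩

end Loc

end Cfsg.Agent.Block.M23Up
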