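import Cfsg.Agent.Lib.Block.FischerTypes.M23Up.Clique
import Cfsg.Agent.Lib.Block.FischerTypes.M23Structure
import Cfsg.Agent.Lib.Fus.M23U.TypeOf.Main
import Cfsg.Agent.Lib.Spor.Cos.Fi22Mult.Top
import Cfsg.Agent.Lib.Spor.Cos.Fi23.Trans
import Cfsg.Agent.Lib.Spor.FischerPrimitive

/-! A quasisimple double cover of Fi22 is the centraliser of a transposition in Fi23. -/

set_option autoImplicit false
set_option linter.style.haveILetI false
set_option linter.unusedSectionVars false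
set_option maxRecDepth 20000

namespace Cfsg.Agent.Block.M23Up

open Cfsg Cfsg.Agent.Spor.ThreeTrans Cfsg.Agent.Block.FischerTypes
open Cfsg.Agent.Fus.M23U.TypeOf (classD)
open scoped commutatorElement

instance : Finite Spor.Fi23 := Cfsg.Agent.Spor.Cos.Fi23.finite

theorem tz_mem : Cfsg.Agent.Spor.Cos.Fi23.tz ∈ classD := Cfsg.Agent.Fus.M23U.TypeOf.tz_conj

/-- Fi23 satisfies the standing facts of type M(23). -/
theorem base_fi23 : M23.Base classD := by
  have hc : IsThreeTranspositionClass classD := by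
    rw [Cfsg.Agent.Fus.M23U.TypeOf.classD_eq]
    exact Cfsg.Agent.Spor.Cos.Fi23.isThreeTranspositionClass
  obtain ⟨hset, ⟨a, ha, e⟩, hgen⟩ := hc
  have hG : IsThreeTranspositionGroup classD := ⟨hset, fun g x hx => by
    rw [e] at hx ⊢
    exact hx.trans (_root_.isConj_iff.2 ⟨g, rfl⟩), hgen⟩
  have hcen := Cfsg.Agent.Fus.M23U.TypeOf.center_bot
  have hw : ∃ x ∈ classD, ∃ y ∈ classD, x ≠ y ∧ Commute x y := by
    obtain ⟨h1, h2, h3⟩ := Cfsg.Agent.Fus.M23U.TypeOf.nine_perp 0 (by norm_num)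
    exact ⟨_, tz_mem, _, h1, Ne.symm h2, h3⟩
  haveI := Cfsg.Agent.Spor.Cos.Fi23.isSimple
  have hcomm : commutator Spor.Fi23 = ⊤ :=
    (IsSimpleGroup.eq_bot_or_eq_top_of_normal _ inferInstance).resolve_left fun h => by
      rw [commutator_def, Subgroup.commutator_eq_bot_iff_le_centralizer] at h
      have htop : Subgroup.center Spor.Fi23 = ⊤ := eq_top_iff.2 fun x _ => Subgroup.mem_center_iff.2 fun y =>
        Subgroup.mem_centralizer_iff.1 (h (Subgroup.mem_top x)) y (Subgroup.mem_top y)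
      exact bot_ne_top (hcen.symm.trans htop)
  have hprim : IsPrimitiveUnderConj classD := by
    refine (Cfsg.Agent.Spor.FischerStr.primitive_iff ⟨hset, ⟨a, ha, e⟩, hgen⟩ hcen hw).1.1 ?_
    rw [hcomm]
    exact IsSimpleGroup.isSimpleGroup_of_surjective
      (Subgroup.topEquiv : (⊤ : Subgroup Spor.Fi23) ≃* Spor.Fi23).symm.toMonoidHom Subgroup.topEquiv.symm.surjective
  exact M23.base hG hprim Cfsg.Agent.Fus.M23U.TypeOf.isOfTypeM23

/-- Two perfect central extensions of Fi22 with kernels of order two are isomorphic over it. -/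
theorem cover_iso {C H : Type} [Group C] [Group H] [Finite C] [Finite H] (σ₁ : C →* Spor.Fi22) (σ₂ : H →* Spor.Fi22)
    (h₁ : Function.Surjective σ₁) (h₂ : Function.Surjective σ₂) (z₁ : σ₁.ker ≤ Subgroup.center C)
    (z₂ : σ₂.ker ≤ Subgroup.center H) (c₁ : Nat.card σ₁.ker = 2) (c₂ : Nat.card σ₂.ker = 2)
    (p₁ : commutator C = ⊤) (p₂ : commutator H = ⊤) :
    ∃ φ : C ≃* H, ∀ x, σ₂ (φ x) = σ₁ x := by
  haveI : Finite Spor.Fi22 := Cfsg.Agent.Spor.Cos.Fi22.finite
  let Γ : Subgroup (C × H) :=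
    MonoidHom.eqLocus (σ₁.comp (MonoidHom.fst C H)) (σ₂.comp (MonoidHom.snd C H))
  let q : ↥Γ →* Spor.Fi22 := (σ₁.comp (MonoidHom.fst C H)).comp Γ.subtype
  have hq : q.ker ≤ Subgroup.center ↥Γ := by
    intro p hp
    have e1 : σ₁ (p : C × H).1 = 1 := hp
    have e2 : σ₂ (p : C × H).2 = 1 := (show σ₁ (p : C × H).1 = σ₂ (p : C × H).2 from p.2) ▸ e1
    refine Subgroup.mem_center_iff.2 fun r => Subtype.ext (Prod.ext ?_ ?_)
    · exact Subgroup.mem_center_iff.1 (z₁ e1) _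
    · exact Subgroup.mem_center_iff.1 (z₂ e2) _
  let Δ := commutator ↥Γ
  let π₁ : ↥Δ →* C := ((MonoidHom.fst C H).comp Γ.subtype).comp Δ.subtype
  let π₂ : ↥Δ →* H := ((MonoidHom.snd C H).comp Γ.subtype).comp Δ.subtype
  have hs₁ : Function.Surjective π₁ := by
    rw [← MonoidHom.range_eq_top]
    have hsurj : Function.Surjective ((MonoidHom.fst C H).comp Γ.subtype) := fun x => by
      obtain ⟨y, hy⟩ := h₂ (σ₁ x)
      exact ⟨⟨(x, y), hy.symm⟩, rfl⟩
    rw [MonoidHom.range_comp, Subgroup.range_subtype]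
    show (commutator ↥Γ).map _ = ⊤
    rw [commutator_def, Subgroup.map_commutator,
      Subgroup.map_top_of_surjective _ hsurj, ← commutator_def, p₁]
  have hs₂ : Function.Surjective π₂ := by
    rw [← MonoidHom.range_eq_top]
    have hsurj : Function.Surjective ((MonoidHom.snd C H).comp Γ.subtype) := fun x => by
      obtain ⟨y, hy⟩ := h₁ (σ₂ x)
      exact ⟨⟨(y, x), hy⟩, rfl⟩
    rw [MonoidHom.range_comp, Subgroup.range_subtype]
    show (commutator ↥Γ).map _ = ⊤
    rw [commutator_def, Subgroup.map_commutator,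
      Subgroup.map_top_of_surjective _ hsurj, ← commutator_def, p₂]
  let σ : ↥Δ →* Spor.Fi22 := σ₁.comp π₁
  have hcompat : ∀ p : ↥Δ, σ₂ (π₂ p) = σ p := fun p => ((p : ↥Γ).2 : σ₁ _ = σ₂ _).symm
  have hσ : IsStemExtension σ := by
    refine ⟨h₁.comp hs₁, fun p hp => Subgroup.mem_center_iff.2 fun r =>
      Subtype.ext (Subgroup.mem_center_iff.1 (hq (show (p : ↥Γ) ∈ q.ker from hp)) _), ?_⟩
    have htop : Δ ⊔ Subgroup.center ↥Γ = ⊤ := eq_top_iff.2 fun g _ => by
      obtain ⟨p, hp⟩ := (h₁.comp hs₁) (q g)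
      have hp' : q (p : ↥Γ) = q g := hp
      refine mul_inv_cancel_left (p : ↥Γ) g ▸ Subgroup.mul_mem_sup p.2 (hq ?_)
      rw [MonoidHom.mem_ker, map_mul, map_inv, hp', inv_mul_cancel]
    have hle : commutator ↥Γ ≤ ⁅Δ, Δ⁆ := by
      refine (Subgroup.commutator_le).2 fun g _ g' _ => ?_
      obtain ⟨a, ha, z, hz, rfl⟩ := Subgroup.mem_sup_of_normal_right.1 (htop.ge (Subgroup.mem_top g))
      obtain ⟨b, hb, w, hw, rfl⟩ := Subgroup.mem_sup_of_normal_right.1 (htop.ge (Subgroup.mem_top g'))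
      have e1 := Subgroup.mem_center_iff.1 hz
      have e2 := Subgroup.mem_center_iff.1 hw
      have e : ⁅a * z, b * w⁆ = ⁅a, b⁆ := by
        rw [commutatorElement_def, commutatorElement_def]
        calc a * z * (b * w) * (a * z)⁻¹ * (b * w)⁻¹ = a * (z * b) * (w * z⁻¹ * a⁻¹) * w⁻¹ * b⁻¹ := by group
          _ = a * (b * z) * (z⁻¹ * a⁻¹ * w) * w⁻¹ * b⁻¹ := by rw [← e1 b, mul_assoc w, ← e2 (z⁻¹ * a⁻¹)]
          _ = a * b * a⁻¹ * b⁻¹ := by group
      rw [e]
      exact Subgroup.commutator_mem_commutator ha hb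
    intro p _
    have := Subgroup.map_commutator (⊤ : Subgroup ↥Δ) ⊤ Δ.subtype
    rw [← MonoidHom.range_eq_map, Subgroup.range_subtype] at this
    obtain ⟨p', hp', e⟩ := this.symm ▸ hle p.2
    exact Subtype.ext e ▸ (commutator_def ↥Δ ▸ hp')
  obtain ⟨c, hc, -, hle⟩ := Cfsg.Agent.Spor.Cos.Fi22Mult.exists_gen σ hσ
  have hsq : ∀ x ∈ σ.ker, x * x = 1 := by
    intro x hx
    have e1 : π₁ x ∈ σ₁.ker := hx
    have e2 : π₂ x ∈ σ₂.ker := (hcompat x).trans hx
    have k1 : π₁ x * π₁ x = 1 := by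
      have h := orderOf_dvd_natCard (⟨_, e1⟩ : σ₁.ker)
      rw [c₁, orderOf_dvd_iff_pow_eq_one, pow_two] at h
      exact congrArg Subtype.val h
    have k2 : π₂ x * π₂ x = 1 := by
      have h := orderOf_dvd_natCard (⟨_, e2⟩ : σ₂.ker)
      rw [c₂, orderOf_dvd_iff_pow_eq_one, pow_two] at h
      exact congrArg Subtype.val h
    exact Subtype.ext (Subtype.ext (Prod.ext k1 k2))
  have hker : Nat.card σ.ker ≤ 2 := by
    rw [le_antisymm hle ((Subgroup.zpowers_le).2 hc), Nat.card_zpowers]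
    exact Nat.le_of_dvd (by norm_num) (orderOf_dvd_of_pow_eq_one (by rw [pow_two]; exact hsq c hc))
  have card_cover : ∀ {X : Type} [Group X] [Finite X] (τ : X →* Spor.Fi22), Function.Surjective τ →
      Nat.card X = Nat.card τ.ker * Nat.card Spor.Fi22 := fun {X} _ _ τ hτ => by
    rw [← τ.ker.card_mul_index, Subgroup.index_ker, MonoidHom.range_eq_top.2 hτ, Subgroup.card_top]
  have hΔ : Nat.card ↥Δ ≤ 2 * Nat.card Spor.Fi22 := by
    rw [card_cover σ (h₁.comp hs₁)]
    exact Nat.mul_le_mul_right _ hker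
  have hb : ∀ {X : Type} [Group X] [Finite X] (τ : X →* Spor.Fi22), Function.Surjective τ → Nat.card τ.ker = 2 →
      ∀ f : ↥Δ →* X, Function.Surjective f → Function.Bijective f := fun {X} _ _ τ hτ hk f hf =>
    (Nat.bijective_iff_surjective_and_card f).2 ⟨hf, le_antisymm
      (hΔ.trans_eq (by rw [card_cover τ hτ, hk])) (Nat.card_le_card_of_surjective f hf)⟩
  let e₁ := MulEquiv.ofBijective π₁ (hb σ₁ h₁ c₁ π₁ hs₁)
  let e₂ := MulEquiv.ofBijective π₂ (hb σ₂ h₂ c₂ π₂ hs₂)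
  refine ⟨e₁.symm.trans e₂, fun x => ?_⟩
  show σ₂ (π₂ (e₁.symm x)) = σ₁ x
  rw [hcompat]
  exact congrArg σ₁ (e₁.apply_symm_apply x)

/-- The centraliser of the involution is that of a transposition of Fi23. -/
theorem exists_iso_perp {G : Type*} [Group G] [Finite G] {d : G} (hd : orderOf d = 2)
    (hq : IsQuasisimple ↥(Subgroup.centralizer ({d} : Set G)))
    [hzn : ((Subgroup.zpowers d).subgroupOf (Subgroup.centralizer ({d} : Set G))).Normal]
    (e : Nonempty (↥(Subgroup.centralizer ({d} : Set G)) ⧸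
      (Subgroup.zpowers d).subgroupOf (Subgroup.centralizer ({d} : Set G)) ≃* Spor.Fi22)) :
    ∃ φ : ↥(Subgroup.centralizer ({d} : Set G)) ≃* ↥(PerpGroup classD Cfsg.Agent.Spor.Cos.Fi23.tz),
      ∀ h : d ∈ Subgroup.centralizer ({d} : Set G),
        ((φ ⟨d, h⟩ : ↥(PerpGroup classD Cfsg.Agent.Spor.Cos.Fi23.tz)) : Spor.Fi23) =
          Cfsg.Agent.Spor.Cos.Fi23.tz := by
  obtain ⟨e⟩ := e
  let C := ↥(Subgroup.centralizer ({d} : Set G))
  have hdC : d ∈ Subgroup.centralizer ({d} : Set G) := Subgroup.mem_centralizer_singleton_iff.2 rfl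
  haveI : Small.{0} C := small_of_injective (Finite.equivFin C).injective
  let s : Shrink.{0} C ≃* C := Shrink.mulEquiv
  let σ₁ : C →* Spor.Fi22 := e.toMonoidHom.comp (QuotientGroup.mk' _)
  let σ₁' : Shrink.{0} C →* Spor.Fi22 := σ₁.comp s.toMonoidHom
  haveI : Finite (Shrink.{0} C) := Finite.of_equiv C s.symm.toEquiv
  have hs₁ : Function.Surjective σ₁ := e.surjective.comp (QuotientGroup.mk'_surjective _)
  have hk₁ : σ₁.ker = (Subgroup.zpowers d).subgroupOf (Subgroup.centralizer ({d} : Set G)) := by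
    show (e.toMonoidHom.comp (QuotientGroup.mk' _)).ker = _
    exact (MonoidHom.ker_mulEquiv_comp _ e).trans (QuotientGroup.ker_mk' _)
  have hk : σ₁'.ker = σ₁.ker.comap s.toMonoidHom := rfl
  have c₁ : Nat.card σ₁'.ker = 2 := by
    rw [hk, Nat.card_congr (α := ↥(σ₁.ker.comap s.toMonoidHom)) (β := ↥σ₁.ker)
      (s.toEquiv.subtypeEquiv fun x => Iff.rfl), hk₁,
      Nat.card_congr (Subgroup.subgroupOfEquivOfLe (Subgroup.zpowers_le.2 hdC)).toEquiv, Nat.card_zpowers, hd]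
  have z₁ : σ₁'.ker ≤ Subgroup.center (Shrink.{0} C) := by
    intro x hx
    rw [hk, hk₁, Subgroup.mem_comap, Subgroup.mem_subgroupOf] at hx
    obtain ⟨n, hn⟩ := hx
    refine Subgroup.mem_center_iff.2 fun y => s.injective (Subtype.ext ?_)
    rw [map_mul, map_mul, Subgroup.coe_mul, Subgroup.coe_mul]
    show ((s y : C) : G) * ((s x : C) : G) = ((s x : C) : G) * ((s y : C) : G)
    rw [show ((s x : C) : G) = d ^ n from hn.symm]
    exact ((show Commute ((s y : C) : G) d from Subgroup.mem_centralizer_singleton_iff.1 (s y).2).zpow_right n).eq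
  have p₁ : commutator (Shrink.{0} C) = ⊤ := by
    rw [commutator_def, ← Subgroup.map_top_of_surjective s.symm.toMonoidHom s.symm.surjective,
      ← Subgroup.map_commutator, ← commutator_def, hq.1.commutator_eq_top]
  have B := base_fi23
  obtain ⟨q, -⟩ := Cfsg.Agent.Fus.M23U.TypeOf.quot_model
  let σ₂ : ↥(PerpGroup classD Cfsg.Agent.Spor.Cos.Fi23.tz) →* Spor.Fi22 :=
    q.symm.toMonoidHom.comp (QuotientGroup.mk' _)
  have hk₂ : σ₂.ker = Subgroup.center ↥(PerpGroup classD Cfsg.Agent.Spor.Cos.Fi23.tz) := by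
    show (q.symm.toMonoidHom.comp (QuotientGroup.mk' _)).ker = _
    exact (MonoidHom.ker_mulEquiv_comp _ q.symm).trans (QuotientGroup.ker_mk' _)
  obtain ⟨φ, hφ⟩ := cover_iso σ₁' σ₂ (hs₁.comp s.surjective) (q.symm.surjective.comp (QuotientGroup.mk'_surjective _))
    z₁ hk₂.le c₁ (by rw [hk₂]; exact card_center B tz_mem) p₁
    (M23.quasisimple B tz_mem).1.commutator_eq_top
  refine ⟨s.symm.trans φ, fun h => ?_⟩
  have hx : φ (s.symm ⟨d, h⟩) ∈ σ₂.ker := by
    rw [MonoidHom.mem_ker, hφ]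
    show σ₁ (s (s.symm ⟨d, h⟩)) = 1
    rw [s.apply_symm_apply, ← MonoidHom.mem_ker, hk₁, Subgroup.mem_subgroupOf]
    exact Subgroup.mem_zpowers d
  rw [hk₂, M23.centre B tz_mem, Subgroup.mem_subgroupOf] at hx
  obtain ⟨n, hn⟩ := hx
  have hsq : Cfsg.Agent.Spor.Cos.Fi23.tz ^ (2 : ℤ) = 1 := by
    rw [zpow_two]
    exact mul_self B.set.cls.1 tz_mem
  have hne : φ (s.symm ⟨d, h⟩) ≠ 1 := fun k => by
    have e : (⟨d, h⟩ : C) = 1 := s.symm.injective ((φ.injective (k.trans φ.map_one.symm)).trans s.symm.map_one.symm)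
    have e' : d = 1 := congrArg Subtype.val e
    rw [e', orderOf_one] at hd
    omega
  rcases Int.even_or_odd' n with ⟨k, rfl | rfl⟩
  · exfalso
    refine hne (Subtype.ext ?_)
    change _ ^ (2 * k) = _ at hn
    rw [zpow_mul, hsq, one_zpow] at hn
    exact hn.symm
  · change _ ^ (2 * k + 1) = _ at hn
    rw [zpow_add, zpow_mul, hsq, one_zpow, one_mul, zpow_one] at hn
    exact hn.symm

end Cfsg.Agent.Block.M23Up
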