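import Cfsg.Agent.Lib.Block.FischerTypes.M23Up.Fusion

/-! The Thompson subgroup of a Sylow 2-subgroup of the centraliser. -/

set_option autoImplicit false
set_option linter.style.haveILetI false
set_option linter.unusedSectionVars false

namespace Cfsg.Agent.Block.M23Up

open Cfsg Cfsg.Agent.Spor.ThreeTrans Cfsg.Agent.Block.FischerTypes

variable {G : Type*} [Group G] [Finite G] {d : G} {M : Type*} [Group M] [Finite M] {E : Set M} {d₀ : M}

namespace Ident

variable (I : Ident d E d₀)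
include I

theorem thompson_eq (S : Sylow 2 ↥(Subgroup.centralizer ({d} : Set G))) :
    ∃ T : Sylow 2 ↥(PerpGroup E d₀), I.grp T =
      (thompsonSubgroupOf 2 (S : Subgroup ↥(Subgroup.centralizer ({d} : Set G)))).map
        (Subgroup.centralizer ({d} : Set G)).subtype := by
  let T : Sylow 2 ↥(PerpGroup E d₀) := S.mapSurjective (f := I.iso.toMonoidHom) I.iso.surjective
  refine ⟨T, ?_⟩
  let P : Subgroup ↥(Subgroup.centralizer ({d} : Set G)) := S
  let j : ↥P →* G := (Subgroup.centralizer ({d} : Set G)).subtype.comp P.subtype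
  have hj : Function.Injective j := Subtype.val_injective.comp Subtype.val_injective
  have hR : j.range = P.map (Subgroup.centralizer ({d} : Set G)).subtype := by
    rw [MonoidHom.range_comp, Subgroup.range_subtype]
  have hRp : IsPGroup 2 ↥j.range := hR ▸ (S.2.map _)
  have hRC : j.range ≤ Subgroup.centralizer ({d} : Set G) := hR ▸ Subgroup.map_subtype_le _
  have hA : I.grp T ≤ j.range := by
    rw [hR]
    rintro _ ⟨y, hy, rfl⟩
    obtain ⟨y', hy', e⟩ := big_le T hy
    obtain ⟨x, hx, e'⟩ := hy'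
    refine ⟨x, hx, ?_⟩
    rw [← Subtype.ext e, ← e']
    exact (I.emb_iso x).symm
  let A₀ : Subgroup ↥P := (I.grp T).comap j
  have hA₀ : A₀.map j = I.grp T := Subgroup.map_comap_eq_self hA
  have hcard : ∀ B : Subgroup ↥P, Nat.card ↥(B.map j) = Nat.card ↥B := fun B =>
    (Nat.card_congr (B.equivMapOfInjective j hj).toEquiv).symm
  have hel₀ : IsElementaryAbelian 2 A₀ := Elem.isElementaryAbelian
    ⟨fun x hx y hy => hj (by rw [map_mul, map_mul]; exact (I.grp_elem T).1 _ hx _ hy),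
      fun x hx => hj (by rw [map_mul, map_one]; exact (I.grp_elem T).2 _ hx)⟩
  have hc₀ : 2 ^ 11 ≤ Nat.card ↥A₀ := by
    rw [← hcard, hA₀, I.card_grp T]
  have hmax : ∀ B ∈ maxElementaryAbelianSubgroups 2 ↥P, B = A₀ := by
    intro B hB
    refine Subgroup.map_injective hj ?_
    rw [hA₀]
    exact I.uniq_cent j.range hRC hRp (B.map j) (I.grp T) (Subgroup.map_le_range j B) hA
      ((Elem.of_isElementaryAbelian hB.1).map j) (I.grp_elem T)
      (by rw [hcard]; exact hc₀.trans (hB.2 _ hel₀)) (I.card_grp T).ge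
  have hA₀max : A₀ ∈ maxElementaryAbelianSubgroups 2 ↥P := by
    obtain ⟨B, hB, hBmax⟩ := Set.exists_max_image {B : Subgroup ↥P | IsElementaryAbelian 2 B}
      (fun B => Nat.card ↥B) (Set.toFinite _) ⟨A₀, hel₀⟩
    exact hmax B ⟨hB, hBmax⟩ ▸ ⟨hB, hBmax⟩
  have hJ : thompsonSubgroup 2 ↥P = A₀ :=
    le_antisymm (sSup_le fun B hB => (hmax B hB).le) (le_sSup hA₀max)
  show I.grp T = ((thompsonSubgroup 2 ↥P).map P.subtype).map (Subgroup.centralizer ({d} : Set G)).subtype
  rw [Subgroup.map_map, hJ]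
  exact hA₀.symm

/-- The conclusion about the Thompson subgroup. -/
theorem thompson_facts (hnwc : ∃ g : G, g * d * g⁻¹ ∈ Subgroup.centralizer ({d} : Set G) ∧ g * d * g⁻¹ ≠ d)
    (S : Sylow 2 ↥(Subgroup.centralizer ({d} : Set G))) (A : Subgroup G)
    (hA : A = (thompsonSubgroupOf 2 (S : Subgroup ↥(Subgroup.centralizer ({d} : Set G)))).map
      (Subgroup.centralizer ({d} : Set G)).subtype) :
    IsElementaryAbelian 2 A ∧ Nat.card A = 2 ^ 11 ∧ Set.ncard {x : G | x ∈ A ∧ IsConj d x} = 23 ∧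
      ∀ x ∈ A, ∀ y ∈ A, IsConj d x → IsConj d y → ∃ n ∈ Subgroup.normalizer (A : Set G), n * x * n⁻¹ = y := by
  obtain ⟨T, e⟩ := I.thompson_eq S
  rw [← e] at hA
  subst hA
  obtain ⟨c, h23, -⟩ := I.conj_in_grp T hnwc
  refine ⟨(I.grp_elem T).isElementaryAbelian, I.card_grp T, h23, fun x hx y hy hxc hyc => ?_⟩
  obtain ⟨n, hn, hnx⟩ := I.fusion_d T hx hxc
  obtain ⟨m, hm, hmy⟩ := I.fusion_d T hy hyc
  refine ⟨m * n⁻¹, mul_mem hm (inv_mem hn), ?_⟩
  rw [← hnx, ← hmy]
  group

end Ident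

end Cfsg.Agent.Block.M23Up
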