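import Cfsg.Agent.Lib.Block.FischerTypes.M22Thompson.Main

/-! The largest elementary abelian subgroups of a Sylow two-subgroup in type M(22). -/

set_option autoImplicit false
set_option linter.style.haveILetI false
set_option linter.unusedSectionVars false

namespace Cfsg.Agent.Block.M23Up

open Cfsg Cfsg.Agent.Spor.ThreeTrans Cfsg.Agent.Block.FischerTypes Cfsg.Agent.Block.FischerTypes.M22Thompson Cfsg.Agent.Block.FischerTypes.U6Code

variable {G : Type*} [Group G] [Finite G] {D : Set G}

/-- An elementary abelian two-group. -/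
def Elem {X : Type*} [Group X] (A : Subgroup X) : Prop :=
  (∀ x ∈ A, ∀ y ∈ A, Commute x y) ∧ ∀ x ∈ A, x * x = 1

theorem Elem.map {X Y : Type*} [Group X] [Group Y] {A : Subgroup X} (h : Elem A) (f : X →* Y) :
    Elem (A.map f) := by
  refine ⟨?_, ?_⟩
  · rintro _ ⟨x, hx, rfl⟩ _ ⟨y, hy, rfl⟩
    exact (h.1 x hx y hy).map f
  · rintro _ ⟨x, hx, rfl⟩
    rw [← map_mul, h.2 x hx, map_one]

theorem Elem.isPGroup {X : Type*} [Group X] {A : Subgroup X} (h : Elem A) : IsPGroup 2 ↥A :=
  fun x => ⟨1, Subtype.ext (by rw [pow_one]; exact (pow_two (x : X)).trans (h.2 x x.2))⟩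

theorem Elem.isElementaryAbelian {X : Type*} [Group X] {A : Subgroup X} (h : Elem A) :
    IsElementaryAbelian 2 A :=
  ⟨⟨⟨fun x y => Subtype.ext (h.1 x x.2 y y.2).eq⟩⟩, fun x hx => by rw [pow_two]; exact h.2 x hx⟩

theorem Elem.of_isElementaryAbelian {X : Type*} [Group X] {A : Subgroup X} (h : IsElementaryAbelian 2 A) :
    Elem A :=
  ⟨fun x hx y hy => congrArg Subtype.val (h.1.is_comm.comm ⟨x, hx⟩ ⟨y, hy⟩),
    fun x hx => by rw [← pow_two]; exact h.2 x hx⟩

variable (C : M22.Ctx D)
include C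

/-- The members in a Sylow two-subgroup: 22 of them, generating 2^10. -/
theorem top_clique (T : Sylow 2 G) : {x : G | x ∈ D ∧ x ∈ (T : Subgroup G)}.ncard = 22 ∧
    Nat.card ↥(Subgroup.closure {x : G | x ∈ D ∧ x ∈ (T : Subgroup G)}) = 1024 ∧
    Elem (Subgroup.closure {x : G | x ∈ D ∧ x ∈ (T : Subgroup G)}) := by
  classical
  obtain ⟨a, s, M, hPT, e, he, -, -, hset⟩ := shape C T
  have hE : Subgroup.closure {x : G | x ∈ D ∧ x ∈ (T : Subgroup G)} = E s M := by
    rw [hset]
    refine le_antisymm ((Subgroup.closure_le _).mpr ?_) ?_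
    · rintro x (rfl | ⟨i, hi, rfl⟩)
      exacts [a_mem_E s M, pt_mem_E s M hi]
    · have key : ∀ S, eS M S ∈ Subgroup.closure (insert a {x | ∃ i < 21, M.pt (pl i) = x}) := by
        intro S
        have : ∀ w : List ℕ, (∀ x ∈ w, x ∈ bas) →
            Cfsg.Agent.Grp.M22Local.el M w ∈ Subgroup.closure (insert a {x | ∃ i < 21, M.pt (pl i) = x}) := by
          intro w
          induction w with
          | nil => intro _; exact one_mem _
          | cons p w ih =>
            intro hw
            refine mul_mem (ih fun x hx => hw x (List.mem_cons_of_mem _ hx)) (Subgroup.subset_closure (Or.inr ?_))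
            obtain ⟨i, hi, hip⟩ := bas_plane (hw p List.mem_cons_self)
            exact ⟨i, hi, by rw [hip]⟩
        exact this _ (M22Thompson.subW_sub bas S)
      rintro g ⟨S, -, rfl | rfl⟩
      · exact key S
      · exact mul_mem (Subgroup.subset_closure (Or.inl rfl)) (key S)
  refine ⟨?_, ?_, ?_⟩
  · have e1 : ({x | ∃ i < 21, M.pt (pl i) = x} : Set G) = ↑((Finset.range 21).image fun i => M.pt (pl i)) := by
      ext x; simp
    rw [hset, Set.ncard_insert_of_notMem (by rintro ⟨i, hi, k⟩; exact (M.mem _ (plane_pt hi)).2.1 k) (Set.toFinite _), e1,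
      Set.ncard_coe_finset, Finset.card_image_of_injOn, Finset.card_range]
    intro i hi k hk e2
    exact pl_inj (Finset.mem_range.mp hi) (Finset.mem_range.mp hk)
      (M.inj _ _ (plane_pt (Finset.mem_range.mp hi)) (plane_pt (Finset.mem_range.mp hk)) e2)
  · rw [hE]
    exact le_antisymm (card_E_le s M) (card_E_ge s M)
  · rw [hE]
    exact ⟨fun x hx y hy => E_comm s M hx hy, fun x hx => E_sq s M hx⟩

/-- An elementary abelian subgroup of order at least 2^10 is generated by the members. -/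
theorem top_eq (T : Sylow 2 G) {A : Subgroup G} (hA : A ≤ (T : Subgroup G)) (hel : Elem A)
    (hc : 1024 ≤ Nat.card ↥A) : A = Subgroup.closure {x : G | x ∈ D ∧ x ∈ (T : Subgroup G)} := by
  classical
  obtain ⟨-, hJc, hJe⟩ := top_clique C T
  have hJ := M22Thompson.closure_eq C T
  set J := Subgroup.closure {x : G | x ∈ D ∧ x ∈ (T : Subgroup G)} with hJdef
  have hJT : J ≤ (T : Subgroup G) := (Subgroup.closure_le _).mpr fun x hx => hx.2
  have toT : ∀ {B : Subgroup G}, Elem B → IsElementaryAbelian 2 (B.subgroupOf (T : Subgroup G)) := fun hB =>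
    Elem.isElementaryAbelian ⟨fun x hx y hy => Subtype.ext (hB.1 x hx y hy).eq,
      fun x hx => Subtype.ext (hB.2 x hx)⟩
  have hcT : ∀ {B : Subgroup G}, B ≤ (T : Subgroup G) → Nat.card ↥(B.subgroupOf (T : Subgroup G)) = Nat.card ↥B :=
    fun hB => Nat.card_congr (Subgroup.subgroupOfEquivOfLe hB).toEquiv
  obtain ⟨B, hB, hBmax⟩ := (Set.toFinite {B : Subgroup ↥(T : Subgroup G) | IsElementaryAbelian 2 B}).exists_maximalFor
    (fun B : Subgroup ↥(T : Subgroup G) => Nat.card ↥B) _ ⟨J.subgroupOf (T : Subgroup G), toT hJe⟩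
  have hmax : B ∈ maxElementaryAbelianSubgroups 2 ↥(T : Subgroup G) :=
    ⟨hB, fun B' hB' => (le_total (Nat.card ↥B') (Nat.card ↥B)).elim id fun k => hBmax hB' k⟩
  have hle : ∀ B' ∈ maxElementaryAbelianSubgroups 2 ↥(T : Subgroup G),
      B'.map (T : Subgroup G).subtype ≤ J := by
    intro B' hB'
    rw [hJ, thompsonSubgroupOf]
    exact Subgroup.map_mono (le_sSup hB')
  have hB1024 : Nat.card ↥B ≤ 1024 := by
    have := Subgroup.card_le_of_le (hle B hmax)
    rwa [hJc, Nat.card_congr (B.equivMapOfInjective _ (T : Subgroup G).subtype_injective).toEquiv.symm] at this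
  have hAmax : A.subgroupOf (T : Subgroup G) ∈ maxElementaryAbelianSubgroups 2 ↥(T : Subgroup G) :=
    ⟨toT hel, fun B' hB' => (hmax.2 B' hB').trans (hB1024.trans (by rw [hcT hA]; exact hc))⟩
  have h := hle _ hAmax
  rw [Subgroup.subgroupOf_map_subtype, inf_eq_left.mpr hA] at h
  exact Subgroup.eq_of_le_of_card_ge h (by rw [hJc]; exact hc)

end Cfsg.Agent.Block.M23Up
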