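import Cfsg.Agent.Lib.Block.FischerTypes.M23Up.Top

/-! Groups in which large elementary abelian subgroups are unique inside every two-subgroup: fusion. -/

set_option autoImplicit false
set_option linter.style.haveILetI false
set_option linter.unusedSectionVars false

namespace Cfsg.Agent.Block.M23Up

variable {G X : Type*} [Group G] [Group X]

/-- Two elementary abelian subgroups of order at least 2^11 in a two-subgroup of `H` coincide. -/
def Uniq (H : Subgroup G) : Prop :=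
  ∀ Q : Subgroup G, Q ≤ H → IsPGroup 2 ↥Q → ∀ A A' : Subgroup G, A ≤ Q → A' ≤ Q → Elem A → Elem A' →
    2 ^ 11 ≤ Nat.card ↥A → 2 ^ 11 ≤ Nat.card ↥A' → A = A'

theorem Uniq.mono {H K : Subgroup G} (h : Uniq K) (le : H ≤ K) : Uniq H :=
  fun Q hQ => h Q (hQ.trans le)

theorem Uniq.map {H : Subgroup X} (h : Uniq H) {f : X →* G} (hf : Function.Injective f) :
    Uniq (H.map f) := by
  intro Q hQ hp A A' hA hA' hel hel' hc hc'
  have hr : ∀ {K : Subgroup G}, K ≤ Q → (K.comap f).map f = K := fun hK =>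
    Subgroup.map_comap_eq_self ((hK.trans hQ).trans (Subgroup.map_le_range f H))
  have hcard : ∀ {K : Subgroup G}, K ≤ Q → Nat.card ↥(K.comap f) = Nat.card ↥K := fun {K} hK => by
    conv_rhs => rw [← hr hK]
    exact (Nat.card_congr ((K.comap f).equivMapOfInjective f hf).toEquiv)
  have hel2 : ∀ {K : Subgroup G}, Elem K → Elem (K.comap f) := fun hK =>
    ⟨fun x hx y hy => hf (by rw [map_mul, map_mul]; exact hK.1 _ hx _ hy),
      fun x hx => hf (by rw [map_mul, map_one]; exact hK.2 _ hx)⟩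
  have e := h (Q.comap f) (fun x hx => by
      obtain ⟨y, hy, e⟩ := hQ hx
      exact hf e ▸ hy)
    (hp.comap_of_injective f hf) (A.comap f) (A'.comap f) (Subgroup.comap_mono hA) (Subgroup.comap_mono hA')
    (hel2 hel) (hel2 hel') (by rw [hcard hA]; exact hc) (by rw [hcard hA']; exact hc')
  rw [← hr hA, ← hr hA', e]

/-- Fusion inside a subgroup of order 2^11 is induced by its normaliser. -/
theorem Uniq.fusion [Finite G] {H A : Subgroup G} (hU : Uniq H) (hel : Elem A) (hc : 2 ^ 11 ≤ Nat.card ↥A)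
    {Y : Set G} (hY : Y ⊆ A) {g : G} (hg : ∀ y ∈ Y, g * y * g⁻¹ ∈ A)
    (hH : Subgroup.centralizer ((fun y => g * y * g⁻¹) '' Y) ≤ H) :
    ∃ n ∈ Subgroup.normalizer (A : Set G), ∀ y ∈ Y, n * y * n⁻¹ = g * y * g⁻¹ := by
  classical
  haveI : Fact (Nat.Prime 2) := ⟨Nat.prime_two⟩
  set Z := Subgroup.centralizer ((fun y => g * y * g⁻¹) '' Y) with hZ
  set A₁ := A.map (MulAut.conj g).toMonoidHom with hA₁
  have hAZ : A ≤ Z := fun a ha => Subgroup.mem_centralizer_iff.mpr fun w hw => by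
    obtain ⟨y, hy, rfl⟩ := hw
    exact hel.1 _ (hg y hy) a ha
  have hA₁Z : A₁ ≤ Z := fun a ha => Subgroup.mem_centralizer_iff.mpr fun w hw => by
    obtain ⟨y, hy, rfl⟩ := hw
    obtain ⟨b, hb, rfl⟩ := ha
    exact ((hel.1 y (hY hy) b hb).map (MulAut.conj g).toMonoidHom).eq
  have hel₁ : Elem A₁ := hel.map _
  have hc₁ : 2 ^ 11 ≤ Nat.card ↥A₁ := by
    rwa [← Nat.card_congr (A.equivMapOfInjective _ (MulAut.conj g).injective).toEquiv]
  obtain ⟨P, hP⟩ := (hel.isPGroup.comap_of_injective Z.subtype Subtype.val_injective :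
    IsPGroup 2 ↥(A.subgroupOf Z)).exists_le_sylow
  obtain ⟨P₁, hP₁⟩ := (hel₁.isPGroup.comap_of_injective Z.subtype Subtype.val_injective :
    IsPGroup 2 ↥(A₁.subgroupOf Z)).exists_le_sylow
  obtain ⟨c, rfl⟩ := MulAction.exists_smul_eq ↥Z P₁ P
  set c' : G := (c : G)
  have hAP : A ≤ ((c • P₁ : Sylow 2 ↥Z) : Subgroup ↥Z).map Z.subtype := fun a ha =>
    ⟨⟨a, hAZ ha⟩, hP (show (⟨a, hAZ ha⟩ : ↥Z) ∈ A.subgroupOf Z from ha), rfl⟩
  have hA₁P : A₁.map (MulAut.conj c').toMonoidHom ≤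
      ((c • P₁ : Sylow 2 ↥Z) : Subgroup ↥Z).map Z.subtype := by
    rintro _ ⟨a, ha, rfl⟩
    refine ⟨c * ⟨a, hA₁Z ha⟩ * c⁻¹, ?_, rfl⟩
    exact Subgroup.smul_mem_pointwise_smul _ (MulAut.conj c) _ (hP₁ (show (⟨a, hA₁Z ha⟩ : ↥Z) ∈ _ from ha))
  have e := hU _ ((Subgroup.map_subtype_le _).trans hH) ((c • P₁).2.map Z.subtype) _ _ hA₁P hAP
    (hel₁.map _) hel (by rwa [← Nat.card_congr (A₁.equivMapOfInjective _ (MulAut.conj c').injective).toEquiv]) hc
  refine ⟨c' * g, ?_, fun y hy => ?_⟩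
  · rw [Subgroup.mem_normalizer_iff]
    intro x
    have key : A.map (MulAut.conj (c' * g)).toMonoidHom = A := by
      conv_rhs => rw [← e, hA₁, Subgroup.map_map]
      congr 1
      ext x
      simp [mul_assoc]
    constructor
    · intro hx
      rw [← key]
      exact ⟨x, hx, rfl⟩
    · intro hx
      rw [← SetLike.mem_coe, ← key] at hx
      obtain ⟨y, hy, e'⟩ := hx
      exact (MulAut.conj (c' * g)).injective e' ▸ hy
  · have := Subgroup.mem_centralizer_iff.mp c.2 _ ⟨y, hy, rfl⟩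
    calc c' * g * y * (c' * g)⁻¹ = c' * (g * y * g⁻¹) * c'⁻¹ := by simp [mul_assoc]
      _ = g * y * g⁻¹ := by rw [← this, mul_inv_cancel_right]

/-- A group generated by commuting involutions. -/
theorem elem_closure {S : Set G} (hc : ∀ x ∈ S, ∀ y ∈ S, Commute x y) (h2 : ∀ x ∈ S, x * x = 1) :
    Elem (Subgroup.closure S) := by
  have h1 : ∀ {w : G}, (∀ x ∈ S, Commute x w) → ∀ u ∈ Subgroup.closure S, Commute u w := fun {w} hw u hu => by
    have : Subgroup.closure S ≤ Subgroup.centralizer {w} := (Subgroup.closure_le _).mpr fun x hx =>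
      Subgroup.mem_centralizer_singleton_iff.mpr (hw x hx).eq
    exact Subgroup.mem_centralizer_singleton_iff.mp (this hu)
  refine ⟨fun x hx y hy => h1 (fun z hz => (h1 (fun w hw => hc w hw z hz) y hy).symm) x hx, fun x hx => ?_⟩
  induction hx using Subgroup.closure_induction with
  | mem x hx => exact h2 x hx
  | one => exact one_mul 1
  | mul x y hx hy e e' =>
    rw [(h1 (fun z hz => (h1 (fun w hw => hc w hw z hz) x hx).symm) y hy).mul_mul_mul_comm, e, e', one_mul]
  | inv x _ e => rw [← mul_inv_rev, e, inv_one]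

end Cfsg.Agent.Block.M23Up
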